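import Cfsg.Agent.Lib.PGroups.Basic

/-!
# Transitive groups whose non-identity elements fix at most four points

Basic tools: setwise stabilisers, fixed sets of conjugates, orbit bounds, and the embedded
subgroup arising when all `p`-elements of a Sylow subgroup have the same fixed set.
-/

set_option autoImplicit false

namespace CfsgLib.Fixity

open MulAction
open scoped Pointwise

variable {G Ω : Type*} [Group G] [MulAction G Ω]

/-- Every non-identity element fixes at most four points. -/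
def Small (G Ω : Type*) [Group G] [MulAction G Ω] : Prop :=
  ∀ g : G, g ≠ 1 → (fixedBy Ω g).ncard ≤ 4

/-- The setwise stabiliser. -/
def setStab (D : Set Ω) : Subgroup G where
  carrier := {g | ∀ a, g • a ∈ D ↔ a ∈ D}
  one_mem' a := by rw [one_smul]
  mul_mem' {g h} hg hh a := by rw [mul_smul, hg, hh]
  inv_mem' {g} hg a := by
    have h := hg (g⁻¹ • a)
    rw [smul_inv_smul] at h
    exact h.symm

theorem mem_setStab {D : Set Ω} {g : G} : g ∈ setStab D ↔ ∀ a, g • a ∈ D ↔ a ∈ D := Iff.rfl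

theorem mem_setStab_iff_image {D : Set Ω} {g : G} : g ∈ setStab D ↔ (g • ·) '' D = D := by
  rw [mem_setStab]
  constructor
  · intro h
    ext a
    constructor
    · rintro ⟨b, hb, rfl⟩
      exact (h b).2 hb
    · intro ha
      exact ⟨g⁻¹ • a, (h _).1 (by rwa [smul_inv_smul]), smul_inv_smul g a⟩
  · intro h a
    constructor
    · intro ha
      rw [← h] at ha
      obtain ⟨b, hb, he⟩ := ha
      exact smul_left_cancel g he ▸ hb
    · intro ha
      rw [← h]
      exact ⟨a, ha, rfl⟩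

theorem mem_setStab_of_maps [Finite Ω] {D : Set Ω} {g : G} (h : ∀ a ∈ D, g • a ∈ D) :
    g ∈ setStab D := by
  rw [mem_setStab_iff_image]
  refine Set.eq_of_subset_of_ncard_le (by rintro _ ⟨a, ha, rfl⟩; exact h a ha) ?_ D.toFinite
  rw [Set.ncard_image_of_injective _ (MulAction.injective g)]

theorem fixedBy_conj (g x : G) : fixedBy Ω (g * x * g⁻¹) = (g • ·) '' fixedBy Ω x := by
  ext a
  simp only [mem_fixedBy, Set.mem_image, mul_smul]
  constructor
  · intro h
    exact ⟨g⁻¹ • a, smul_left_cancel g (by rw [h, smul_inv_smul]), smul_inv_smul g a⟩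
  · rintro ⟨b, hb, rfl⟩
    rw [inv_smul_smul, hb]

theorem ncard_fixedBy_conj (g x : G) : (fixedBy Ω (g * x * g⁻¹)).ncard = (fixedBy Ω x).ncard := by
  rw [fixedBy_conj, Set.ncard_image_of_injective _ (MulAction.injective g)]

/-- A commuting element preserves the fixed set. -/
theorem mem_setStab_fixedBy {c x : G} (h : c * x = x * c) : c ∈ setStab (fixedBy Ω x) := by
  rw [mem_setStab_iff_image, ← fixedBy_conj, h, mul_inv_cancel_right]

theorem fixedBy_pow_le (x : G) (k : ℕ) : fixedBy Ω x ⊆ fixedBy Ω (x ^ k) := by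
  intro a ha
  rw [mem_fixedBy]
  induction k with
  | zero => rw [pow_zero, one_smul]
  | succ k ih => rw [pow_succ, mul_smul, mem_fixedBy.1 ha, ih]

theorem Small.eq_of_four [Finite Ω] (hs : Small G Ω) {x : G} (hx : x ≠ 1) {D : Set Ω}
    (hD : D ⊆ fixedBy Ω x) (h4 : 4 ≤ D.ncard) : fixedBy Ω x = D :=
  (Set.eq_of_subset_of_ncard_le hD ((hs x hx).trans h4)).symm

theorem Small.eq_one_of_union [Finite Ω] (hs : Small G Ω) {x : G} {D E : Set Ω}
    (hD : D ⊆ fixedBy Ω x) (hE : E ⊆ fixedBy Ω x) (h4 : 4 ≤ D.ncard) (hne : ¬ E ⊆ D) : x = 1 := by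
  by_contra hx
  exact hne (hE.trans (hs.eq_of_four hx hD h4).le)

/-- Orbit bound for a subgroup. -/
theorem card_le_mul [Finite G] [Finite Ω] (C : Subgroup G) (c : Ω) (O : Set Ω)
    (h : ∀ y ∈ C, y • c ∈ O) :
    Nat.card C ≤ O.ncard * Nat.card (C ⊓ stabilizer G c : Subgroup G) := by
  have h1 : (orbit C c).ncard ≤ O.ncard :=
    Set.ncard_le_ncard (by rintro _ ⟨y, rfl⟩; exact h y y.2) O.toFinite
  rw [← MulAction.index_stabilizer] at h1
  have h2 : Nat.card (stabilizer C c) = Nat.card (C ⊓ stabilizer G c : Subgroup G) := by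
    refine Nat.card_congr ⟨fun y => ⟨(y : C), (y : C).2, y.2⟩, fun y => ⟨⟨y, y.2.1⟩, y.2.2⟩,
      fun y => rfl, fun y => rfl⟩
  calc Nat.card C = (stabilizer C c).index * Nat.card (stabilizer C c) := by
        rw [mul_comm]; exact ((stabilizer C c).card_mul_index).symm
    _ ≤ _ := by rw [h2]; exact Nat.mul_le_mul_right _ h1

/-- Some element of a `p`-subgroup of index `> 1` normalises a proper subgroup from outside. -/
theorem exists_normalizer_notMem [Finite G] {p : ℕ} [Fact p.Prime] {P T : Subgroup G}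
    (hP : IsPGroup p P) (hle : T ≤ P) (hne : T ≠ P) :
    ∃ n ∈ P, n ∉ T ∧ n ∈ Subgroup.normalizer (T : Set G) := by
  haveI := hP.isNilpotent
  have hlt : T.subgroupOf P < ⊤ := lt_top_iff_ne_top.2 fun h =>
    hne (le_antisymm hle (Subgroup.subgroupOf_eq_top.1 h))
  obtain ⟨n, hn1, hn2⟩ := SetLike.exists_of_lt
    (normalizerCondition_of_isNilpotent (T.subgroupOf P) hlt)
  refine ⟨n, n.2, fun h => hn2 h, Subgroup.mem_normalizer_iff.2 fun x => ?_⟩
  have hconj : ∀ m : P, m ∈ Subgroup.normalizer (T.subgroupOf P : Set P) →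
      ∀ y ∈ T, (m : G) * y * (m : G)⁻¹ ∈ T := fun m hm y hy =>
    (Subgroup.mem_normalizer_iff.1 hm ⟨y, hle hy⟩).1 hy
  refine ⟨fun hx => hconj n hn1 x hx, fun hx => ?_⟩
  have h := hconj n⁻¹ (inv_mem hn1) _ hx
  simpa [mul_assoc] using h

/-- A normal nontrivial subgroup of a `p`-group contains a central element of order `p`. -/
theorem exists_central [Finite G] {p : ℕ} [Fact p.Prime] {P T : Subgroup G} (hP : IsPGroup p P)
    (hle : T ≤ P) (hne : T ≠ ⊥) (hnorm : P ≤ Subgroup.normalizer (T : Set G)) :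
    ∃ z ∈ T, orderOf z = p ∧ ∀ y ∈ P, y * z = z * y := by
  haveI := hP.isNilpotent
  haveI : (T.subgroupOf P).Normal := Subgroup.normal_subgroupOf_of_le_normalizer hnorm
  have hne' : T.subgroupOf P ≠ ⊥ := by
    rw [Ne, Subgroup.subgroupOf_eq_bot, disjoint_iff, inf_eq_left.2 hle]
    exact hne
  have hmeet := CfsgLib.PGroups.inf_center_ne_bot hP hne'
  obtain ⟨k, hk⟩ := IsPGroup.iff_card.1 (hP.to_subgroup (T.subgroupOf P ⊓ Subgroup.center P))
  have hk0 : k ≠ 0 := fun h => hmeet (Subgroup.card_eq_one.1 (by rw [hk, h, pow_zero]))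
  obtain ⟨z, hz⟩ := exists_prime_orderOf_dvd_card' (G := ↥(T.subgroupOf P ⊓ Subgroup.center P)) p
    (hk ▸ dvd_pow_self p hk0)
  refine ⟨((z : P) : G), z.2.1, by rw [Subgroup.orderOf_coe, Subgroup.orderOf_coe, hz], ?_⟩
  exact fun y hy => congrArg Subtype.val (Subgroup.mem_center_iff.1 z.2.2 ⟨y, hy⟩)

/-- A `p`-element of `H` is conjugate in `H` into a Sylow subgroup contained in `H`. -/
theorem exists_conj_mem [Finite G] {p : ℕ} [Fact p.Prime] (P : Sylow p G) {H : Subgroup G}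
    (hPH : (P : Subgroup G) ≤ H) {x : G} (hx : x ∈ H) (hxp : ∃ k, x ^ p ^ k = 1) :
    ∃ h ∈ H, h * x * h⁻¹ ∈ (P : Subgroup G) := by
  have hR : IsPGroup p (Subgroup.zpowers (⟨x, hx⟩ : H)) := by
    obtain ⟨k, hk⟩ := hxp
    refine fun y => ⟨k, ?_⟩
    obtain ⟨i, hi⟩ := Subgroup.mem_zpowers_iff.1 y.2
    apply Subtype.ext
    rw [SubgroupClass.coe_pow, ← hi, OneMemClass.coe_one, ← zpow_natCast, ← zpow_mul, mul_comm,
      zpow_mul, zpow_natCast, show (⟨x, hx⟩ : H) ^ p ^ k = 1 from Subtype.ext hk, one_zpow]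
  obtain ⟨R, hR'⟩ := hR.exists_le_sylow
  obtain ⟨h, hh⟩ := MulAction.exists_smul_eq H R (P.subtype hPH)
  refine ⟨h, h.2, ?_⟩
  have hm : (MulAut.conj h) • (⟨x, hx⟩ : H) ∈ MulAut.conj h • (R : Subgroup H) :=
    Subgroup.smul_mem_pointwise_smul _ _ _ (hR' (Subgroup.mem_zpowers _))
  have hm' : (MulAut.conj h) • (⟨x, hx⟩ : H) ∈ ((P.subtype hPH : Sylow p H) : Subgroup H) := by
    rw [← hh]; exact hm
  exact hm'

/-- If all nontrivial elements of a Sylow subgroup have the same nonempty fixed set, its setwise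
stabiliser is strongly `p`-embedded. -/
theorem strongly_embedded [Finite G] [Finite Ω] [FaithfulSMul G Ω] [IsPretransitive G Ω]
    {p : ℕ} [Fact p.Prime] (P : Sylow p G) (hP : (P : Subgroup G) ≠ ⊥) {F : Set Ω}
    (hne : F.Nonempty) (hex : ∀ y ∈ (P : Subgroup G), y ≠ 1 → fixedBy Ω y = F) :
    ∃ H : Subgroup G, H ≠ ⊤ ∧ (P : Subgroup G) ≤ H ∧
      ∀ g : G, g ∉ H → ¬ p ∣ Nat.card (H ⊓ H.map (MulAut.conj g).toMonoidHom : Subgroup G) := by
  have hPH : (P : Subgroup G) ≤ setStab F := fun y hy => by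
    by_cases h1 : y = 1
    · rw [h1]; exact one_mem _
    · rw [← hex y hy h1]; exact mem_setStab_fixedBy rfl
  refine ⟨setStab F, fun htop => ?_, hPH, fun g hg hdvd => ?_⟩
  · obtain ⟨y, hy⟩ := Subgroup.ne_bot_iff_exists_ne_one.1 hP
    have hy1 : (y : G) ≠ 1 := fun h => hy (Subtype.ext h)
    refine hy1 (FaithfulSMul.eq_of_smul_eq_smul (α := Ω) fun a => ?_)
    obtain ⟨b, hb⟩ := hne
    obtain ⟨g, rfl⟩ := exists_smul_eq G b a
    have ha : g • b ∈ fixedBy Ω (y : G) := by
      rw [hex y y.2 hy1]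
      exact (mem_setStab.1 (htop ▸ Subgroup.mem_top g) b).2 hb
    rw [one_smul]; exact ha
  · obtain ⟨y, hy⟩ := exists_prime_orderOf_dvd_card'
      (G := ↥(setStab (G := G) F ⊓ (setStab F).map (MulAut.conj g).toMonoidHom)) p hdvd
    have hy' : orderOf (y : G) = p := by rw [Subgroup.orderOf_coe, hy]
    have hy1 : (y : G) ≠ 1 := fun h => by
      rw [h, orderOf_one] at hy'; exact (Fact.out : p.Prime).ne_one hy'.symm
    have key : ∀ x ∈ setStab (G := G) F, orderOf x = p → fixedBy Ω x = F := by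
      intro x hx ho
      obtain ⟨h, hh, hc⟩ := exists_conj_mem P hPH hx ⟨1, by rw [pow_one, ← ho, pow_orderOf_eq_one]⟩
      have h1 : h * x * h⁻¹ ≠ 1 := fun e => by
        rw [conj_eq_one_iff] at e
        rw [e, orderOf_one] at ho; exact (Fact.out : p.Prime).ne_one ho.symm
      have e : x = h⁻¹ * (h * x * h⁻¹) * h⁻¹⁻¹ := by group
      rw [e, fixedBy_conj, hex _ hc h1]
      exact mem_setStab_iff_image.1 (inv_mem hh)
    obtain ⟨x, hx, hxy⟩ := y.2.2
    have hxy' : g * x * g⁻¹ = (y : G) := hxy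
    have hxo : orderOf x = p := by
      rw [← hy', ← hxy']
      exact (orderOf_injective (MulAut.conj g).toMonoidHom (MulAut.conj g).injective x).symm
    refine hg (mem_setStab_iff_image.2 ?_)
    conv_lhs => rw [← key x hx hxo]
    rw [← fixedBy_conj, hxy', key _ y.2.1 hy']

end CfsgLib.Fixity
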