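import Cfsg.Agent.Lib.Fixity.Cases
import Cfsg.Agent.Lib.TwoGroups.NormalRankTwoSectional
import Cfsg.Agent.Lib.TwoGroups.SelfCentEight.Main
import Cfsg.Agent.Lib.TwoGroups.SelfCentEight.ByFour
import Cfsg.Agent.Lib.TwoGroups.RankTwoMaxClass
import Cfsg.Agent.Lib.ZStar.Main

/-!
# Two-groups with involutions of small centraliser

Criteria for sectional rank at most four and for dihedral or semidihedral Sylow 2-subgroups.
-/

set_option autoImplicit false

namespace CfsgLib.Fixity

open Subgroup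

variable {G : Type*} [Group G] [Finite G]

/-- An isolated involution does not exist in a non-abelian simple group. -/
theorem not_isolated [IsSimpleGroup G] (hna : ¬ IsMulCommutative G) (P : Sylow 2 G) {u : G}
    (hu : orderOf u = 2) (huP : u ∈ (P : Subgroup G))
    (hiso : ∀ g : G, g * u * g⁻¹ ∈ (P : Subgroup G) → g * u * g⁻¹ = u) : False := by
  have hO : Cfsg.oddCore G = ⊥ := by
    refine (Subgroup.Normal.eq_bot_or_eq_top (inferInstance : (Cfsg.pPrimeCore 2 G).Normal)).resolve_right fun htop => ?_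
    have h := CfsgLib.ZStar.odd_card_oddCore G
    rw [show Cfsg.oddCore G = ⊤ from htop, Subgroup.card_top] at h
    exact Nat.not_even_iff_odd.2 h (even_iff_two_dvd.2 (hu ▸ orderOf_dvd_natCard u))
  have hc : u ∈ Subgroup.center G := Subgroup.mem_center_iff.2 fun g => by
    have h := CfsgLib.ZStar.mem_oddCore_of_sylow P hu huP hiso g
    rw [hO, Subgroup.mem_bot, mul_inv_eq_one, mul_inv_eq_iff_eq_mul] at h
    exact h.symm
  rcases (inferInstance : (Subgroup.center G).Normal).eq_bot_or_eq_top with h | h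
  · rw [h, Subgroup.mem_bot] at hc
    rw [hc, orderOf_one] at hu; omega
  · exact hna ⟨⟨fun a b => (Subgroup.mem_center_iff.1 (h ▸ Subgroup.mem_top a) b).symm⟩⟩

/-- Every involution of the Sylow 2-subgroup of a non-abelian simple group has a companion. -/
theorem exists_other_involution [IsSimpleGroup G] (hna : ¬ IsMulCommutative G) (P : Sylow 2 G) {x : G}
    (hx : orderOf x = 2) (hxP : x ∈ (P : Subgroup G)) :
    ∃ z ∈ (P : Subgroup G), orderOf z = 2 ∧ z ≠ x := by
  by_contra h
  push Not at h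
  exact not_isolated hna P hx hxP fun g hg => h _ hg (by rw [← hx]; exact Signalizer.orderOf_conj g x)

/-- Sectional rank passes from a Sylow 2-subgroup to the group. -/
theorem sectional_of_sylow (P : Sylow 2 G) (h : Cfsg.SectionalPRankLE 2 4 (P : Subgroup G)) :
    Cfsg.SectionalPRankLE 2 4 G := by
  classical
  haveI : Fact (Nat.Prime 2) := ⟨Nat.prime_two⟩
  intro H N _ A hAc hA2
  set K := A.comap (QuotientGroup.mk' N)
  obtain ⟨S0⟩ := (inferInstance : Nonempty (Sylow 2 K))
  set π : K →* H ⧸ N := (QuotientGroup.mk' N).comp K.subtype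
  have hπ : (S0 : Subgroup K).map π = A := by
    have hrange : π.range = A := by
      refine le_antisymm ?_ fun y hy => ?_
      · rintro _ ⟨x, rfl⟩; exact x.2
      · obtain ⟨x, rfl⟩ := QuotientGroup.mk'_surjective N y
        exact ⟨⟨x, hy⟩, rfl⟩
    have hAp : IsPGroup 2 A := fun a => ⟨1, by rw [pow_one]; exact Subtype.ext (hA2 _ a.2)⟩
    refine Subgroup.eq_of_le_of_card_ge (hrange ▸ Subgroup.map_le_range _ _) ?_
    obtain ⟨k, hk⟩ := IsPGroup.iff_card.1 hAp
    have h1 : ((S0 : Subgroup K).map π).relIndex A ∣ (S0 : Subgroup K).index := by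
      rw [← hrange, MonoidHom.range_eq_map, Subgroup.relIndex_map_map, top_sup_eq,
        Subgroup.relIndex_top_right]
      exact Subgroup.index_dvd_of_le le_sup_left
    have h2 : ((S0 : Subgroup K).map π).relIndex A ∣ 2 ^ k := hk ▸ Subgroup.relIndex_dvd_card _ _
    obtain ⟨j, -, hj⟩ := (Nat.dvd_prime_pow Nat.prime_two).1 h2
    rcases j with _ | j
    · exact Subgroup.card_le_of_le (Subgroup.relIndex_eq_one.1 hj)
    · exact absurd ((dvd_pow_self 2 j.succ_ne_zero).trans (hj ▸ h1)) S0.not_dvd_index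
  -- move the 2-group into `P`
  let ι : S0 →* G := (H.subtype.comp K.subtype).comp (S0 : Subgroup K).subtype
  have hι : Function.Injective ι := fun a b hab => Subtype.ext (Subtype.ext (Subtype.ext hab))
  have hp : IsPGroup 2 ι.range :=
    IsPGroup.of_equiv S0.isPGroup' (MonoidHom.ofInjective hι)
  obtain ⟨Q, hQ⟩ := hp.exists_le_sylow
  obtain ⟨g, hg⟩ := MulAction.exists_smul_eq G Q P
  let κ : S0 →* (P : Subgroup G) := ((MulAut.conj g).toMonoidHom.comp ι).codRestrict _ fun s => by
    rw [← hg]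
    exact Subgroup.smul_mem_pointwise_smul _ (MulAut.conj g) _ (hQ ⟨s, rfl⟩)
  have hκ : Function.Injective κ := fun a b hab =>
    hι ((MulAut.conj g).injective (congrArg Subtype.val hab))
  set e : S0 ≃* κ.range := MonoidHom.ofInjective hκ
  set θ : κ.range →* H ⧸ N := (π.comp (S0 : Subgroup K).subtype).comp e.symm.toMonoidHom
  have hθ : θ.range = A := by
    rw [← hπ]
    ext y
    constructor
    · rintro ⟨u, rfl⟩; exact ⟨_, (e.symm u).2, rfl⟩
    · rintro ⟨s, hs, rfl⟩
      exact ⟨e ⟨s, hs⟩, by simp [θ]⟩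
  let q : (κ.range ⧸ θ.ker) ≃* A :=
    (QuotientGroup.quotientKerEquivRange θ).trans (MulEquiv.subgroupCongr hθ)
  have h4 := h κ.range θ.ker ⊤
    ⟨⟨fun a b => Subtype.ext (q.injective (by
      show q ((a : κ.range ⧸ θ.ker) * b) = q ((b : κ.range ⧸ θ.ker) * a)
      rw [map_mul, map_mul]; exact hAc.is_comm.comm _ _))⟩⟩
    (fun a _ => q.injective (by rw [map_pow, map_one]; exact Subtype.ext (hA2 _ (q a).2)))
  rw [Subgroup.card_top, Nat.card_congr q.toEquiv] at h4
  exact h4

/-- No elementary abelian subgroup of order eight. -/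
def NoEight (C : Subgroup G) : Prop :=
  ∀ A : Subgroup G, A ≤ C → (∀ a ∈ A, ∀ b ∈ A, a * b = b * a) → (∀ a ∈ A, a * a = 1) → Nat.card A ≤ 4

/-- An involution whose centraliser has no `E₈` bounds the sectional rank. -/
theorem rank_of_noEight {P : Subgroup G} (hP : IsPGroup 2 P) {x : G} (hxP : x ∈ P) (hx : orderOf x = 2)
    (hno : NoEight (P ⊓ centralizer ({x} : Set G))) : Cfsg.SectionalPRankLE 2 4 P := by
  classical
  haveI : Fact (Nat.Prime 2) := ⟨Nat.prime_two⟩
  refine CfsgLib.TwoGroups.NormalRankTwo.sectional_rank_le_four hP fun V hV hVc hV2 => ?_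
  set x' : P := ⟨x, hxP⟩
  have hxx : x' * x' = 1 := Subtype.ext (by
    show x * x = 1
    rw [← pow_two, ← hx, pow_orderOf_eq_one])
  set W := V ⊓ centralizer ({x'} : Set P)
  have hsq : ∀ v ∈ V, v * v = 1 := fun v hv => by rw [← pow_two]; exact hV2 v hv
  have hinv : ∀ v ∈ V, v⁻¹ = v := fun v hv => inv_eq_of_mul_eq_one_right (hsq v hv)
  have hxi : x'⁻¹ = x' := inv_eq_of_mul_eq_one_right hxx
  -- `|V| ≤ |C_V(x)|²`
  let φ : V →* P := MonoidHom.mk' (fun v => (v : P) * (x' * v * x'⁻¹)) fun a b => by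
    have h1 : x' * a * x'⁻¹ ∈ V := hV.conj_mem a a.2 x'
    calc (a : P) * b * (x' * (a * b) * x'⁻¹)
        = (a : P) * ((b : P) * (x' * a * x'⁻¹)) * (x' * b * x'⁻¹) := by group
      _ = (a : P) * ((x' * a * x'⁻¹) * b) * (x' * b * x'⁻¹) := by rw [hVc _ b.2 _ h1]
      _ = _ := by group
  have hker : Nat.card φ.ker ≤ Nat.card W := by
    refine Nat.card_le_card_of_injective (fun v => (⟨((v : V) : P), ⟨(v : V).2, ?_⟩⟩ : W)) ?_
    · refine mem_centralizer_singleton_iff.2 ?_
      have h : ((v : V) : P) * (x' * (v : V) * x'⁻¹) = 1 := v.2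
      have h' : x' * (v : V) * x'⁻¹ = ((v : V) : P) := by
        rw [eq_inv_of_mul_eq_one_right h, hinv _ (v : V).2]
      calc ((v : V) : P) * x' = (x' * (v : V) * x'⁻¹) * x' := by rw [h']
        _ = x' * (v : V) := by group
    · intro a b hab
      exact Subtype.ext (Subtype.ext (congrArg (fun u : W => (u : P)) hab))
  have hran : Nat.card φ.range ≤ Nat.card W := by
    refine Subgroup.card_le_of_le ?_
    rintro _ ⟨v, rfl⟩
    have h1 : x' * v * x'⁻¹ ∈ V := hV.conj_mem v v.2 x'
    refine ⟨mul_mem v.2 h1, mem_centralizer_singleton_iff.2 ?_⟩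
    show (v : P) * (x' * v * x'⁻¹) * x' = x' * ((v : P) * (x' * v * x'⁻¹))
    calc (v : P) * (x' * v * x'⁻¹) * x' = (x' * v * x'⁻¹) * v * x' := by rw [hVc _ v.2 _ h1]
      _ = x' * v * (x' * v * x') := by rw [hxi]; group
      _ = x' * ((v : P) * (x' * v * x'⁻¹)) := by rw [hxi]; group
  have hVW : Nat.card V ≤ Nat.card W * Nat.card W := by
    rw [Subgroup.card_eq_card_quotient_mul_card_subgroup φ.ker,
      Nat.card_congr (QuotientGroup.quotientKerEquivRange φ).toEquiv]
    exact Nat.mul_le_mul hran hker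
  have hmapC : ∀ A : Subgroup P, A ≤ centralizer ({x'} : Set P) → (∀ a ∈ A, ∀ b ∈ A, a * b = b * a) →
      (∀ a ∈ A, a * a = 1) → Nat.card A ≤ 4 := fun A hA hc h2 => by
    rw [← Subgroup.card_map_of_injective P.subtype_injective (K := A)]
    refine hno _ ?_ ?_ ?_
    · rintro _ ⟨a, ha, rfl⟩
      exact ⟨a.2, mem_centralizer_singleton_iff.2
        (congrArg Subtype.val (mem_centralizer_singleton_iff.1 (hA ha)))⟩
    · rintro _ ⟨a, ha, rfl⟩ _ ⟨b, hb, rfl⟩
      exact congrArg Subtype.val (hc a ha b hb)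
    · rintro _ ⟨a, ha, rfl⟩
      exact congrArg Subtype.val (h2 a ha)
  by_contra h4
  push Not at h4
  obtain ⟨i, hi⟩ := IsPGroup.iff_card.1 (hP.to_subgroup W)
  have hW4 : 4 ≤ Nat.card W := by
    rw [hi] at hVW ⊢
    rcases i with _ | _ | i
    · simp at hVW; omega
    · simp at hVW; omega
    · calc 4 = 2 ^ 2 := by norm_num
        _ ≤ 2 ^ (i + 2) := Nat.pow_le_pow_right (by norm_num) (by omega)
  by_cases hxV : x' ∈ V
  · have := hmapC V (fun v hv => mem_centralizer_singleton_iff.2 (hVc v hv x' hxV)) hVc hsq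
    omega
  · -- `⟨x⟩ × C_V(x)` is elementary abelian
    have hcx : ∀ w ∈ W, x' * w = w * x' := fun w hw => (mem_centralizer_singleton_iff.1 hw.2).symm
    have hN : zpowers x' ≤ normalizer (W : Set P) := by
      rw [zpowers_le]
      exact centralizer_le_normalizer _ (mem_centralizer_iff.2 fun w hw => (hcx w hw).symm)
    have hmem : ∀ y ∈ zpowers x' ⊔ W, ∃ u ∈ zpowers x', ∃ w ∈ W, u * w = y := fun y hy => by
      rw [← SetLike.mem_coe, Subgroup.coe_mul_of_left_le_normalizer_right _ _ hN] at hy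
      exact hy
    have hu : ∀ u ∈ zpowers x', ∀ w ∈ W, u * w = w * u := fun u hu w hw => by
      obtain ⟨k, rfl⟩ := mem_zpowers_iff.1 hu
      exact (Commute.zpow_left (hcx w hw) k).eq
    have huu : ∀ u ∈ zpowers x', u * u = 1 := fun u hu => by
      obtain ⟨k, rfl⟩ := mem_zpowers_iff.1 hu
      rw [← (Commute.refl x').mul_zpow, hxx, one_zpow]
    have hle := hmapC (zpowers x' ⊔ W)
      (sup_le (zpowers_le.2 (mem_centralizer_singleton_iff.2 rfl)) inf_le_right) ?_ ?_
    · have h8 := card_mul_le_of_disjoint (le_sup_left : zpowers x' ≤ zpowers x' ⊔ W) le_sup_right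
        fun y hy hyW => ?_
      · rw [Nat.card_zpowers, orderOf_eq_prime (show x' ^ 2 = 1 by rw [pow_two, hxx])
          (fun h => hxV (h ▸ one_mem V))] at h8
        omega
      · obtain ⟨k, rfl⟩ := mem_zpowers_iff.1 hy
        rcases Int.even_or_odd k with ⟨m, rfl⟩ | ⟨m, rfl⟩
        · rw [zpow_add, ← (Commute.refl x').mul_zpow, hxx, one_zpow]
        · refine absurd ?_ hxV
          rw [zpow_add, two_mul, zpow_add, ← (Commute.refl x').mul_zpow, hxx, one_zpow, one_mul,
            zpow_one] at hyW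
          exact hyW.1
    · intro a ha b hb
      obtain ⟨u, hu1, w, hw, rfl⟩ := hmem a ha
      obtain ⟨u', hu1', w', hw', rfl⟩ := hmem b hb
      have huu' : u * u' = u' * u := by
        obtain ⟨k, rfl⟩ := mem_zpowers_iff.1 hu1
        obtain ⟨l, rfl⟩ := mem_zpowers_iff.1 hu1'
        exact ((Commute.refl x').zpow_zpow k l).eq
      exact Commute.mul_mul_mul_comm (hu u' hu1' w hw).symm u w' |>.trans (by
        rw [huu', hVc w hw.1 w' hw'.1, ← (Commute.mul_mul_mul_comm (hu u hu1 w' hw').symm u' w)])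
    · intro a ha
      obtain ⟨u, hu1, w, hw, rfl⟩ := hmem a ha
      rw [Commute.mul_mul_mul_comm (hu u hu1 w hw).symm, huu u hu1, hsq w hw.1, one_mul]

/-- An involution with centraliser of order at most eight bounds the sectional rank. -/
theorem rank_of_eight {P : Subgroup G} (hP : IsPGroup 2 P) {x : G} (hxP : x ∈ P) (hx : orderOf x = 2)
    (hC : Nat.card (P ⊓ centralizer ({x} : Set G) : Subgroup G) ≤ 8) :
    Cfsg.SectionalPRankLE 2 4 P := by
  classical
  by_cases hno : NoEight (P ⊓ centralizer ({x} : Set G))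
  · exact rank_of_noEight hP hxP hx hno
  unfold NoEight at hno
  push Not at hno
  obtain ⟨A, hA, hAc, hA2, hA4⟩ := hno
  haveI : Fact (Nat.Prime 2) := ⟨Nat.prime_two⟩
  obtain ⟨k, hk⟩ := IsPGroup.iff_card.1 (hP.to_le (hA.trans inf_le_left))
  have hA8' := (Subgroup.card_le_of_le hA).trans hC
  have hA8 : Nat.card A = 8 := by
    rw [hk] at hA4 hA8' ⊢
    rcases k with _ | _ | _ | k
    · simp at hA4
    · simp at hA4
    · simp at hA4
    · have : k = 0 := by
        by_contra h
        have := Nat.pow_le_pow_right (show 1 ≤ 2 by norm_num) (show 4 ≤ k + 1 + 1 + 1 by omega)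
        omega
      subst this; norm_num
  have hAeq := Subgroup.eq_of_le_of_card_ge hA (by rw [hA8]; exact hC)
  refine CfsgLib.TwoGroups.SelfCentEight.sectional_rank_le_four (A := A.subgroupOf P) hP
    ⟨fun a ha b hb => Subtype.ext (hAc a ha b hb), fun a ha => Subtype.ext (hA2 a ha), ?_, fun y hy => ?_⟩
  · rw [Nat.card_congr (subgroupOfEquivOfLe (hA.trans inf_le_left)).toEquiv, hA8]
  · have hxA : x ∈ A := by rw [hAeq]; exact ⟨hxP, mem_centralizer_singleton_iff.2 rfl⟩
    refine mem_subgroupOf.2 ?_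
    rw [hAeq]
    exact ⟨y.2, mem_centralizer_singleton_iff.2 (congrArg Subtype.val (hy ⟨x, hxP⟩ hxA)).symm⟩

/-- An involution with centraliser of order at most four in a Sylow 2-subgroup of a non-abelian
simple group: dihedral or semidihedral, and sectional rank at most four. -/
theorem dihedral_of_four [IsSimpleGroup G] (hna : ¬ IsMulCommutative G) (P : Sylow 2 G) {x : G}
    (hxP : x ∈ (P : Subgroup G)) (hx : orderOf x = 2)
    (hC : Nat.card ((P : Subgroup G) ⊓ centralizer ({x} : Set G) : Subgroup G) ≤ 4) :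
    ((∃ n : ℕ, Nonempty ((P : Subgroup G) ≃* DihedralGroup n)) ∨
        Cfsg.IsQuasiDihedral (P : Subgroup G)) ∧
      Cfsg.SectionalPRankLE 2 4 (P : Subgroup G) := by
  classical
  refine ⟨?_, rank_of_eight P.isPGroup' hxP hx (hC.trans (by norm_num))⟩
  haveI : Fact (Nat.Prime 2) := ⟨Nat.prime_two⟩
  set Q := (P : Subgroup G)
  have hQ : IsPGroup 2 Q := P.isPGroup'
  have hQne : Q ≠ ⊥ := fun h => by
    rw [h, Subgroup.mem_bot] at hxP
    rw [hxP, orderOf_one] at hx; omega
  obtain ⟨z, hzQ, hz2, hzc, hzx⟩ : ∃ z ∈ Q, orderOf z = 2 ∧ (∀ y ∈ Q, y * z = z * y) ∧ z ≠ x := by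
    by_cases hcx : ∀ y ∈ Q, y * x = x * y
    · have h4 : Nat.card Q ≤ 4 := by
        refine le_trans (Subgroup.card_le_of_le fun y hy => ?_) hC
        exact ⟨hy, mem_centralizer_singleton_iff.2 (hcx y hy)⟩
      obtain ⟨z, hz, hz2, hzx⟩ := exists_other_involution hna P hx hxP
      obtain ⟨k, hk⟩ := IsPGroup.iff_card.1 hQ
      refine ⟨z, hz, hz2, fun y hy => ?_, hzx⟩
      rcases k with _ | _ | _ | k
      · exact absurd (Subgroup.card_eq_one.1 hk) hQne
      · haveI := isCyclic_of_prime_card (α := Q) (p := 2) (by rw [hk]; norm_num)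
        exact congrArg Subtype.val
          ((IsCyclic.commutative (α := Q)).is_comm.comm (⟨y, hy⟩ : Q) ⟨z, hz⟩)
      · exact congrArg Subtype.val
          (IsPGroup.commutative_of_card_eq_prime_sq hk (⟨y, hy⟩ : Q) ⟨z, hz⟩)
      · exfalso
        rw [hk] at h4
        have := Nat.pow_le_pow_right (show 1 ≤ 2 by norm_num) (show 3 ≤ k + 1 + 1 + 1 by omega)
        omega
    · obtain ⟨z, hzQ, hz2, hzc⟩ := exists_central hQ le_rfl hQne le_normalizer
      exact ⟨z, hzQ, hz2, hzc, fun e => hcx (e ▸ hzc)⟩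
  have hC4 : Nat.card (centralizer ({(⟨x, hxP⟩ : Q)} : Set Q)) = 4 := by
    set C := centralizer ({(⟨x, hxP⟩ : Q)} : Set Q)
    have hCeq : Nat.card C = Nat.card (Q ⊓ centralizer ({x} : Set G) : Subgroup G) :=
      Nat.card_congr
        ⟨fun u => ⟨(u.1 : G), u.1.2,
            mem_centralizer_singleton_iff.2 (congrArg Subtype.val (mem_centralizer_singleton_iff.1 u.2))⟩,
          fun u => ⟨⟨u.1, u.2.1⟩, mem_centralizer_singleton_iff.2
            (Subtype.ext (mem_centralizer_singleton_iff.1 u.2.2))⟩, fun u => rfl, fun u => rfl⟩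
    have hxo : x ≠ 1 := fun h => by rw [h, orderOf_one] at hx; omega
    have h4 : 4 ≤ Nat.card C := by
      have hzx' : (⟨z, hzQ⟩ : Q) ∉ zpowers (⟨x, hxP⟩ : Q) := fun h => by
        obtain ⟨k, hk⟩ := mem_zpowers_iff.1 h
        have hk' : x ^ k = z := congrArg Subtype.val hk
        rcases Int.even_or_odd k with ⟨m, rfl⟩ | ⟨m, rfl⟩
        · rw [zpow_add, ← (Commute.refl x).mul_zpow, ← pow_two, ← hx, pow_orderOf_eq_one, one_zpow] at hk'
          rw [← hk', orderOf_one] at hz2; omega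
        · refine hzx ?_
          rw [← hk', zpow_add, two_mul, zpow_add, ← (Commute.refl x).mul_zpow, ← pow_two, ← hx,
            pow_orderOf_eq_one, one_zpow, one_mul, zpow_one]
      have hlt : Nat.card (zpowers (⟨x, hxP⟩ : Q)) < Nat.card C := by
        have hle : zpowers (⟨x, hxP⟩ : Q) ≤ C := zpowers_le.2 (mem_centralizer_singleton_iff.2 rfl)
        refine lt_of_le_of_ne (Subgroup.card_le_of_le hle) fun e => hzx' ?_
        rw [Subgroup.eq_of_le_of_card_ge hle e.ge]
        exact mem_centralizer_singleton_iff.2 (Subtype.ext (hzc x hxP).symm)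
      rw [Nat.card_zpowers, ← Subgroup.orderOf_coe, hx] at hlt
      obtain ⟨j, hj⟩ := IsPGroup.iff_card.1 (hQ.to_subgroup C)
      rw [hj] at hlt ⊢
      rcases j with _ | _ | j
      · simp at hlt
      · simp at hlt
      · calc 4 = 2 ^ 2 := by norm_num
          _ ≤ 2 ^ (j + 1 + 1) := Nat.pow_le_pow_right (by norm_num) (by omega)
    omega
  rcases CfsgLib.TwoGroups.RankTwoTypes.isDihOrQD_of_centralizer_four hQ (z := ⟨z, hzQ⟩) (v := ⟨x, hxP⟩)
      (Subgroup.mem_center_iff.2 fun y => Subtype.ext (hzc y y.2))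
      (by rw [← Subgroup.orderOf_coe]; exact hz2) (by rw [← Subgroup.orderOf_coe]; exact hx)
      (fun e => hzx (congrArg Subtype.val e)) hC4 with ⟨m, -, hm⟩ | h
  · exact Or.inl ⟨m, hm⟩
  · exact Or.inr h

end CfsgLib.Fixity
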