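import Cfsg.Agent.Lib.Fixity.PermOn
import Cfsg.Agent.Lib.Fixity.TwoRank

/-!
# The block configuration

A Sylow 2-subgroup `P` preserves the four points of `D`, its part `T` fixing them pointwise has
index at most four with abelian quotient, and no other element of `P` fixes any point.  Then the
setwise stabiliser of `D` is strongly embedded: the involutions of the pointwise stabiliser are
counted over the translates of `D`, and transfer and the Z*-theorem exclude the remaining cases.
-/

set_option autoImplicit false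

namespace CfsgLib.Fixity

open MulAction

set_option synthInstance.maxSize 4000 in
theorem three_cycles_triangle : ∀ a : Equiv.Perm (Fin 4), a ^ 3 = 1 → a ≠ 1 →
    ∀ b : Equiv.Perm (Fin 4), b ^ 3 = 1 → b ≠ 1 → a ≠ b → (a⁻¹ * b) ^ 3 = 1 →
    ∀ c : Equiv.Perm (Fin 4), c ^ 3 = 1 → c ≠ 1 → a ≠ c → b ≠ c → (a⁻¹ * c) ^ 3 = 1 →
    (b⁻¹ * c) ^ 3 = 1 → False := by
  decide +kernel

theorem commute_fpf : ∀ a y : Equiv.Perm (Fin 4), a ^ 3 = 1 → y * y = 1 → (∀ i, y i ≠ i) →
    a * y = y * a → a = 1 := by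
  decide +kernel

theorem odd_order_cube : ∀ a : Equiv.Perm (Fin 4), a ^ 12 = 1 := by
  decide +kernel

variable {G Ω : Type*} [Group G] [MulAction G Ω] [Finite G] [Finite Ω]

/-- The hypotheses of the block configuration. -/
structure Block (P : Sylow 2 G) (T : Subgroup G) (D : Set Ω) : Prop where
  small : Small G Ω
  config : Config (P : Subgroup G) T ∅ D
  card_D : D.ncard = 4
  stable : (P : Subgroup G) ≤ setStab D
  free : ∀ y ∈ (P : Subgroup G), y ∉ T → ∀ c : Ω, y • c ≠ c

variable {P : Sylow 2 G} {T : Subgroup G} {D : Set Ω}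

namespace Block

theorem two_element (b : Block P T D) {x : G} (hx : x ∈ setStab D) (hx2 : ∃ k, x ^ 2 ^ k = 1)
    (hx1 : x ≠ 1) {c : Ω} (hc : x • c = c) : fixedBy Ω x = D := by
  haveI : Fact (Nat.Prime 2) := ⟨Nat.prime_two⟩
  obtain ⟨h, hh, hP⟩ := exists_conj_mem P b.stable hx hx2
  have hfix : (h * x * h⁻¹) • (h • c) = h • c := by
    rw [mul_smul, mul_smul, inv_smul_smul, hc]
  have hT : h * x * h⁻¹ ∈ T := by
    by_contra hn
    exact b.free _ hP hn _ hfix
  have e := b.config.exact_fix _ hT (fun e => hx1 (conj_eq_one_iff.1 e))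
  rw [fixedBy_conj] at e
  calc fixedBy Ω x = (h⁻¹ • ·) '' ((h • ·) '' fixedBy Ω x) := by
        rw [Set.image_image]; simp
    _ = (h⁻¹ • ·) '' D := by rw [e]
    _ = D := mem_setStab_iff_image.1 (inv_mem hh)

/-- The fixed set of an involution with a fixed point is a translate of `D`. -/
theorem exists_translate (b : Block P T D) {t : G} (ht : orderOf t = 2) {c : Ω} (hc : t • c = c) :
    ∃ g : G, fixedBy Ω t = (g • ·) '' D := by
  haveI : Fact (Nat.Prime 2) := ⟨Nat.prime_two⟩
  have hR : IsPGroup 2 (Subgroup.zpowers t) := IsPGroup.of_card (n := 1) (by rw [Nat.card_zpowers, ht, pow_one])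
  obtain ⟨Q, hQ⟩ := hR.exists_le_sylow
  obtain ⟨g, hg⟩ := MulAction.exists_smul_eq G Q P
  have hP : g * t * g⁻¹ ∈ (P : Subgroup G) := by
    rw [← hg]
    exact Subgroup.smul_mem_pointwise_smul t (MulAut.conj g) _ (hQ (Subgroup.mem_zpowers t))
  have ht1 : t ≠ 1 := fun h => by rw [h, orderOf_one] at ht; omega
  have hT : g * t * g⁻¹ ∈ T := by
    by_contra hn
    exact b.free _ hP hn (g • c) (by rw [mul_smul, mul_smul, inv_smul_smul, hc])
  have e := b.config.exact_fix _ hT (fun e => ht1 (conj_eq_one_iff.1 e))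
  rw [fixedBy_conj] at e
  exact ⟨g⁻¹, by rw [← e, Set.image_image]; simp⟩

/-- An involution preserving a translate and fixing a point fixes exactly that translate. -/
theorem fix_of_translate (b : Block P T D) {g t : G} (ht : orderOf t = 2)
    (hg : t ∈ setStab ((g • ·) '' D)) {c : Ω} (hc : t • c = c) : fixedBy Ω t = (g • ·) '' D := by
  have h1 : g⁻¹ * t * g ∈ setStab D := by
    rw [mem_setStab_iff_image]
    have h := mem_setStab_iff_image.1 hg
    rw [Set.image_image] at h
    calc ((g⁻¹ * t * g) • ·) '' D = (g⁻¹ • ·) '' ((fun a => t • g • a) '' D) := by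
          rw [Set.image_image]; simp [mul_smul]
      _ = D := by rw [h, Set.image_image]; simp
  have ho : orderOf (g⁻¹ * t * g) = 2 := by
    rw [← ht]; simpa using CfsgLib.Signalizer.orderOf_conj g⁻¹ t
  have hc' : (g⁻¹ * t * g) • (g⁻¹ • c) = g⁻¹ • c := by
    rw [mul_smul, mul_smul, smul_inv_smul, hc]
  have e := b.two_element h1 ⟨1, by rw [pow_one, ← ho, pow_orderOf_eq_one]⟩
    (fun e => by rw [e, orderOf_one] at ho; omega) hc'
  rw [← e, ← fixedBy_conj]
  congr 1
  group

/-- Two distinct fibre elements: their product has order three on both translates. -/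
theorem fibre_prod (b : Block P T D) {t t' : G} (ht : orderOf t = 2) (ht' : orderOf t' = 2)
    {c c' : Ω} (hc : t • c = c) (hc' : t' • c' = c') {D' : Set Ω} (hne : D' ≠ D)
    (h : (t • ·) '' D = D') (h' : (t' • ·) '' D = D') :
    t * t' ∈ setStab D ∧ (t * t') ^ 3 = 1 ∧ (D ⊆ fixedBy Ω (t * t') → t = t') := by
  set v := t * t'
  have htt : t * t = 1 := by rw [← pow_two, ← ht, pow_orderOf_eq_one]
  have ht't : t' * t' = 1 := by rw [← pow_two, ← ht', pow_orderOf_eq_one]
  have hti : t⁻¹ = t := inv_eq_of_mul_eq_one_right htt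
  have ht'i : t'⁻¹ = t' := inv_eq_of_mul_eq_one_right ht't
  have hback : (t • ·) '' D' = D := by rw [← h, Set.image_image]; simp [← mul_smul, htt]
  have hv : v ∈ setStab D := by
    rw [mem_setStab_iff_image]
    calc (v • ·) '' D = (t • ·) '' ((t' • ·) '' D) := by rw [Set.image_image]; simp [v, mul_smul]
      _ = D := by rw [h', hback]
  have htinv : t * v * t = v⁻¹ := by
    rw [mul_inv_rev, hti, ht'i]
    calc t * (t * t') * t = (t * t) * t' * t := by group
      _ = t' * t := by rw [htt, one_mul]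
  -- the product has odd order
  have hvodd : Odd (orderOf v) := by
    rw [← Nat.not_even_iff_odd]
    rintro ⟨m, hm⟩
    set w := v ^ m
    have hw2 : w * w = 1 := by rw [← pow_add, ← hm, pow_orderOf_eq_one]
    have hw1 : w ≠ 1 := fun e => by
      have := orderOf_dvd_of_pow_eq_one e
      have := Nat.le_of_dvd (by have := orderOf_pos v; omega) this
      have := orderOf_pos v
      omega
    have hwo : orderOf w = 2 := orderOf_eq_prime (by rw [pow_two]; exact hw2) hw1
    have hwD : w ∈ setStab D := pow_mem hv m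
    have htw : t * w = w * t := by
      have hw' : t * w * t = w⁻¹ := by
        have hc1 : t * w * t = (t * v * t) ^ m := by
          conv_rhs => rw [show t * v * t = t * v * t⁻¹ by rw [hti]]
          rw [conj_pow, hti]
        rw [hc1, htinv, inv_pow]
      rw [inv_eq_of_mul_eq_one_right hw2] at hw'
      calc t * w = t * w * (t * t) := by rw [htt, mul_one]
        _ = (t * w * t) * t := by group
        _ = w * t := by rw [hw']
    by_cases hwfix : ∃ a : Ω, w • a = a
    · obtain ⟨a, ha⟩ := hwfix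
      have e := b.two_element hwD ⟨1, by rw [pow_one, pow_two, hw2]⟩ hw1 ha
      have h1 : t ∈ setStab (fixedBy Ω w) := mem_setStab_fixedBy htw
      rw [e] at h1
      exact hne (h.symm.trans (mem_setStab_iff_image.1 h1))
    push Not at hwfix
    obtain ⟨g, hg⟩ := b.exists_translate ht hc
    have hwg : w ∈ setStab ((g • ·) '' D) := hg ▸ mem_setStab_fixedBy htw.symm
    have htwg : t * w ∈ setStab ((g • ·) '' D) := mul_mem (hg ▸ mem_setStab_fixedBy rfl) hwg
    have htw1 : t * w ≠ 1 := fun e => hwfix c (by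
      rw [eq_inv_of_mul_eq_one_right e, hti, hc])
    have htwo : orderOf (t * w) = 2 := orderOf_eq_prime (by
      rw [pow_two, Commute.mul_mul_mul_comm htw.symm, htt, hw2, one_mul]) htw1
    have htwfree : ∀ a : Ω, (t * w) • a ≠ a := fun a ha => by
      have e := b.fix_of_translate htwo htwg ha
      have hca : c ∈ fixedBy Ω (t * w) := by rw [e, ← hg]; exact hc
      refine hwfix c ?_
      have h2 : t • w • c = c := by rw [← mul_smul]; exact hca
      calc w • c = (t * t) • w • c := by rw [htt, one_smul]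
        _ = t • c := by rw [mul_smul, h2]
        _ = c := hc
    -- `t w` is conjugate to `t` or to `t'`
    rcases Nat.even_or_odd m with ⟨i, hi⟩ | ⟨i, hi⟩
    · refine htwfree (v⁻¹ ^ i • c) ?_
      have e1 : t * w * v⁻¹ ^ i = v⁻¹ ^ i * t := by
        have hh : ∀ k : ℕ, t * v ^ k = v⁻¹ ^ k * t := fun k => by
          induction k with
          | zero => simp
          | succ k ih =>
            calc t * v ^ (k + 1) = (t * v ^ k) * v := by rw [pow_succ]; group
              _ = v⁻¹ ^ k * (t * v * t) * t := by rw [ih]; rw [show v⁻¹ ^ k * (t * v * t) * t = v⁻¹ ^ k * t * v * (t * t) by group, htt, mul_one]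
              _ = v⁻¹ ^ (k + 1) * t := by rw [htinv, pow_succ]
        calc t * w * v⁻¹ ^ i = t * v ^ i := by
              rw [show w = v ^ i * v ^ i by rw [← pow_add, ← hi], inv_pow]; group
          _ = v⁻¹ ^ i * t := hh i
      rw [← mul_smul, e1, mul_smul, hc]
    · refine htwfree (v⁻¹ ^ i • c') ?_
      have hh : ∀ k : ℕ, t * v ^ (k + 1) = v⁻¹ ^ k * t' := fun k => by
        induction k with
        | zero =>
          rw [zero_add, pow_one, pow_zero, one_mul]
          calc t * (t * t') = (t * t) * t' := by group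
            _ = t' := by rw [htt, one_mul]
        | succ k ih =>
          calc t * v ^ (k + 1 + 1) = (t * v ^ (k + 1)) * v := by rw [pow_succ]; group
            _ = v⁻¹ ^ k * (t' * v) := by rw [ih, mul_assoc]
            _ = v⁻¹ ^ (k + 1) * t' := by
              rw [pow_succ, mul_assoc]
              congr 1
              show t' * (t * t') = (t * t')⁻¹ * t'
              rw [mul_inv_rev, hti, ht'i]; group
      have e1 : t * w * v⁻¹ ^ i = v⁻¹ ^ i * t' := by
        rw [← hh i, show w = v ^ (i + 1) * v ^ i by rw [← pow_add, show i + 1 + i = m by omega], inv_pow]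
        group
      rw [← mul_smul, e1, mul_smul, hc']
  -- odd order and trivial on `D` gives trivial
  have hker : ∀ u : G, D ⊆ fixedBy Ω u → t * u * t = u⁻¹ → u = 1 := by
    intro u hu hut
    refine b.small.eq_one_of_union hu (E := D') ?_ (by rw [b.card_D]) (fun hsub => hne ?_)
    · rw [← h]
      rintro _ ⟨a, ha, rfl⟩
      have h1 : u⁻¹ • a = a := inv_smul_eq_iff.2 (hu ha).symm
      rw [← hut, mul_smul, mul_smul] at h1
      show u • t • a = t • a
      calc u • t • a = (t * t) • u • t • a := by rw [htt, one_smul]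
        _ = t • a := by rw [mul_smul, h1]
    · refine Set.eq_of_subset_of_ncard_le hsub ?_ D.toFinite
      rw [← h, Set.ncard_image_of_injective _ (MulAction.injective t)]
  refine ⟨hv, hker _ ?_ ?_, fun hsub => ?_⟩
  · -- the induced permutation has odd order in `Sym(4)`
    classical
    haveI : Fintype D := Fintype.ofFinite _
    have hcard : Fintype.card D = 4 := by rw [← Nat.card_eq_fintype_card, Nat.card_coe_set_eq, b.card_D]
    let e := (Equiv.permCongrHom (Fintype.equivFinOfCardEq hcard)).toMonoidHom.comp (permOn (G := G) D)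
    have h12 := odd_order_cube (e ⟨v, hv⟩)
    have h3 : e ⟨v, hv⟩ ^ 3 = 1 := by
      have hodd : Odd (orderOf (e ⟨v, hv⟩)) := by
        have hd : orderOf (e ⟨v, hv⟩) ∣ orderOf v := by
          rw [← Subgroup.orderOf_mk v hv]; exact orderOf_map_dvd e _
        obtain ⟨q, hq⟩ := hd
        exact (Nat.odd_mul.1 (hq ▸ hvodd)).1
      refine orderOf_dvd_iff_pow_eq_one.1 (Nat.Coprime.dvd_of_dvd_mul_left ?_
        (show orderOf (e ⟨v, hv⟩) ∣ 4 * 3 from orderOf_dvd_of_pow_eq_one h12))
      exact (Nat.coprime_two_right.2 hodd).pow_right 2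
    rw [← map_pow] at h3
    have h4 : permOn (G := G) D (⟨v, hv⟩ ^ 3) = 1 :=
      (Equiv.permCongrHom (Fintype.equivFinOfCardEq hcard)).injective (h3.trans (map_one _).symm)
    rw [permOn_eq_one_iff] at h4
    exact h4
  · have hc1 : t * v ^ 3 * t = (t * v * t) ^ 3 := by
      conv_rhs => rw [show t * v * t = t * v * t⁻¹ by rw [hti]]
      rw [conj_pow, hti]
    rw [hc1, htinv, inv_pow]
  · have h1 := hker v hsub htinv
    rw [eq_inv_of_mul_eq_one_right h1, hti]

/-- Involutions of `X` with a fixed point mapping `D` to a given other translate: at most `3`, and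
at most one if some fixed-point-free involution of `P` commutes with all of `X`. -/
theorem fibre_card (b : Block P T D) (X : Subgroup G) {D' : Set Ω} (hne : D' ≠ D) :
    Nat.card {t : G // (t ∈ X ∧ orderOf t = 2 ∧ ∃ c : Ω, t • c = c) ∧ (t • ·) '' D = D'} ≤ 3 ∧
    ((∃ y ∈ setStab D, y * y = 1 ∧ (∀ a ∈ D, y • a ≠ a) ∧ ∀ x ∈ X, x * y = y * x) →
      Nat.card {t : G // (t ∈ X ∧ orderOf t = 2 ∧ ∃ c : Ω, t • c = c) ∧ (t • ·) '' D = D'} ≤ 1) := by
  classical
  set Φ := {t : G // (t ∈ X ∧ orderOf t = 2 ∧ ∃ c : Ω, t • c = c) ∧ (t • ·) '' D = D'}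
  haveI : Fintype D := Fintype.ofFinite _
  have hcard : Fintype.card D = 4 := by rw [← Nat.card_eq_fintype_card, Nat.card_coe_set_eq, b.card_D]
  let ε := Equiv.permCongrHom (Fintype.equivFinOfCardEq hcard)
  let e := ε.toMonoidHom.comp (permOn (G := G) D)
  have hpair : ∀ t t' : Φ, (t : G) * t' ∈ setStab D ∧ ((t : G) * t') ^ 3 = 1 ∧
      (D ⊆ fixedBy Ω ((t : G) * t') → (t : G) = t') := by
    intro t t'
    obtain ⟨⟨-, ht, c, hc⟩, htD⟩ := t.2
    obtain ⟨⟨-, ht', c', hc'⟩, htD'⟩ := t'.2
    exact b.fibre_prod ht ht' hc hc' hne htD htD'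
  have hinv : ∀ t : Φ, (t : G)⁻¹ = t := fun t =>
    inv_eq_of_mul_eq_one_right (by
      have h := pow_orderOf_eq_one (t : G)
      rwa [t.2.1.2.1, pow_two] at h)
  have hne1 : ∀ t t' : Φ, t ≠ t' → e ⟨(t : G) * t', (hpair t t').1⟩ ≠ 1 := by
    intro t t' htt h
    refine htt (Subtype.ext ((hpair t t').2.2 ?_))
    have h' : permOn (G := G) D ⟨(t : G) * t', (hpair t t').1⟩ = 1 :=
      ε.injective (h.trans (map_one _).symm)
    exact (permOn_eq_one_iff D _).1 h'
  refine ⟨?_, fun ⟨y, hy, hy2, hyfree, hyc⟩ => ?_⟩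
  · by_contra hgt
    push Not at hgt
    haveI : Fintype Φ := Fintype.ofFinite _
    rw [Nat.card_eq_fintype_card] at hgt
    obtain ⟨f⟩ : Nonempty (Fin 4 ↪ Φ) := Function.Embedding.nonempty_of_card_le (by rw [Fintype.card_fin]; omega)
    let q : Φ → Φ → Equiv.Perm (Fin 4) := fun t t' => e ⟨(t : G) * t', (hpair t t').1⟩
    have hq : ∀ i j k, (q i j)⁻¹ * q i k = q j k := fun i j k => by
      simp only [q, ← map_inv, ← map_mul]
      refine congrArg e (Subtype.ext ?_)
      show ((i : G) * j)⁻¹ * ((i : G) * k) = (j : G) * k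
      rw [mul_inv_rev, hinv j, mul_assoc, inv_mul_cancel_left]
    have hq3 : ∀ i j, q i j ^ 3 = 1 := fun i j => by
      simp only [q, ← map_pow]
      rw [show (⟨(i : G) * j, (hpair i j).1⟩ : setStab (G := G) D) ^ 3 = 1 from
        Subtype.ext (hpair i j).2.1, map_one]
    have hn : ∀ i j : Fin 4, i ≠ j → q (f i) (f j) ≠ 1 := fun i j h =>
      hne1 _ _ fun e => h (f.injective e)
    have hd : ∀ i j : Fin 4, i ≠ j → q (f 0) (f i) ≠ q (f 0) (f j) := fun i j h e => by
      refine hn i j h ?_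
      rw [← hq (f 0), e, inv_mul_cancel]
    exact three_cycles_triangle _ (hq3 (f 0) (f 1)) (hn 0 1 (by decide))
      _ (hq3 (f 0) (f 2)) (hn 0 2 (by decide)) (hd 1 2 (by decide)) (by rw [hq]; exact hq3 _ _)
      _ (hq3 (f 0) (f 3)) (hn 0 3 (by decide)) (hd 1 3 (by decide)) (hd 2 3 (by decide))
      (by rw [hq]; exact hq3 _ _) (by rw [hq]; exact hq3 _ _)
  · refine Finite.card_le_one_iff_subsingleton.2 ⟨fun t t' => ?_⟩
    by_contra htt
    refine hne1 t t' htt (commute_fpf _ (e ⟨y, hy⟩) ?_ ?_ ?_ ?_)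
    · rw [← map_pow, show (⟨(t : G) * t', (hpair t t').1⟩ : setStab (G := G) D) ^ 3 = 1 from
        Subtype.ext (hpair t t').2.1, map_one]
    · rw [← map_mul, show (⟨y, hy⟩ : setStab (G := G) D) * ⟨y, hy⟩ = 1 from Subtype.ext hy2, map_one]
    · intro i hi
      set a := (Fintype.equivFinOfCardEq hcard).symm i with ha
      refine hyfree a a.2 ?_
      have h2 : Fintype.equivFinOfCardEq hcard (permOn (G := G) D ⟨y, hy⟩ a) = i := hi
      have h3 : permOn (G := G) D ⟨y, hy⟩ a = a :=
        (Fintype.equivFinOfCardEq hcard).injective (by rw [h2, ha, Equiv.apply_symm_apply])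
      exact congrArg Subtype.val h3
    · rw [← map_mul, ← map_mul]
      refine congrArg e (Subtype.ext ?_)
      exact hyc _ (mul_mem t.2.1.1 t'.2.1.1)

/-- The count: with at least two translates in the `X`-orbit and fibres of size at most `r`. -/
theorem count_le (b : Block P T D) (X : Subgroup G) {r : ℕ}
    (hr : ∀ D' : Set Ω, D' ≠ D →
      Nat.card {t : G // (t ∈ X ∧ orderOf t = 2 ∧ ∃ c : Ω, t • c = c) ∧ (t • ·) '' D = D'} ≤ r)
    (hmove : ∃ x ∈ X, x ∉ setStab D) :
    Nat.card {t : G // (t ∈ X ∧ orderOf t = 2 ∧ ∃ c : Ω, t • c = c) ∧ t ∈ setStab D} ≤ r := by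
  classical
  haveI : Fintype G := Fintype.ofFinite G
  set orb : Finset (Set Ω) := (Finset.univ.filter (fun x => x ∈ X)).image (fun x : G => (x • ·) '' D)
    with horb
  set S : Finset G := Finset.univ.filter
    (fun t => (t ∈ X ∧ orderOf t = 2 ∧ ∃ c : Ω, t • c = c) ∧ fixedBy Ω t ∈ orb) with hS
  set n := Nat.card {t : G // (t ∈ X ∧ orderOf t = 2 ∧ ∃ c : Ω, t • c = c) ∧ t ∈ setStab D} with hn
  have hDorb : D ∈ orb := Finset.mem_image.2 ⟨1, by simp [X.one_mem], by simp⟩
  have hm : 2 ≤ orb.card := by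
    obtain ⟨x, hx, hxD⟩ := hmove
    refine Finset.one_lt_card.2 ⟨D, hDorb, (x • ·) '' D,
      Finset.mem_image.2 ⟨x, by simp [hx], rfl⟩, fun e => hxD (mem_setStab_iff_image.2 e.symm)⟩
  have hD : ∀ t : G, orderOf t = 2 → (∃ c : Ω, t • c = c) → (t ∈ setStab D ↔ fixedBy Ω t = D) := by
    intro t ht ⟨c, hc⟩
    refine ⟨fun h => b.two_element h ⟨1, by rw [pow_one, ← ht, pow_orderOf_eq_one]⟩
      (fun e => by rw [e, orderOf_one] at ht; omega) hc, fun h => h ▸ mem_setStab_fixedBy rfl⟩
  -- split by fixed sets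
  have h1 : S.card = orb.card * n := by
    rw [Finset.card_eq_sum_card_fiberwise (f := fun t => fixedBy Ω t) (t := orb)
      (fun t ht => (Finset.mem_filter.1 ht).2.2), Finset.sum_const_nat]
    intro D' hD'
    obtain ⟨x, hx, rfl⟩ := Finset.mem_image.1 hD'
    have hx' : x ∈ X := (Finset.mem_filter.1 hx).2
    rw [hn, ← Fintype.card_coe, ← Nat.card_eq_fintype_card]
    refine Nat.card_congr ⟨fun t => ⟨x⁻¹ * t * x, ?_⟩, fun t => ⟨x * t * x⁻¹, ?_⟩, fun t => ?_, fun t => ?_⟩
    · obtain ⟨ht, htf⟩ := Finset.mem_filter.1 t.2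
      obtain ⟨⟨htX, ht2, c, hc⟩, -⟩ := (Finset.mem_filter.1 ht).2
      have ho : orderOf (x⁻¹ * (t : G) * x) = 2 := by
        rw [← ht2]; simpa using CfsgLib.Signalizer.orderOf_conj x⁻¹ (t : G)
      refine ⟨⟨mul_mem (mul_mem (inv_mem hx') htX) hx', ho, x⁻¹ • c, ?_⟩, ?_⟩
      · rw [mul_smul, mul_smul, smul_inv_smul, hc]
      · refine (hD _ ho ⟨x⁻¹ • c, by rw [mul_smul, mul_smul, smul_inv_smul, hc]⟩).2 ?_
        have e := fixedBy_conj (Ω := Ω) x⁻¹ (t : G)
        rw [inv_inv] at e
        rw [e, htf, Set.image_image]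
        simp
    · obtain ⟨⟨htX, ht2, c, hc⟩, htD⟩ := t.2
      have hf := (hD _ ht2 ⟨c, hc⟩).1 htD
      refine Finset.mem_filter.2 ⟨Finset.mem_filter.2 ⟨Finset.mem_univ _,
        ⟨mul_mem (mul_mem hx' htX) (inv_mem hx'), by rw [CfsgLib.Signalizer.orderOf_conj]; exact ht2,
          x • c, by rw [mul_smul, mul_smul, inv_smul_smul, hc]⟩, ?_⟩, ?_⟩
      · rw [fixedBy_conj, hf]; exact hD'
      · rw [fixedBy_conj, hf]
    · exact Subtype.ext (show x * (x⁻¹ * (t : G) * x) * x⁻¹ = t by group)
    · exact Subtype.ext (show x⁻¹ * (x * (t : G) * x⁻¹) * x = t by group)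
  -- split by images of `D`
  have h2 : S.card ≤ n + (orb.card - 1) * r := by
    rw [Finset.card_eq_sum_card_fiberwise (f := fun t => (t • ·) '' D) (t := orb)
      (fun t ht => Finset.mem_image.2 ⟨t, by simp [(Finset.mem_filter.1 ht).2.1.1], rfl⟩),
      ← Finset.add_sum_erase _ _ hDorb]
    refine Nat.add_le_add ?_ ?_
    · rw [hn, ← Fintype.card_coe, ← Nat.card_eq_fintype_card]
      refine Nat.card_le_card_of_injective (fun t => ⟨(t : G), ?_⟩) ?_
      · obtain ⟨ht, hte⟩ := Finset.mem_filter.1 t.2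
        exact ⟨(Finset.mem_filter.1 ht).2.1, mem_setStab_iff_image.2 hte⟩
      · intro t t' e
        exact Subtype.ext (congrArg Subtype.val e :)
    · refine (Finset.sum_le_card_nsmul _ _ r fun D' hD' => ?_).trans_eq
        (by rw [Finset.card_erase_of_mem hDorb, smul_eq_mul])
      refine le_trans ?_ (hr D' (Finset.mem_erase.1 hD').1)
      rw [← Fintype.card_coe, ← Nat.card_eq_fintype_card]
      refine Nat.card_le_card_of_injective (fun t => ⟨(t : G), ?_⟩) ?_
      · obtain ⟨ht, hte⟩ := Finset.mem_filter.1 t.2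
        exact ⟨(Finset.mem_filter.1 ht).2.1, hte⟩
      · intro t t' e
        exact Subtype.ext (congrArg Subtype.val e :)
  rw [h1] at h2
  obtain ⟨m, hm'⟩ : ∃ m, orb.card = m + 2 := ⟨orb.card - 2, by omega⟩
  rw [hm', show m + 2 - 1 = m + 1 by omega] at h2
  have : (m + 1) * n ≤ (m + 1) * r := by
    have e : (m + 2) * n = (m + 1) * n + n := by ring
    omega
  exact Nat.le_of_mul_le_mul_left this (by omega)

end Block

end CfsgLib.Fixity
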