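import Cfsg.Prelude.Def_Involutions
import Cfsg.Agent.Lib.Fixity.Block

/-!
# The block configuration gives a strongly embedded subgroup

If the setwise stabiliser `H` of the block is not strongly embedded, its pointwise part has exactly
three involutions, permuted oddly by an element of the Sylow subgroup; transfer shows that this
sign is trivial on `T`, and Grün's theorem that it is trivial on `P`.
-/

set_option autoImplicit false

namespace CfsgLib.Fixity

open MulAction

variable {G Ω : Type*} [Group G] [MulAction G Ω] [Finite G] [Finite Ω]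
variable {P : Sylow 2 G} {T : Subgroup G} {D : Set Ω}

namespace Block

/-- Transfer: homomorphisms of the block stabiliser to `±1` are trivial on `T`. -/
theorem char_eq_one (b : Block P T D) (hperf : commutator G = ⊤) (χ : setStab (G := G) D →* ℤˣ)
    {t : G} (ht : t ∈ T) : χ ⟨t, b.config.le_setStab ht⟩ = 1 := by
  classical
  by_cases ht1 : t = 1
  · subst ht1; exact χ.map_one
  obtain ⟨c, hc, -⟩ := b.config.moved
  haveI : Fact (Nat.Prime 2) := ⟨Nat.prime_two⟩
  have htH : t ∈ setStab D := b.config.le_setStab ht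
  have hV : MonoidHom.transfer χ t = 1 := by
    have h := Abelianization.commutator_subset_ker (MonoidHom.transfer χ)
    rw [hperf] at h
    exact h (Subgroup.mem_top t)
  rw [← hV]
  haveI : Fintype (Quotient (orbitRel (Subgroup.zpowers t) (G ⧸ setStab (G := G) D))) := Fintype.ofFinite _
  rw [MonoidHom.transfer_eq_prod_quotient_orbitRel_zpowers_quot]
  set q0 : Quotient (orbitRel (Subgroup.zpowers t) (G ⧸ setStab (G := G) D)) :=
    Quotient.mk'' ((1 : G) : G ⧸ setStab (G := G) D)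
  have hfixed : t • ((1 : G) : G ⧸ setStab (G := G) D) = ((1 : G) : G ⧸ setStab (G := G) D) := by
    rw [MulAction.Quotient.smul_coe, smul_eq_mul, mul_one, QuotientGroup.eq, mul_one]
    exact inv_mem htH
  have hpow : ∀ i : ℤ, (t ^ i) • ((1 : G) : G ⧸ setStab (G := G) D) = ((1 : G) : G ⧸ setStab (G := G) D) := by
    intro i
    rw [MulAction.Quotient.smul_coe, smul_eq_mul, mul_one, QuotientGroup.eq, mul_one]
    exact inv_mem (zpow_mem htH i)
  rw [Finset.prod_eq_single q0]
  · -- the orbit of `H`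
    have hout : q0.out = ((1 : G) : G ⧸ setStab (G := G) D) := by
      have h := Quotient.mk_out' (s₁ := orbitRel (Subgroup.zpowers t) (G ⧸ setStab (G := G) D))
        ((1 : G) : G ⧸ setStab (G := G) D)
      obtain ⟨⟨_, i, rfl⟩, hi⟩ := h
      exact hi.symm.trans (hpow i)
    have hg : q0.out.out ∈ setStab D := by
      have h : (q0.out.out : G ⧸ setStab (G := G) D) = ((1 : G) : G ⧸ setStab (G := G) D) :=
        (QuotientGroup.out_eq' _).trans hout
      rw [QuotientGroup.eq, mul_one] at h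
      simpa using h
    have hper : Function.minimalPeriod (t • ·) q0.out = 1 := by
      rw [Function.minimalPeriod_eq_one_iff_isFixedPt, hout]
      exact hfixed
    have e : (⟨q0.out.out⁻¹ * t ^ Function.minimalPeriod (t • ·) q0.out * q0.out.out,
        QuotientGroup.out_conj_pow_minimalPeriod_mem (setStab (G := G) D) t q0.out⟩ : setStab (G := G) D) =
        (⟨q0.out.out, hg⟩ : setStab (G := G) D)⁻¹ * ⟨t, htH⟩ * ⟨q0.out.out, hg⟩ :=
      Subtype.ext (by
        show q0.out.out⁻¹ * t ^ _ * q0.out.out = q0.out.out⁻¹ * t * q0.out.out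
        rw [hper, pow_one])
    rw [e, map_mul, map_mul, map_inv, mul_comm (χ ⟨q0.out.out, hg⟩)⁻¹, inv_mul_cancel_right]
  · intro q _ hq
    by_cases h1 : t ^ Function.minimalPeriod (t • ·) q.out = 1
    · rw [← χ.map_one]
      congr 1
      exact Subtype.ext (by simp [h1])
    exfalso
    set g := q.out.out
    set k := Function.minimalPeriod (t • ·) q.out
    have hu : g⁻¹ * t ^ k * g ∈ setStab D :=
      QuotientGroup.out_conj_pow_minimalPeriod_mem (setStab (G := G) D) t q.out
    obtain ⟨j, hj⟩ := (IsPGroup.iff_orderOf.1 P.isPGroup') ⟨t ^ k, pow_mem (b.config.le ht) k⟩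
    rw [Subgroup.orderOf_mk] at hj
    have hu2 : (g⁻¹ * t ^ k * g) ^ 2 ^ j = 1 := by
      have e : g⁻¹ * t ^ k * g = g⁻¹ * t ^ k * g⁻¹⁻¹ := by rw [inv_inv]
      rw [e, conj_pow, ← hj, pow_orderOf_eq_one, mul_one, mul_inv_cancel]
    have hu1 : g⁻¹ * t ^ k * g ≠ 1 := fun e => h1 (by
      calc t ^ k = g * (g⁻¹ * t ^ k * g) * g⁻¹ := by group
        _ = 1 := by rw [e]; group)
    have hfix := b.two_element hu ⟨j, hu2⟩ hu1 (c := g⁻¹ • c) (by
      rw [mul_smul, mul_smul, smul_inv_smul, b.config.fix_mem (pow_mem ht k) hc])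
    have htk := b.config.exact_fix _ (pow_mem ht k) h1
    have hgH : g⁻¹ ∈ setStab D := by
      rw [mem_setStab_iff_image]
      conv_rhs => rw [← hfix]
      rw [← htk, ← fixedBy_conj, inv_inv]
    refine hq ?_
    have h : q.out = ((1 : G) : G ⧸ setStab (G := G) D) := by
      rw [← QuotientGroup.out_eq' q.out, QuotientGroup.eq, mul_one]
      exact hgH
    rw [← Quotient.out_eq' q, h]
  · exact fun h => absurd (Finset.mem_univ q0) h

set_option maxHeartbeats 800000 in
/-- The conclusion. -/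
theorem strongly_embedded (b : Block P T D) [IsSimpleGroup G] [IsPretransitive G Ω] [FaithfulSMul G Ω]
    (hna : ¬ IsMulCommutative G) (hperf : commutator G = ⊤)
    (hder : ∀ x ∈ (P : Subgroup G), ∀ y ∈ (P : Subgroup G), x * y * x⁻¹ * y⁻¹ ∈ T) :
    ∃ H : Subgroup G, Cfsg.IsStronglyEmbedded H := by
  classical
  haveI : Fact (Nat.Prime 2) := ⟨Nat.prime_two⟩
  have d := b.config
  obtain ⟨c0, hc0, -⟩ := d.moved
  have hNT : (P : Subgroup G) ≤ Subgroup.normalizer (T : Set G) := fun y hy =>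
    d.inf_setStab_le_normalizer ⟨hy, b.stable hy⟩
  obtain ⟨z, hzT, hz, hzc⟩ := exists_central P.isPGroup' d.le d.ne_bot hNT
  have hz1 : z ≠ 1 := fun h => by rw [h, orderOf_one] at hz; omega
  have hzz : z * z = 1 := by rw [← pow_two, ← hz, pow_orderOf_eq_one]
  have hzfix : fixedBy Ω z = D := d.exact_fix z hzT hz1
  set H := setStab (G := G) D with hH
  have hHtop : H ≠ ⊤ := fun htop => by
    refine hz1 (FaithfulSMul.eq_of_smul_eq_smul (α := Ω) fun a => ?_)
    obtain ⟨g, rfl⟩ := exists_smul_eq G c0 a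
    rw [one_smul]
    exact d.fix_mem hzT ((mem_setStab.1 (show g ∈ H by rw [htop]; exact Subgroup.mem_top g) c0).2 hc0)
  by_cases hA : ∀ y ∈ H, orderOf y = 2 → (∀ a : Ω, y • a ≠ a) → Subgroup.centralizer ({y} : Set G) ≤ H
  · refine ⟨H, hHtop, even_iff_two_dvd.2 ?_, fun g hg => ?_⟩
    · rw [← hz]
      exact Subgroup.orderOf_dvd_natCard _ (b.stable (d.le hzT))
    rw [← Nat.not_even_iff_odd]
    intro heven
    obtain ⟨y, hy⟩ := exists_prime_orderOf_dvd_card'
      (G := ↥(H ⊓ H.map (MulAut.conj g).toMonoidHom)) 2 (even_iff_two_dvd.1 heven)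
    have hy2 : orderOf (y : G) = 2 := by rw [Subgroup.orderOf_coe, hy]
    have hy1 : (y : G) ≠ 1 := fun h => by rw [h, orderOf_one] at hy2; omega
    obtain ⟨w, hw, hwy⟩ := y.2.2
    have hwy' : g * w * g⁻¹ = (y : G) := hwy
    by_cases hfix : ∃ a : Ω, (y : G) • a = a
    · obtain ⟨a, ha⟩ := hfix
      have e1 := b.two_element y.2.1 ⟨1, by rw [pow_one, ← hy2, pow_orderOf_eq_one]⟩ hy1 ha
      have hw1 : w ≠ 1 := fun h => hy1 (by rw [← hwy', h]; group)
      have e2 := b.two_element hw ⟨1, by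
        rw [pow_one]
        have h := pow_orderOf_eq_one (y : G)
        rw [hy2, ← hwy', conj_pow, conj_eq_one_iff] at h
        exact h⟩ hw1 (c := g⁻¹ • a) (by
        rw [show w = g⁻¹ * (y : G) * g by rw [← hwy']; group, mul_smul, mul_smul, smul_inv_smul, ha])
      refine hg (mem_setStab_iff_image.2 ?_)
      conv_lhs => rw [← e2]
      rw [← fixedBy_conj, hwy', e1]
    push Not at hfix
    have hw2 : orderOf w = 2 := by rw [← hy2, ← hwy', CfsgLib.Signalizer.orderOf_conj]
    obtain ⟨h, hh, hP⟩ := exists_conj_mem P b.stable hw ⟨1, by rw [pow_one, ← hw2, pow_orderOf_eq_one]⟩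
    set t := g * (h⁻¹ * z * h) * g⁻¹ with htdef
    have hty : t * y = y * t := by
      have := hzc _ hP
      have hwz : (h⁻¹ * z * h) * w = w * (h⁻¹ * z * h) := by
        calc (h⁻¹ * z * h) * w = h⁻¹ * (z * (h * w * h⁻¹)) * h := by group
          _ = h⁻¹ * ((h * w * h⁻¹) * z) * h := by rw [this]
          _ = _ := by group
      rw [htdef, ← hwy']
      calc g * (h⁻¹ * z * h) * g⁻¹ * (g * w * g⁻¹) = g * ((h⁻¹ * z * h) * w) * g⁻¹ := by group
        _ = g * (w * (h⁻¹ * z * h)) * g⁻¹ := by rw [hwz]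
        _ = _ := by group
    have htH : t ∈ H := hA _ y.2.1 hy2 hfix (Subgroup.mem_centralizer_singleton_iff.2 hty)
    have htfix : fixedBy Ω t = (g • ·) '' D := by
      rw [htdef, fixedBy_conj, show h⁻¹ * z * h = h⁻¹ * z * h⁻¹⁻¹ by rw [inv_inv], fixedBy_conj, hzfix,
        mem_setStab_iff_image.1 (inv_mem hh)]
    refine hg (mem_setStab_iff_image.2 ?_)
    rw [← htfix]
    have ht1 : t ≠ 1 := fun e => hz1 (by
      have e' := conj_eq_one_iff.1 (htdef ▸ e)
      calc z = h * (h⁻¹ * z * h) * h⁻¹ := by group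
        _ = 1 := by rw [e']; group)
    refine b.two_element htH ⟨1, ?_⟩ ht1 (c := g • c0) ?_
    · rw [pow_one, htdef, pow_two]
      calc g * (h⁻¹ * z * h) * g⁻¹ * (g * (h⁻¹ * z * h) * g⁻¹) = g * h⁻¹ * (z * z) * h * g⁻¹ := by group
        _ = 1 := by rw [hzz]; group
    · have : g • c0 ∈ fixedBy Ω t := by rw [htfix]; exact ⟨c0, hc0, rfl⟩
      exact this
  exfalso
  push Not at hA
  obtain ⟨y0, hy0H, hy02, hy0fix, hnle⟩ := hA
  obtain ⟨x, hx, hxH⟩ := SetLike.not_le_iff_exists.1 hnle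
  obtain ⟨h, hh, hyP⟩ := exists_conj_mem P b.stable hy0H ⟨1, by rw [pow_one, ← hy02, pow_orderOf_eq_one]⟩
  set y := h * y0 * h⁻¹ with hydef
  have hy2 : y * y = 1 := by
    have h2 := pow_orderOf_eq_one y0
    rw [hy02, pow_two] at h2
    rw [hydef, show h * y0 * h⁻¹ * (h * y0 * h⁻¹) = h * (y0 * y0) * h⁻¹ by group, h2]
    group
  have hyi : y⁻¹ = y := inv_eq_of_mul_eq_one_right hy2
  have hyfix : ∀ a : Ω, y • a ≠ a := fun a ha => hy0fix (h⁻¹ • a) (by
    have : y0 = h⁻¹ * y * h := by rw [hydef]; group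
    rw [this, mul_smul, mul_smul, smul_inv_smul, ha])
  have hyH : y ∈ setStab D := b.stable hyP
  set X := Subgroup.centralizer ({y} : Set G) with hX
  have hmove : ∃ u ∈ X, u ∉ setStab D := by
    refine ⟨h * x * h⁻¹, Subgroup.mem_centralizer_singleton_iff.2 ?_, fun hc => hxH ?_⟩
    · have := Subgroup.mem_centralizer_singleton_iff.1 hx
      rw [hydef]
      calc h * x * h⁻¹ * (h * y0 * h⁻¹) = h * (x * y0) * h⁻¹ := by group
        _ = h * (y0 * x) * h⁻¹ := by rw [this]
        _ = _ := by group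
    · have := mul_mem (mul_mem (inv_mem hh) hc) hh
      simpa [mul_assoc] using this
  have hX1 := b.count_le X (r := 1) (fun D' hD' => (b.fibre_card X hD').2
    ⟨y, hyH, hy2, fun a _ => hyfix a, fun u hu => Subgroup.mem_centralizer_singleton_iff.1 hu⟩) hmove
  have hall : Nat.card {t : G // (t ∈ (⊤ : Subgroup G) ∧ orderOf t = 2 ∧ ∃ c : Ω, t • c = c) ∧ t ∈ setStab D} ≤ 3 := by
    obtain ⟨u, -, hu⟩ := hmove
    exact b.count_le ⊤ (fun D' hD' => (b.fibre_card ⊤ hD').1) ⟨u, Subgroup.mem_top u, hu⟩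
  have hTmem : ∀ t ∈ T, ∀ g : G, g * t * g⁻¹ ∈ (P : Subgroup G) → g * t * g⁻¹ ∈ T := fun t ht g hg =>
    d.conj_mem_of_fix (by rw [Set.ncard_empty, b.card_D]; norm_num)
      (fun u hu huT c hc => absurd hc (b.free u hu huT c)) ht hg
  -- a second involution of `T`
  obtain ⟨a, haT, ha, haz⟩ : ∃ a ∈ T, orderOf a = 2 ∧ a ≠ z := by
    by_contra hno
    push Not at hno
    exact not_isolated hna P hz (d.le hzT) fun g hg =>
      hno _ (hTmem z hzT g hg) (by rw [CfsgLib.Signalizer.orderOf_conj]; exact hz)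
  have ha1 : a ≠ 1 := fun h => by rw [h, orderOf_one] at ha; omega
  have haa : a * a = 1 := by rw [← pow_two, ← ha, pow_orderOf_eq_one]
  have haza : a * z = z * a := hzc a (d.le haT)
  have hza1 : z * a ≠ 1 := fun e => haz (by
    rw [eq_inv_of_mul_eq_one_right e, inv_eq_of_mul_eq_one_right hzz])
  have hza2 : orderOf (z * a) = 2 := orderOf_eq_prime (by
    rw [pow_two, Commute.mul_mul_mul_comm haza, hzz, haa, one_mul]) hza1
  set I := {t : G // (t ∈ (⊤ : Subgroup G) ∧ orderOf t = 2 ∧ ∃ c : Ω, t • c = c) ∧ t ∈ setStab D}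
  have memI : ∀ t ∈ T, orderOf t = 2 →
      (t ∈ (⊤ : Subgroup G) ∧ orderOf t = 2 ∧ ∃ c : Ω, t • c = c) ∧ t ∈ setStab D :=
    fun t ht h2 => ⟨⟨Subgroup.mem_top t, h2, c0, d.fix_mem ht hc0⟩, d.le_setStab ht⟩
  have hI : ∀ t : I, (t : G) = z ∨ (t : G) = a ∨ (t : G) = z * a := by
    intro t
    by_contra hne
    push Not at hne
    haveI : Fintype I := Fintype.ofFinite _
    have d1 : z ≠ z * a := fun e => ha1 (left_eq_mul.1 e)
    have d2 : a ≠ z * a := fun e => hz1 (right_eq_mul.1 e)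
    set zI : I := ⟨z, memI z hzT hz⟩
    set aI : I := ⟨a, memI a haT ha⟩
    set cI : I := ⟨z * a, memI _ (mul_mem hzT haT) hza2⟩
    have h4 : ({zI, aI, cI, t} : Finset I).card = 4 := by
      rw [Finset.card_insert_of_notMem, Finset.card_insert_of_notMem, Finset.card_pair]
      · exact fun e => hne.2.2 (congrArg Subtype.val e).symm
      · simp only [Finset.mem_insert, Finset.mem_singleton, not_or]
        exact ⟨fun e => d2 (congrArg Subtype.val e), fun e => hne.2.1 (congrArg Subtype.val e).symm⟩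
      · simp only [Finset.mem_insert, Finset.mem_singleton, not_or]
        exact ⟨fun e => haz (congrArg Subtype.val e).symm, fun e => d1 (congrArg Subtype.val e),
          fun e => hne.1 (congrArg Subtype.val e).symm⟩
    have := Finset.card_le_univ ({zI, aI, cI, t} : Finset I)
    rw [h4, ← Nat.card_eq_fintype_card] at this
    have h3 : Nat.card I ≤ 3 := hall
    omega
  -- `y` does not centralise `a`
  have hya : y * a * y⁻¹ ≠ a := by
    intro e
    have hc : a * y = y * a := by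
      calc a * y = (y * a * y⁻¹) * y := by rw [e]
        _ = y * a := by group
    haveI := Finite.card_le_one_iff_subsingleton.1 hX1
    have := Subsingleton.elim
      (⟨z, ⟨Subgroup.mem_centralizer_singleton_iff.2 (hzc y hyP).symm, hz, c0, d.fix_mem hzT hc0⟩,
        d.le_setStab hzT⟩ : {t : G // (t ∈ X ∧ orderOf t = 2 ∧ ∃ c : Ω, t • c = c) ∧ t ∈ setStab D})
      ⟨a, ⟨Subgroup.mem_centralizer_singleton_iff.2 hc, ha, c0, d.fix_mem haT hc0⟩, d.le_setStab haT⟩
    exact haz (congrArg Subtype.val this).symm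
  -- the sign of the conjugation action on the three involutions
  have hconjI : ∀ (m : setStab (G := G) D) (t : I),
      ((m : G) * t * (m : G)⁻¹ ∈ (⊤ : Subgroup G) ∧ orderOf ((m : G) * t * (m : G)⁻¹) = 2 ∧
        ∃ c : Ω, ((m : G) * t * (m : G)⁻¹) • c = c) ∧ (m : G) * t * (m : G)⁻¹ ∈ setStab D := fun m t => by
    obtain ⟨⟨-, h2, c, hc⟩, hD⟩ := t.2
    exact ⟨⟨Subgroup.mem_top _, by rw [CfsgLib.Signalizer.orderOf_conj]; exact h2, (m : G) • c,
      by rw [mul_smul, mul_smul, inv_smul_smul, hc]⟩, mul_mem (mul_mem m.2 hD) (inv_mem m.2)⟩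
  let f : setStab (G := G) D →* Equiv.Perm I :=
    { toFun := fun m =>
        { toFun := fun t => ⟨_, hconjI m t⟩
          invFun := fun t => ⟨_, hconjI m⁻¹ t⟩
          left_inv := fun t => Subtype.ext (show ((m⁻¹ : setStab (G := G) D) : G) * ((m : G) * t * (m : G)⁻¹) *
            ((m⁻¹ : setStab (G := G) D) : G)⁻¹ = t by rw [InvMemClass.coe_inv]; group)
          right_inv := fun t => Subtype.ext (show (m : G) * (((m⁻¹ : setStab (G := G) D) : G) * t *
            ((m⁻¹ : setStab (G := G) D) : G)⁻¹) * (m : G)⁻¹ = t by rw [InvMemClass.coe_inv]; group) }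
      map_one' := Equiv.ext fun t => Subtype.ext (show (1 : G) * t * (1 : G)⁻¹ = t by group)
      map_mul' := fun m m' => Equiv.ext fun t => Subtype.ext
        (show ((m * m' : setStab (G := G) D) : G) * t * ((m * m' : setStab (G := G) D) : G)⁻¹ =
          (m : G) * ((m' : G) * t * (m' : G)⁻¹) * (m : G)⁻¹ by rw [Subgroup.coe_mul]; group) }
  haveI : Fintype I := Fintype.ofFinite _
  set χ : setStab (G := G) D →* ℤˣ := Equiv.Perm.sign.comp f
  have hyzy : y * z * y⁻¹ = z := by rw [hzc y hyP, mul_inv_cancel_right]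
  have hyazy : y * a * y⁻¹ = z * a := by
    rcases hI ⟨_, hconjI ⟨y, hyH⟩ ⟨a, memI a haT ha⟩⟩ with e | e | e
    · exfalso
      have e' : y * a * y⁻¹ = z := e
      exact haz (mul_left_cancel (mul_right_cancel (e'.trans hyzy.symm)))
    · exact absurd e hya
    · exact e
  have hswap : f ⟨y, hyH⟩ = Equiv.swap ⟨a, memI a haT ha⟩ ⟨z * a, memI _ (mul_mem hzT haT) hza2⟩ := by
    refine Equiv.ext fun t => Subtype.ext ?_
    show y * (t : G) * y⁻¹ = _
    rcases hI t with e | e | e
    · rw [e, hyzy, Equiv.swap_apply_of_ne_of_ne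
        (fun e' => haz ((congrArg Subtype.val e').symm.trans e))
        (fun e' => ha1 (left_eq_mul.1 (e.symm.trans (congrArg Subtype.val e'))))]
      exact e.symm
    · obtain rfl : t = ⟨a, memI a haT ha⟩ := Subtype.ext e
      rw [Equiv.swap_apply_left]
      exact hyazy
    · obtain rfl : t = ⟨z * a, memI _ (mul_mem hzT haT) hza2⟩ := Subtype.ext e
      rw [Equiv.swap_apply_right]
      show y * (z * a) * y⁻¹ = a
      calc y * (z * a) * y⁻¹ = (y * z * y⁻¹) * (y * a * y⁻¹) := by group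
        _ = a := by rw [hyzy, hyazy, ← mul_assoc, hzz, one_mul]
  have hχy : χ ⟨y, hyH⟩ = -1 := by
    show Equiv.Perm.sign (f ⟨y, hyH⟩) = -1
    rw [hswap, Equiv.Perm.sign_swap]
    exact fun e => hz1 (right_eq_mul.1 (congrArg Subtype.val e))
  set L := χ.ker.map (setStab (G := G) D).subtype
  have hLmem : ∀ (u : G) (hu : u ∈ setStab D), χ ⟨u, hu⟩ = 1 → u ∈ L := fun u hu e =>
    ⟨⟨u, hu⟩, e, rfl⟩
  have hTL : T ≤ L := fun t ht => hLmem t (d.le_setStab ht) (b.char_eq_one hperf χ ht)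
  have hyL : y ∉ L := by
    rintro ⟨m, hm, hmy⟩
    obtain rfl : m = ⟨y, hyH⟩ := Subtype.ext hmy
    rw [SetLike.mem_coe, MonoidHom.mem_ker, hχy] at hm
    exact absurd hm (by decide)
  refine not_gruen hperf P T L hTL (fun hPL => hyL (hPL hyP)) hder
    (fun t ht g hg => hTL (hTmem t ht g hg)) fun n hn u hu => ?_
  have hnH : n ∈ setStab D := d.setStab_of_conj hzT hz1
    (hTmem z hzT n ((Subgroup.mem_normalizer_iff.1 hn z).1 (d.le hzT)))
  refine hLmem _ (mul_mem (mul_mem (mul_mem hnH (b.stable hu)) (inv_mem hnH)) (inv_mem (b.stable hu))) ?_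
  have e : (⟨n * u * n⁻¹ * u⁻¹, mul_mem (mul_mem (mul_mem hnH (b.stable hu)) (inv_mem hnH))
      (inv_mem (b.stable hu))⟩ : setStab (G := G) D) =
      ⟨n, hnH⟩ * ⟨u, b.stable hu⟩ * (⟨n, hnH⟩ : setStab (G := G) D)⁻¹ * (⟨u, b.stable hu⟩ : setStab (G := G) D)⁻¹ :=
    rfl
  rw [e, map_mul, map_mul, map_mul, map_inv, map_inv, mul_comm (χ ⟨n, hnH⟩), mul_inv_cancel_right,
    mul_inv_cancel]

end Block

end CfsgLib.Fixity
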