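import Cfsg.Agent.Lib.Fixity.Config

/-!
# Producing configurations

Either all nontrivial elements of a Sylow subgroup `P` have the same fixed points, or some point
stabiliser `T` in `P` gives a configuration.
-/

set_option autoImplicit false

namespace CfsgLib.Fixity

open MulAction

variable {G Ω : Type*} [Group G] [MulAction G Ω] [Finite G] [Finite Ω]

omit [Finite Ω] in
/-- Subgroups meeting trivially. -/
theorem card_mul_le_of_disjoint {A B C : Subgroup G} (hA : A ≤ C) (hB : B ≤ C)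
    (h : ∀ x ∈ A, x ∈ B → x = 1) : Nat.card A * Nat.card B ≤ Nat.card C := by
  rw [← Nat.card_prod]
  refine Nat.card_le_card_of_injective
    (fun q : A × B => (⟨(q.1 : G) * q.2, mul_mem (hA q.1.2) (hB q.2.2)⟩ : C)) ?_
  rintro ⟨a, b⟩ ⟨a', b'⟩ he
  have he' : (a : G) * b = a' * b' := congrArg Subtype.val he
  have h1 : (a' : G)⁻¹ * a = (b' : G) * (b : G)⁻¹ := by
    calc (a' : G)⁻¹ * a = (a' : G)⁻¹ * ((a : G) * b) * (b : G)⁻¹ := by group
      _ = _ := by rw [he']; group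
  have h2 := h _ (mul_mem (inv_mem a'.2) a.2) (h1 ▸ mul_mem b'.2 (inv_mem b.2))
  rw [h2] at h1
  exact Prod.ext (Subtype.ext (inv_mul_eq_one.1 h2).symm) (Subtype.ext (mul_inv_eq_one.1 h1.symm).symm)

/-- The common fixed points of a subgroup. -/
def fixSet (T : Subgroup G) : Set Ω := {a | ∀ t ∈ T, t • a = a}

omit [Finite G] [Finite Ω] in
theorem fixSet_subset {T : Subgroup G} {t : G} (ht : t ∈ T) : fixSet (Ω := Ω) T ⊆ fixedBy Ω t :=
  fun _ ha => ha t ht

/-- The orbit of the normaliser of a point stabiliser. -/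
theorem exists_orbit {p : ℕ} [Fact p.Prime] {P T : Subgroup G} (hP : IsPGroup p P) (hle : T ≤ P)
    (hne : T ≠ P) {b : Ω} (hT : ∀ y ∈ P, y ∈ T ↔ y • b = b) :
    ∃ O : Set Ω, b ∈ O ∧ p ≤ O.ncard ∧ (∃ j : ℕ, O.ncard = p ^ j) ∧
      O ⊆ fixSet T ∧ Disjoint O (fixSet P) ∧ (∀ c ∈ O, ∀ y ∈ P, y • c = c → y ∈ T) ∧
      ∀ m ∈ P, m ∈ Subgroup.normalizer (T : Set G) → m ∈ setStab O := by
  set N := P ⊓ Subgroup.normalizer (T : Set G) with hN
  refine ⟨orbit N b, mem_orbit_self b, ?_⟩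
  have hb1 : ∀ t ∈ T, t • b = b := fun t ht => (hT t (hle ht)).1 ht
  obtain ⟨n, hnP, hnT, hnn⟩ := exists_normalizer_notMem hP hle hne
  have hnb : n • b ≠ b := fun h => hnT ((hT n hnP).2 h)
  have hcard : ∃ j, (orbit N b).ncard = p ^ j := by
    rw [← index_stabilizer]
    exact (hP.to_le inf_le_left).index _
  refine ⟨?_, hcard, ?_, ?_, ?_, ?_⟩
  · obtain ⟨j, hj⟩ := hcard
    rcases j with _ | j
    · exfalso
      rw [pow_zero, Set.ncard_eq_one] at hj
      obtain ⟨a, ha⟩ := hj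
      have h1 : n • b ∈ orbit N b := ⟨⟨n, hnP, hnn⟩, rfl⟩
      have h2 : b ∈ orbit N b := mem_orbit_self b
      rw [ha] at h1 h2
      exact hnb (h1.trans h2.symm)
    · rw [hj]
      calc p = p ^ 1 := (pow_one p).symm
        _ ≤ p ^ (j + 1) := Nat.pow_le_pow_right (Fact.out : p.Prime).pos (by omega)
  · rintro _ ⟨⟨m, hmP, hmn⟩, rfl⟩ t ht
    show t • (m • b) = m • b
    have h := hb1 _ ((Subgroup.mem_normalizer_iff''.1 hmn t).1 ht)
    rw [mul_smul, mul_smul, inv_smul_eq_iff] at h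
    exact h
  · rw [Set.disjoint_left]
    rintro _ ⟨⟨m, hmP, hmn⟩, rfl⟩ h
    have h' : m⁻¹ • (m • b) = m • b := h m⁻¹ (inv_mem hmP)
    rw [inv_smul_smul] at h'
    have h'' : n • (m • b) = m • b := h n hnP
    rw [← h'] at h''
    exact hnb h''
  · rintro _ ⟨⟨m, hmP, hmn⟩, rfl⟩ y hy hyc
    have hc : y • (m • b) = m • b := hyc
    have h : m⁻¹ * y * m ∈ T :=
      (hT _ (mul_mem (mul_mem (inv_mem hmP) hy) hmP)).2 (by rw [mul_smul, mul_smul, hc, inv_smul_smul])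
    have h' := (Subgroup.mem_normalizer_iff.1 hmn _).1 h
    simpa [mul_assoc] using h'
  · intro m hm hmn
    refine mem_setStab_of_maps ?_
    rintro _ ⟨y, rfl⟩
    exact ⟨⟨m, hm, hmn⟩ * y, mul_smul m (y : G) b⟩

/-- A `p`-element fixes as many points as `Ω` has, modulo `p`. -/
theorem modEq_fixedBy {p : ℕ} [Fact p.Prime] {x : G} (hx : orderOf x = p) :
    Nat.card Ω ≡ (fixedBy Ω x).ncard [MOD p] := by
  have hP : IsPGroup p (Subgroup.zpowers x) :=
    IsPGroup.of_card (n := 1) (by rw [Nat.card_zpowers, hx, pow_one])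
  have h := hP.card_modEq_card_fixedPoints Ω
  convert h using 1
  rw [← Nat.card_coe_set_eq]
  refine Nat.card_congr (Equiv.setCongr ?_)
  ext a
  rw [mem_fixedBy, mem_fixedPoints]
  refine ⟨fun h y => ?_, fun h => h ⟨x, Subgroup.mem_zpowers x⟩⟩
  obtain ⟨k, hk⟩ := Subgroup.mem_zpowers_iff.1 y.2
  have hx' : x ∈ stabilizer G a := h
  show (y : G) • a = a
  rw [← hk]
  exact Subgroup.zpow_mem _ hx' k

omit [Finite G] in
theorem modEq_fixSet {p : ℕ} [Fact p.Prime] {P : Subgroup G} (hP : IsPGroup p P) :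
    Nat.card Ω ≡ (fixSet (Ω := Ω) P).ncard [MOD p] := by
  have h := hP.card_modEq_card_fixedPoints Ω
  convert h using 1
  rw [← Nat.card_coe_set_eq]
  refine Nat.card_congr (Equiv.setCongr ?_)
  ext a
  exact ⟨fun h y => h y y.2, fun h y hy => h ⟨y, hy⟩⟩

/-- An element of order `p` inside a nontrivial `p`-subgroup. -/
theorem exists_order_eq {p : ℕ} [Fact p.Prime] {T : Subgroup G} (hT : IsPGroup p T) (hne : T ≠ ⊥) :
    ∃ t ∈ T, orderOf t = p := by
  obtain ⟨k, hk⟩ := IsPGroup.iff_card.1 hT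
  have hk0 : k ≠ 0 := fun h => hne (Subgroup.card_eq_one.1 (by rw [hk, h, pow_zero]))
  obtain ⟨z, hz⟩ := exists_prime_orderOf_dvd_card' (G := T) p (hk ▸ dvd_pow_self p hk0)
  exact ⟨z, z.2, by rw [Subgroup.orderOf_coe, hz]⟩

omit [Finite G] [Finite Ω] in
/-- Some power of a nontrivial element of a `p`-group has order `p`. -/
theorem exists_pow_order {p : ℕ} [Fact p.Prime] {T : Subgroup G} (hT : IsPGroup p T) {t : G}
    (ht : t ∈ T) (h1 : t ≠ 1) : ∃ k, orderOf (t ^ k) = p := by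
  obtain ⟨j, hj⟩ := (IsPGroup.iff_orderOf.1 hT) ⟨t, ht⟩
  rw [← Subgroup.orderOf_coe] at hj
  rcases j with _ | j
  · exact absurd (orderOf_eq_one_iff.1 (hj.trans (pow_zero p))) h1
  · refine ⟨p ^ j, ?_⟩
    have hdvd : p ^ j ∣ orderOf t := hj ▸ pow_dvd_pow p (Nat.le_succ j)
    have hpos : p ^ j ≠ 0 := pow_ne_zero _ (Fact.out : p.Prime).ne_zero
    rw [orderOf_pow_of_dvd hpos hdvd, hj, pow_succ, Nat.mul_div_cancel_left _ (Nat.pos_of_ne_zero hpos)]

/-- **Case A**: `P` fixes a point. -/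
theorem caseA {p : ℕ} [hp : Fact p.Prime] (hp3 : p ≤ 3) (hs : Small G Ω) {P : Subgroup G}
    (hP : IsPGroup p P) (hne : (fixSet (Ω := Ω) P).Nonempty) {y : G} (hy : y ∈ P) (hy1 : y ≠ 1)
    (hyF : fixedBy Ω y ≠ fixSet P) :
    ∃ (T : Subgroup G) (D : Set Ω), Config P T (fixSet P) D ∧
      D.ncard = (fixSet (Ω := Ω) P).ncard + p ∧ (D \ fixSet P).ncard = p ∧ D.ncard ≤ 4 := by
  obtain ⟨b, hb, hbF⟩ : ∃ b ∈ fixedBy Ω y, b ∉ fixSet P := by
    by_contra h
    push Not at h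
    exact hyF (Set.Subset.antisymm h (fixSet_subset hy))
  set T := P ⊓ stabilizer G b with hTdef
  have hTb : ∀ z ∈ P, z ∈ T ↔ z • b = b := fun z hz => ⟨fun h => h.2, fun h => ⟨hz, h⟩⟩
  have hyT : y ∈ T := ⟨hy, hb⟩
  have hTne : T ≠ ⊥ := fun h => hy1 (Subgroup.mem_bot.1 (h ▸ hyT))
  have hTP : T ≠ P := fun h => hbF fun z hz => (hTb z hz).1 (h.ge hz)
  obtain ⟨O, hbO, hOp, ⟨j, hj⟩, hOsub, hOdis, hOstab, -⟩ := exists_orbit hP inf_le_left hTP hTb
  set D := fixSet (Ω := Ω) T with hD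
  have hFD : fixSet P ⊆ D := fun a ha t ht => ha t ht.1
  have hFO : (fixSet (Ω := Ω) P ∪ O) ⊆ D := Set.union_subset hFD hOsub
  have hFOc : (fixSet (Ω := Ω) P ∪ O).ncard = (fixSet (Ω := Ω) P).ncard + O.ncard :=
    Set.ncard_union_eq hOdis.symm (Set.toFinite _) (Set.toFinite _)
  have hDy : D.ncard ≤ 4 := (Set.ncard_le_ncard (fixSet_subset hyT) (Set.toFinite _)).trans (hs y hy1)
  have hF1 : 1 ≤ (fixSet (Ω := Ω) P).ncard := (Set.ncard_pos (Set.toFinite _)).2 hne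
  have hDge : (fixSet (Ω := Ω) P).ncard + p ≤ D.ncard := by
    have := Set.ncard_le_ncard hFO D.toFinite
    omega
  -- every nontrivial element of `T` fixes exactly `|F| + p` points
  have hle : ∀ t ∈ T, t ≠ 1 → (fixedBy Ω t).ncard ≤ (fixSet (Ω := Ω) P).ncard + p := by
    intro t ht ht1
    have h4 := hs t ht1
    by_contra hgt
    push Not at hgt
    -- then `p = 2`, and the parity of an involution in `⟨t⟩` gives a contradiction
    obtain rfl : p = 2 := by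
      have := hp.out.two_le
      omega
    obtain ⟨k, hk⟩ := exists_pow_order (hP.to_le inf_le_left) ht ht1
    have hk1 : t ^ k ≠ 1 := fun h => by rw [h, orderOf_one] at hk; omega
    have h5 := Set.ncard_le_ncard (fixedBy_pow_le (Ω := Ω) t k) (Set.toFinite _)
    have h6 := hs _ hk1
    have h7 : (fixedBy Ω (t ^ k)).ncard % 2 = (fixSet (Ω := Ω) P).ncard % 2 :=
      ((modEq_fixedBy (Ω := Ω) hk).symm.trans (modEq_fixSet hP))
    omega
  have hDeq : D.ncard = (fixSet (Ω := Ω) P).ncard + p :=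
    le_antisymm ((Set.ncard_le_ncard (fixSet_subset hyT) (Set.toFinite _)).trans (hle y hyT hy1)) hDge
  have hDFO : fixSet (Ω := Ω) P ∪ O = D := by
    refine Set.eq_of_subset_of_ncard_le hFO ?_ D.toFinite
    omega
  refine ⟨T, D, ⟨inf_le_left, hTne, fun a => Iff.rfl, hFD, fun t ht ht1 => ?_, fun c hc hcF => ?_,
    ⟨b, hOsub hbO, hbF⟩⟩, hDeq, ?_, hDy⟩
  · refine (Set.eq_of_subset_of_ncard_le (fixSet_subset ht) ?_ (Set.toFinite _)).symm
    rw [hDeq]
    exact hle t ht ht1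
  · rw [← hDFO] at hc
    exact hOstab c (hc.resolve_left hcF)
  · rw [Set.ncard_sdiff hFD (Set.toFinite _), hDeq]
    omega

omit [Finite Ω] in
/-- A point whose stabiliser in `P` is a full Sylow subgroup of the point stabiliser. -/
theorem exists_max_point [IsPretransitive G Ω] {p : ℕ} [Fact p.Prime] (P : Sylow p G) (a : Ω) :
    ∃ b : Ω, ∀ (R : Subgroup G) (c : Ω), IsPGroup p R → (∀ r ∈ R, r • c = c) →
      ∃ h : G, h • c = b ∧ ∀ r ∈ R, h * r * h⁻¹ ∈ (P : Subgroup G) ⊓ stabilizer G b := by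
  obtain ⟨Q0⟩ := (inferInstance : Nonempty (Sylow p (stabilizer G a)))
  obtain ⟨Q', hQ'⟩ := (Q0.isPGroup'.map (stabilizer G a).subtype).exists_le_sylow
  obtain ⟨g, hg⟩ := MulAction.exists_smul_eq G Q' P
  have hgP : ∀ q ∈ (Q' : Subgroup G), g * q * g⁻¹ ∈ (P : Subgroup G) := fun q hq => by
    rw [← hg]
    exact Subgroup.smul_mem_pointwise_smul q (MulAut.conj g) _ hq
  refine ⟨g • a, fun R c hR hRc => ?_⟩
  obtain ⟨k, hk⟩ := exists_smul_eq G c a
  set R' := R.map (MulAut.conj k).toMonoidHom with hR'def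
  have hR'a : R' ≤ stabilizer G a := by
    rintro _ ⟨r, hr, rfl⟩
    show (k * r * k⁻¹) • a = a
    rw [← hk, mul_smul, mul_smul, inv_smul_smul, hRc r hr]
  obtain ⟨Q1, hQ1⟩ := (IsPGroup.of_equiv (hR.map _) (Subgroup.subgroupOfEquivOfLe hR'a).symm :
    IsPGroup p (R'.subgroupOf (stabilizer G a))).exists_le_sylow
  obtain ⟨m, hm⟩ := MulAction.exists_smul_eq (stabilizer G a) Q1 Q0
  refine ⟨g * (m : G) * k, ?_, fun r hr => ?_⟩
  · rw [mul_smul, mul_smul, hk, m.2]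
  · have h1 : (⟨k * r * k⁻¹, hR'a ⟨r, hr, rfl⟩⟩ : stabilizer G a) ∈ (Q1 : Subgroup _) :=
      hQ1 (show k * r * k⁻¹ ∈ R' from ⟨r, hr, rfl⟩)
    have h2 : m * ⟨k * r * k⁻¹, hR'a ⟨r, hr, rfl⟩⟩ * m⁻¹ ∈ (Q0 : Subgroup _) := by
      rw [← hm]
      exact Subgroup.smul_mem_pointwise_smul _ (MulAut.conj m) _ h1
    have e : g * (m : G) * k * r * (g * (m : G) * k)⁻¹ = g * ((m : G) * (k * r * k⁻¹) * (m : G)⁻¹) * g⁻¹ := by
      group
    refine ⟨?_, ?_⟩
    · rw [e]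
      exact hgP _ (hQ' ⟨_, h2, rfl⟩)
    · show (g * (m : G) * k * r * (g * (m : G) * k)⁻¹) • (g • a) = g • a
      have h3 : ((m : G) * (k * r * k⁻¹) * (m : G)⁻¹) • a = a :=
        mul_mem (mul_mem m.2 (hR'a ⟨r, hr, rfl⟩ : k * r * k⁻¹ ∈ stabilizer G a)) (inv_mem m.2)
      rw [e, mul_smul, mul_smul, inv_smul_smul, h3]

/-- The data of **Case B**: `P` fixes no point and `T = P_b` is a Sylow subgroup of `G_b`. -/
structure Max (P T : Subgroup G) (b : Ω) (p : ℕ) : Prop where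
  eq : T = P ⊓ stabilizer G b
  lift : ∀ (R : Subgroup G) (c : Ω), IsPGroup p R → (∀ r ∈ R, r • c = c) →
    ∃ h : G, h • c = b ∧ ∀ r ∈ R, h * r * h⁻¹ ∈ T

theorem Max.card_le {P T : Subgroup G} {b : Ω} {p : ℕ} (d : Max P T b p) (hP : IsPGroup p P) (c : Ω) :
    Nat.card (P ⊓ stabilizer G c : Subgroup G) ≤ Nat.card T := by
  obtain ⟨h, -, hh⟩ := d.lift (P ⊓ stabilizer G c) c (hP.to_le inf_le_left) (fun r hr => hr.2)
  exact Nat.card_le_card_of_injective (fun r => (⟨h * r * h⁻¹, hh r r.2⟩ : T)) fun r r' e =>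
    Subtype.ext (mul_left_cancel (mul_right_cancel (congrArg Subtype.val e)))

/-- An element of a `p`-group fixing a point has the fixed-point count of an element of `T`. -/
theorem Max.exists_conj {P T : Subgroup G} {b : Ω} {p : ℕ} (d : Max P T b p) (hP : IsPGroup p P)
    {y : G} (hy : y ∈ P) {c : Ω} (hc : y • c = c) : ∃ h : G, h • c = b ∧ h * y * h⁻¹ ∈ T := by
  obtain ⟨h, h1, h2⟩ := d.lift (P ⊓ stabilizer G c) c (hP.to_le inf_le_left) (fun r hr => hr.2)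
  exact ⟨h, h1, h2 y ⟨hy, hc⟩⟩

/-- The stabilisers of all points of the fixed set of `T` agree with `T`. -/
theorem Max.stab {P T : Subgroup G} {b : Ω} {p : ℕ} (d : Max P T b p) (hP : IsPGroup p P)
    {c : Ω} (hc : c ∈ fixSet T) {y : G} (hy : y ∈ P) (hyc : y • c = c) : y ∈ T := by
  have hle : T ≤ P ⊓ stabilizer G c := le_inf (d.eq.le.trans inf_le_left) fun t ht => hc t ht
  exact (Subgroup.eq_of_le_of_card_ge hle (d.card_le hP c)).ge ⟨hy, hyc⟩

end CfsgLib.Fixity
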