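import Cfsg.Agent.Lib.Fixity.Basic
import Cfsg.Agent.Lib.Transfer.Fusion
import Cfsg.Agent.S4216

/-!
# Point stabilisers inside a Sylow subgroup

The configuration `(P, T, F, D)`: `F` is the fixed set of the `p`-group `P`, `T` the stabiliser in
`P` of the points of `D \ F`, and every nontrivial element of `T` fixes exactly `D`.
-/

set_option autoImplicit false

namespace CfsgLib.Fixity

open MulAction

variable {G Ω : Type*} [Group G] [MulAction G Ω]

/-- The exact configuration. -/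
structure Config (P T : Subgroup G) (F D : Set Ω) : Prop where
  le : T ≤ P
  ne_bot : T ≠ ⊥
  mem_F : ∀ a, a ∈ F ↔ ∀ y ∈ P, y • a = a
  sub : F ⊆ D
  exact_fix : ∀ t ∈ T, t ≠ 1 → fixedBy Ω t = D
  stab : ∀ c ∈ D, c ∉ F → ∀ y ∈ P, y • c = c → y ∈ T
  moved : ∃ c ∈ D, c ∉ F

namespace Config

variable {P T : Subgroup G} {F D : Set Ω}

theorem fix_mem (d : Config P T F D) {t : G} (ht : t ∈ T) {c : Ω} (hc : c ∈ D) : t • c = c := by
  by_cases h1 : t = 1
  · rw [h1, one_smul]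
  · exact mem_fixedBy.1 ((d.exact_fix t ht h1) ▸ hc)

theorem lt (d : Config P T F D) : T ≠ P := by
  intro h
  obtain ⟨c, hc, hcF⟩ := d.moved
  exact hcF ((d.mem_F c).2 fun y hy => d.fix_mem (h ▸ hy) hc)

theorem F_invariant (d : Config P T F D) {y : G} (hy : y ∈ P) {a : Ω} : y • a ∈ F ↔ a ∈ F := by
  constructor
  · intro h
    have := (d.mem_F _).1 h y⁻¹ (inv_mem hy)
    rw [inv_smul_smul] at this
    rwa [← this] at h
  · intro h
    rwa [(d.mem_F a).1 h y hy]

theorem normalize_of_setStab (d : Config P T F D) {n t : G} (hn : n ∈ P) (hnD : n ∈ setStab D)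
    (ht : t ∈ T) : n * t * n⁻¹ ∈ T := by
  obtain ⟨c, hc, hcF⟩ := d.moved
  refine d.stab (n • c) ((mem_setStab.1 hnD c).2 hc) (fun h => hcF ((d.F_invariant hn).1 h)) _
    (mul_mem (mul_mem hn (d.le ht)) (inv_mem hn)) ?_
  rw [mul_smul, mul_smul, inv_smul_smul, d.fix_mem ht hc]

/-- A nontrivial element of `T` conjugated into `T` preserves `D`. -/
theorem setStab_of_conj (d : Config P T F D) {g t : G} (ht : t ∈ T) (h1 : t ≠ 1)
    (hgt : g * t * g⁻¹ ∈ T) : g ∈ setStab D := by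
  have h := d.exact_fix _ hgt (fun e => h1 (conj_eq_one_iff.1 e))
  rw [fixedBy_conj, d.exact_fix t ht h1] at h
  exact mem_setStab_iff_image.2 h

theorem setStab_of_commute (d : Config P T F D) {c t : G} (ht : t ∈ T) (h1 : t ≠ 1)
    (h : c * t = t * c) : c ∈ setStab D := by
  rw [← d.exact_fix t ht h1]
  exact mem_setStab_fixedBy h

theorem inf_setStab_le_normalizer (d : Config P T F D) :
    P ⊓ setStab D ≤ Subgroup.normalizer (T : Set G) := by
  intro n hn
  rw [Subgroup.mem_normalizer_iff]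
  refine fun t => ⟨fun ht => d.normalize_of_setStab hn.1 hn.2 ht, fun ht => ?_⟩
  have h := d.normalize_of_setStab (inv_mem hn.1) (inv_mem hn.2) ht
  simpa [mul_assoc] using h

theorem le_setStab (d : Config P T F D) : T ≤ setStab D := by
  intro t ht a
  constructor
  · intro h
    have h' := d.fix_mem (inv_mem ht) h
    rw [inv_smul_smul] at h'
    exact h'.symm ▸ h
  · intro h; rwa [d.fix_mem ht h]

theorem card_stab_le [Finite G] [Finite Ω] (d : Config P T F D) :
    Nat.card (P ⊓ setStab D : Subgroup G) ≤ (D \ F).ncard * Nat.card T := by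
  obtain ⟨c, hc, hcF⟩ := d.moved
  refine (card_le_mul (P ⊓ setStab D) c (D \ F) fun y hy => ⟨(mem_setStab.1 hy.2 c).2 hc,
    fun h => hcF ((d.F_invariant hy.1).1 h)⟩).trans (Nat.mul_le_mul_left _ ?_)
  exact Subgroup.card_le_of_le fun y hy => d.stab c hc hcF y hy.1.1 hy.2

/-- If `P` moves `D`, then `T` is small and has a disjoint conjugate. -/
theorem not_stable [Finite G] [Finite Ω] {p : ℕ} [Fact p.Prime] (hP : IsPGroup p P)
    (d : Config P T F D) (h : ¬ P ≤ setStab D) :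
    ∃ g ∈ P, (∀ t ∈ T, g * t * g⁻¹ ∈ P ⊓ setStab D) ∧
      (∀ t ∈ T, g * t * g⁻¹ ∈ T → t = 1) ∧
      (∀ n ∈ P ⊓ setStab D, ∀ t ∈ T, n * (g * t * g⁻¹) * n⁻¹ ∈ T.map (MulAut.conj g).toMonoidHom) ∧
      Nat.card T ≤ (D \ F).ncard := by
  obtain ⟨g, hgP, hgN, hgn⟩ := exists_normalizer_notMem hP (inf_le_left : P ⊓ setStab D ≤ P)
    (fun e => h (e.ge.trans inf_le_right))
  have hgD : g ∉ setStab D := fun e => hgN ⟨hgP, e⟩
  have hin : ∀ t ∈ T, g * t * g⁻¹ ∈ P ⊓ setStab D := fun t ht =>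
    (Subgroup.mem_normalizer_iff.1 hgn t).1 ⟨d.le ht, d.le_setStab ht⟩
  have htriv : ∀ t ∈ T, g * t * g⁻¹ ∈ T → t = 1 := fun t ht h' => by
    by_contra h1
    exact hgD (d.setStab_of_conj ht h1 h')
  refine ⟨g, hgP, hin, htriv, ?_, ?_⟩
  · intro n hn t ht
    have hm : g⁻¹ * n * g ∈ P ⊓ setStab D := by
      have := (Subgroup.mem_normalizer_iff.1 (inv_mem hgn) n).1 hn
      simpa using this
    refine ⟨(g⁻¹ * n * g) * t * (g⁻¹ * n * g)⁻¹, d.normalize_of_setStab hm.1 hm.2 ht, ?_⟩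
    show g * ((g⁻¹ * n * g) * t * (g⁻¹ * n * g)⁻¹) * g⁻¹ = n * (g * t * g⁻¹) * n⁻¹
    group
  · have hinj : Function.Injective (fun q : T × T =>
        (⟨(q.1 : G) * (g * q.2 * g⁻¹), mul_mem ⟨d.le q.1.2, d.le_setStab q.1.2⟩ (hin _ q.2.2)⟩ :
          ↥(P ⊓ setStab D))) := by
      rintro ⟨a, b⟩ ⟨a', b'⟩ he
      have he' : (a : G) * (g * b * g⁻¹) = a' * (g * b' * g⁻¹) := congrArg Subtype.val he
      have h1 : g * ((b : G) * (b' : G)⁻¹) * g⁻¹ = (a : G)⁻¹ * a' := by
        calc g * ((b : G) * (b' : G)⁻¹) * g⁻¹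
            = (a : G)⁻¹ * ((a : G) * (g * b * g⁻¹)) * (g * b' * g⁻¹)⁻¹ := by group
          _ = _ := by rw [he']; group
      have h2 := htriv _ (mul_mem b.2 (inv_mem b'.2)) (h1 ▸ mul_mem (inv_mem a.2) a'.2)
      rw [h2, mul_one, mul_inv_cancel] at h1
      exact Prod.ext (Subtype.ext (inv_mul_eq_one.1 h1.symm)) (Subtype.ext (mul_inv_eq_one.1 h2))
    have hle := Nat.card_le_card_of_injective _ hinj
    rw [Nat.card_prod] at hle
    exact Nat.le_of_mul_le_mul_right (hle.trans d.card_stab_le) Nat.card_pos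

/-- Centralisers in `P` of elements of `T` preserve `D`. -/
theorem centralizer_le (d : Config P T F D) {t : G} (ht : t ∈ T) (h1 : t ≠ 1) :
    P ⊓ Subgroup.centralizer ({t} : Set G) ≤ P ⊓ setStab D := fun _ hc =>
  ⟨hc.1, d.setStab_of_commute ht h1 (Subgroup.mem_centralizer_singleton_iff.1 hc.2)⟩

/-- An element fixing a point outside `D`: bound on its centraliser in `P`. -/
theorem centralizer_card_le [Finite G] [Finite Ω] {B : Subgroup G} {x : G} {c : Ω}
    (d : Config P T F D) (hx : x • c = c) (hc : c ∉ F)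
    (hB : ∀ y ∈ P, y * x = x * y → y • c = c → y ∈ B) :
    Nat.card (P ⊓ Subgroup.centralizer ({x} : Set G) : Subgroup G) ≤
      (fixedBy Ω x \ F).ncard * Nat.card B := by
  refine (card_le_mul (P ⊓ Subgroup.centralizer ({x} : Set G)) c (fixedBy Ω x \ F)
    fun y hy => ⟨?_, fun h => hc ((d.F_invariant hy.1).1 h)⟩).trans
    (Nat.mul_le_mul_left _ ?_)
  · exact (mem_setStab.1 (mem_setStab_fixedBy (Subgroup.mem_centralizer_singleton_iff.1 hy.2)) c).2 hx
  · exact Subgroup.card_le_of_le fun y hy =>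
      hB y hy.1.1 (Subgroup.mem_centralizer_singleton_iff.1 hy.1.2) hy.2

theorem conj_mem_of_fix [Finite Ω] (d : Config P T F D) (hlt : F.ncard < D.ncard)
    (hfree : ∀ y ∈ P, y ∉ T → ∀ c : Ω, y • c = c → c ∈ F) {g t : G} (ht : t ∈ T)
    (hgt : g * t * g⁻¹ ∈ P) : g * t * g⁻¹ ∈ T := by
  by_cases h1 : t = 1
  · simp [h1]
  by_contra hn
  have h2 : fixedBy Ω (g * t * g⁻¹) ⊆ F := fun c hc => hfree _ hgt hn c hc
  have h3 := Set.ncard_le_ncard h2 F.toFinite
  rw [ncard_fixedBy_conj, d.exact_fix t ht h1] at h3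
  omega

end Config

/-- Grün: no perfect group has a conjugation-closed `T ≥ P'` inside a proper `L` with
`[N(P), P] ≤ L`. -/
theorem not_gruen [Finite G] {p : ℕ} [Fact p.Prime] (hperf : commutator G = ⊤) (P : Sylow p G)
    (T L : Subgroup G) (hTL : T ≤ L) (hlt : ¬ (P : Subgroup G) ≤ L)
    (hder : ∀ x ∈ (P : Subgroup G), ∀ y ∈ (P : Subgroup G), x * y * x⁻¹ * y⁻¹ ∈ T)
    (hconj : ∀ t ∈ T, ∀ g : G, g * t * g⁻¹ ∈ (P : Subgroup G) → g * t * g⁻¹ ∈ L)
    (hN : ∀ n ∈ Subgroup.normalizer ((P : Subgroup G) : Set G), ∀ y ∈ (P : Subgroup G),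
      n * y * n⁻¹ * y⁻¹ ∈ L) : False := by
  have h := Cfsg.Agent.S4216.result P
  rw [hperf, inf_top_eq] at h
  refine hlt (h.le.trans (sup_le ?_ (iSup_le fun z => ?_)))
  · have hPN : (P : Subgroup G) ≤ Subgroup.normalizer ((P : Subgroup G) : Set G) :=
      Subgroup.le_normalizer
    have hf := CfsgLib.Transfer.commutator_inf_le_of_fusion (P.subtype hPN)
      (L.subgroupOf (Subgroup.normalizer ((P : Subgroup G) : Set G))) (fun x hx n _ => by
        have hxP : (x : G) ∈ (P : Subgroup G) := hx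
        have h1 := hN (n : G)⁻¹ (inv_mem n.2) x hxP
        rw [inv_inv] at h1
        have h2 : (x : G)⁻¹ * ((n : G)⁻¹ * x * n * (x : G)⁻¹) * x ∈ L := by
          have h3 := hTL (hder (x : G)⁻¹ (inv_mem hxP) _
            (show (n : G)⁻¹ * x * n * (x : G)⁻¹ ∈ (P : Subgroup G) from
              mul_mem ((Subgroup.mem_normalizer_iff''.1 n.2 x).1 hxP) (inv_mem hxP)))
          have := mul_mem h3 h1
          simpa [mul_assoc] using this
        rw [Subgroup.mem_subgroupOf]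
        simpa [mul_assoc] using h2)
    rintro y ⟨hyP, hy⟩
    rw [← Subgroup.map_subtype_commutator] at hy
    obtain ⟨m, hm, rfl⟩ := hy
    exact Subgroup.mem_subgroupOf.1 (hf ⟨hm, hyP⟩)
  · rintro _ ⟨hyP, c, hc, rfl⟩
    have hcT : c ∈ T := (Subgroup.commutator_le.2 fun a ha b hb => hder a ha b hb) hc
    exact hconj c hcT z hyP

end CfsgLib.Fixity
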