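import Mathlib

/-!
# Automorphisms of an elementary abelian group of order nine

A group of automorphisms of `C₃ × C₃` without elements of order three either inverts everything
somewhere or moves every element inside one proper subgroup.
-/

set_option autoImplicit false

namespace CfsgLib.Fixity.NineAut

/-- Vectors of the plane over `ZMod 3`. -/
abbrev W := ZMod 3 × ZMod 3

/-- A linear map given by the images of the basis. -/
abbrev E := W × W

/-- Evaluation. -/
def app (a : E) (u : W) : W := (u.1 * a.1.1 + u.2 * a.2.1, u.1 * a.1.2 + u.2 * a.2.2)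

/-- Composition. -/
def cmp (a b : E) : E := (app a b.1, app a b.2)

/-- The identity. -/
def idE : E := ((1, 0), (0, 1))

/-- Inversion. -/
def negE : E := ((-1, 0), (0, -1))

/-- Powers. -/
def pw (a : E) : ℕ → E
  | 0 => idE
  | n + 1 => cmp a (pw a n)

set_option maxRecDepth 4000 in
theorem pow_twentyfour : ∀ a : E, (∀ u : W, app a u = 0 → u = 0) → pw a 24 = idE := by
  decide +kernel

theorem sq_of_eight : ∀ a : E, pw a 8 = idE → (∀ i : Fin 8, pw a i ≠ negE) → cmp a a = idE := by
  decide +kernel

set_option synthInstance.maxSize 4000 in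
set_option synthInstance.maxHeartbeats 400000 in
theorem unique_reflection : ∀ a b : E, cmp a a = idE → cmp b b = idE → a ≠ idE → b ≠ idE →
    a ≠ negE → b ≠ negE → cmp (cmp a b) (cmp a b) = idE → cmp a b ≠ negE → a = b := by
  decide +kernel

theorem reflection_line : ∀ a : E, cmp a a = idE → a ≠ negE →
    ∃ w : W, ∀ u : W, ∃ k : ZMod 3, app a u - u = (k * w.1, k * w.2) := by
  decide +kernel

variable {V : Type*} [CommGroup V]

theorem three_pow_val (hexp : ∀ v : V, v ^ 3 = 1) (x : V) (i j : ZMod 3) :
    x ^ (i + j).val = x ^ i.val * x ^ j.val := by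
  rw [← pow_add, ZMod.val_add, ← pow_eq_pow_mod _ (hexp x)]

theorem three_pow_val_mul (hexp : ∀ v : V, v ^ 3 = 1) (x : V) (i j : ZMod 3) :
    x ^ (i * j).val = (x ^ j.val) ^ i.val := by
  rw [← pow_mul, mul_comm j.val, ZMod.val_mul, ← pow_eq_pow_mod _ (hexp x)]

/-- Either some element of `A` inverts everything, or `A` moves everything inside a proper
subgroup. -/
theorem inverts_or_proper [Finite V] (hexp : ∀ v : V, v ^ 3 = 1) (hcard : Nat.card V = 9)
    (A : Subgroup (MulAut V)) (h8 : ∀ a ∈ A, (∀ b : MulAut V, b ^ 24 = 1) → a ^ 8 = 1) :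
    (∃ a ∈ A, ∀ v : V, a v = v⁻¹) ∨
      ∃ M : Subgroup V, M ≠ ⊤ ∧ ∀ a ∈ A, ∀ v : V, a v * v⁻¹ ∈ M := by
  classical
  haveI : Fact (Nat.Prime 3) := ⟨Nat.prime_three⟩
  haveI : Nontrivial V := Finite.one_lt_card_iff_nontrivial.1 (by omega)
  obtain ⟨e1, he1⟩ := exists_ne (1 : V)
  have ho : ∀ v : V, v ≠ 1 → orderOf v = 3 := fun v hv => orderOf_eq_prime (hexp v) hv
  obtain ⟨e2, he2⟩ : ∃ v : V, v ∉ Subgroup.zpowers e1 := by
    by_contra h
    push Not at h
    have h1 : Nat.card (Subgroup.zpowers e1) = 9 := by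
      rw [(Subgroup.eq_top_iff' _).2 h, Subgroup.card_top, hcard]
    rw [Nat.card_zpowers, ho e1 he1] at h1
    omega
  set f : W → V := fun u => e1 ^ u.1.val * e2 ^ u.2.val with hf
  have fadd : ∀ u u' : W, f (u + u') = f u * f u' := fun u u' => by
    simp only [hf, Prod.fst_add, Prod.snd_add, three_pow_val hexp]
    rw [mul_mul_mul_comm]
  have fzero : f 0 = 1 := by simp [hf]
  have fsmul : ∀ (k : ZMod 3) (u : W), f (k * u.1, k * u.2) = f u ^ k.val := fun k u => by
    simp only [hf, three_pow_val_mul hexp, mul_pow]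
  have finj : Function.Injective f := by
    have hker : ∀ u : W, f u = 1 → u = 0 := by
      rintro ⟨i, j⟩ h
      have hj : j = 0 := by
        by_contra hj
        apply he2
        have h' : e2 ^ j.val ∈ Subgroup.zpowers e1 := by
          have : e2 ^ j.val = (e1 ^ i.val)⁻¹ := eq_inv_of_mul_eq_one_right h
          rw [this]
          exact inv_mem (Subgroup.npow_mem_zpowers _ _)
        have h'' := three_pow_val_mul hexp e2 j⁻¹ j
        rw [inv_mul_cancel₀ hj, ZMod.val_one, pow_one] at h''
        rw [h'']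
        exact pow_mem h' _
      subst hj
      have h' : e1 ^ i.val = 1 := by simpa [hf] using h
      have hi := orderOf_dvd_of_pow_eq_one h'
      rw [ho e1 he1] at hi
      have hlt := ZMod.val_lt i
      have : i.val = 0 := Nat.eq_zero_of_dvd_of_lt hi hlt
      simp [(ZMod.val_eq_zero i).1 this]
    intro u u' h
    refine sub_eq_zero.1 (hker _ ?_)
    have := fadd (u - u') u'
    rw [sub_add_cancel, h] at this
    exact right_eq_mul.1 this
  have fsurj : Function.Surjective f :=
    ((Nat.bijective_iff_injective_and_card f).2 ⟨finj, by rw [Nat.card_prod, Nat.card_zmod, hcard]⟩).2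
  choose g hg using fsurj
  set rep : MulAut V → E := fun a => (g (a e1), g (a e2)) with hrep
  have happ : ∀ a u, f (app (rep a) u) = a (f u) := fun a u => by
    have : app (rep a) u = ((u.1 * (g (a e1)).1, u.1 * (g (a e1)).2) : W) +
        (u.2 * (g (a e2)).1, u.2 * (g (a e2)).2) := rfl
    rw [this, fadd, fsmul, fsmul, hg, hg, ← map_pow, ← map_pow, ← map_mul]
  have hinj : ∀ a b, rep a = rep b → a = b := fun a b h => MulEquiv.ext fun v => by
    rw [← hg v, ← happ, h, happ]
  have happ' : ∀ a b u, f (app (cmp (rep a) (rep b)) u) = a (b (f u)) := fun a b u => by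
    have e : app (cmp (rep a) (rep b)) u = app (rep a) (app (rep b) u) := by
      simp only [app, cmp]; ext <;> simp <;> ring
    rw [e, happ, happ]
  have hmul : ∀ a b, rep (a * b) = cmp (rep a) (rep b) := fun a b => by
    refine Prod.ext (finj ?_) (finj ?_)
    · show f (g ((a * b) e1)) = f (app (rep a) (g (b e1)))
      rw [hg, happ, hg, MulAut.mul_apply]
    · show f (g ((a * b) e2)) = f (app (rep a) (g (b e2)))
      rw [hg, happ, hg, MulAut.mul_apply]
  have hfid1 : f ((1, 0) : W) = e1 := by simp [hf, ZMod.val_one]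
  have hfid2 : f ((0, 1) : W) = e2 := by simp [hf, ZMod.val_one]
  have hone : rep 1 = idE := by
    refine Prod.ext (finj ?_) (finj ?_)
    · show f (g e1) = f (1, 0); rw [hg, hfid1]
    · show f (g e2) = f (0, 1); rw [hg, hfid2]
  have hpow : ∀ a n, rep (a ^ n) = pw (rep a) n := fun a n => by
    induction n with
    | zero => rw [pow_zero, hone]; rfl
    | succ n ih => rw [pow_succ', hmul, ih]; rfl
  have h24 : ∀ b : MulAut V, b ^ 24 = 1 := fun b => by
    apply hinj
    rw [hpow, hone]
    refine pow_twentyfour _ fun u hu => finj ?_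
    have h := happ b u
    rw [hu, fzero] at h
    rw [fzero]
    exact b.injective (by rw [map_one]; exact h.symm)
  by_cases hneg : ∃ a ∈ A, rep a = negE
  · obtain ⟨a, ha, he⟩ := hneg
    refine Or.inl ⟨a, ha, fun v => ?_⟩
    rw [← hg v, ← happ, he]
    have e : app negE (g v) = -(g v) := by simp [app, negE]; exact Prod.ext rfl rfl
    rw [e]
    refine eq_inv_of_mul_eq_one_left ?_
    rw [← fadd, neg_add_cancel, fzero]
  right
  push Not at hneg
  have hsq : ∀ a ∈ A, cmp (rep a) (rep a) = idE := fun a ha => by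
    refine sq_of_eight _ ?_ fun i => ?_
    · rw [← hpow, h8 a ha h24, hone]
    · rw [← hpow]; exact hneg _ (pow_mem ha _)
  by_cases htriv : ∀ a ∈ A, rep a = idE
  · refine ⟨⊥, fun h => ?_, fun a ha v => ?_⟩
    · have h1 : Nat.card V = 1 := by rw [← Subgroup.card_top (G := V), ← h, Subgroup.card_bot]
      omega
    · rw [hinj a 1 ((htriv a ha).trans hone.symm), Subgroup.mem_bot]
      simp
  push Not at htriv
  obtain ⟨a, ha, hane⟩ := htriv
  obtain ⟨w, hw⟩ := reflection_line (rep a) (hsq a ha) (hneg a ha)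
  refine ⟨Subgroup.zpowers (f w), fun h => ?_, fun b hb v => ?_⟩
  · have h1 : Nat.card (Subgroup.zpowers (f w)) = 9 := by rw [h, Subgroup.card_top, hcard]
    rw [Nat.card_zpowers] at h1
    have := orderOf_le_of_pow_eq_one (by norm_num : 0 < 3) (hexp (f w))
    omega
  · by_cases hb1 : rep b = idE
    · rw [hinj b 1 (hb1.trans hone.symm)]
      simp
    · obtain rfl : b = a := hinj _ _ (unique_reflection _ _ (hsq b hb) (hsq a ha) hb1 hane (hneg b hb)
        (hneg a ha) (by rw [← hmul]; exact hsq _ (mul_mem hb ha)) (by rw [← hmul]; exact hneg _ (mul_mem hb ha)))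
      obtain ⟨k, hk⟩ := hw (g v)
      have h := congrArg f hk
      rw [fsmul] at h
      have h2 := fadd (app (rep b) (g v) - g v) (g v)
      rw [sub_add_cancel, h, happ, hg] at h2
      rw [h2, mul_inv_cancel_right]
      exact Subgroup.npow_mem_zpowers _ _

end CfsgLib.Fixity.NineAut
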