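import Cfsg.Agent.Lib.Fixity.Sixteen

/-!
# A point outside a normal kernel with stabiliser of order at most four
-/

set_option autoImplicit false

namespace CfsgLib.Fixity

open MulAction

variable {G Ω : Type*} [Group G] [MulAction G Ω] [Finite G] [Finite Ω]

/-- Let `W` be normal in the 2-group `P`, and let the stabiliser `B` in `P` of `z` have order at
most four and meet `W` trivially.  If, when `|B| = 4`, either some involution of `B` fixes at most
two points or all nontrivial elements of `B` have the same fixed set, then `P` has sectional rank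
at most four (provided `|P| ≤ 8|W|`). -/
theorem rank_of_outside (hs : Small G Ω) {P W : Subgroup G} (hP : IsPGroup 2 P) (hWP : W ≤ P)
    (hWn : P ≤ Subgroup.normalizer (W : Set G)) (hPW : Nat.card P ≤ 8 * Nat.card W) {z : Ω}
    (hne : P ⊓ stabilizer G z ≠ ⊥) (hB4 : Nat.card (P ⊓ stabilizer G z : Subgroup G) ≤ 4)
    (hdis : ∀ w ∈ W, w ∈ P ⊓ stabilizer G z → w = 1)
    (hfix : Nat.card (P ⊓ stabilizer G z : Subgroup G) = 4 →
      (∃ x ∈ P ⊓ stabilizer G z, orderOf x = 2 ∧ (fixedBy Ω x).ncard ≤ 2) ∨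
      ∃ D' : Set Ω, ∀ b ∈ P ⊓ stabilizer G z, b ≠ 1 → fixedBy Ω b = D') :
    Cfsg.SectionalPRankLE 2 4 P := by
  haveI : Fact (Nat.Prime 2) := ⟨Nat.prime_two⟩
  set B := P ⊓ stabilizer G z with hBdef
  have hBP : B ≤ P := inf_le_left
  have hBp : IsPGroup 2 B := hP.to_le hBP
  obtain ⟨x, hx, hx2⟩ := exists_order_eq hBp hne
  have hx1 : x ≠ 1 := fun h => by rw [h, orderOf_one] at hx2; omega
  -- orbit bound for centralisers of elements of `B`
  have hbound : ∀ b ∈ B, b ≠ 1 →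
      Nat.card (P ⊓ Subgroup.centralizer ({b} : Set G) : Subgroup G) ≤ (fixedBy Ω b).ncard * Nat.card B := by
    intro b hb _
    refine (card_le_mul (P ⊓ Subgroup.centralizer ({b} : Set G)) z (fixedBy Ω b) fun y hy => ?_).trans
      (Nat.mul_le_mul_left _ (Subgroup.card_le_of_le fun y hy => ⟨hy.1.1, hy.2⟩))
    exact (mem_setStab.1 (mem_setStab_fixedBy (Subgroup.mem_centralizer_singleton_iff.1 hy.2)) z).2 hb.2
  by_cases hB2 : Nat.card B ≤ 2
  · refine rank_of_eight hP (hBP hx) hx2 ((hbound x hx hx1).trans ?_)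
    calc _ ≤ 4 * 2 := Nat.mul_le_mul (hs x hx1) hB2
      _ = 8 := by norm_num
  have hB : Nat.card B = 4 := by
    obtain ⟨k, hk⟩ := IsPGroup.iff_card.1 hBp
    rw [hk] at hB2 hB4 ⊢
    rcases k with _ | _ | _ | k
    · exact absurd (by norm_num) hB2
    · exact absurd (by norm_num) hB2
    · norm_num
    · exfalso
      have := Nat.pow_le_pow_right (show 1 ≤ 2 by norm_num) (show 3 ≤ k + 1 + 1 + 1 by omega)
      omega
  rcases hfix hB with ⟨x', hx', hx'2, hf⟩ | ⟨D', hD'⟩
  · refine rank_of_eight hP (hBP hx') hx'2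
      ((hbound x' hx' fun h => by rw [h, orderOf_one] at hx'2; omega).trans ?_)
    calc _ ≤ 2 * 4 := Nat.mul_le_mul hf hB4
      _ = 8 := by norm_num
  set E := W ⊓ Subgroup.centralizer (B : Set G)
  have hzD : z ∈ D' := hD' x hx hx1 ▸ hx.2
  have hBc : ∀ b ∈ B, ∀ b' ∈ B, b * b' = b' * b := fun b hb b' hb' => congrArg Subtype.val
    (IsPGroup.commutative_of_card_eq_prime_sq (show Nat.card B = 2 ^ 2 by rw [hB]; norm_num)
      (⟨b, hb⟩ : B) ⟨b', hb'⟩)
  refine rank_of_sixteen hP hWP hBP inf_le_left (hBP.trans hWn) hdis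
    (fun e he b hb => (Subgroup.mem_centralizer_iff.1 he.2 b hb).symm) ?_ ?_ hB hBc ?_ hPW
  · intro b hb hb1 w hw hwb
    refine ⟨hw, Subgroup.mem_centralizer_iff.2 fun b' hb' => ?_⟩
    have hwD : w ∈ setStab D' := hD' b hb hb1 ▸ mem_setStab_fixedBy hwb
    have hwz : w⁻¹ • z ∈ D' := (mem_setStab.1 (inv_mem hwD) z).2 hzD
    have h1 : w * b' * w⁻¹ ∈ B := by
      refine Subgroup.mem_inf.2 ⟨mul_mem (mul_mem (hWP hw) (hBP hb')) (inv_mem (hWP hw)), ?_⟩
      show (w * b' * w⁻¹) • z = z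
      have hfb : b' • (w⁻¹ • z) = w⁻¹ • z := by
        by_cases hb'1 : b' = 1
        · rw [hb'1, one_smul]
        · exact mem_fixedBy.1 ((hD' b' hb' hb'1).symm ▸ hwz)
      rw [mul_smul, mul_smul, hfb, smul_inv_smul]
    have h2 : w * (b' * w⁻¹ * b'⁻¹) ∈ W :=
      mul_mem hw ((Subgroup.mem_normalizer_iff.1 (hWn (hBP hb')) _).1 (inv_mem hw))
    have h3 := hdis _ h2 (by
      rw [show w * (b' * w⁻¹ * b'⁻¹) = (w * b' * w⁻¹) * b'⁻¹ by group]
      exact mul_mem h1 (inv_mem hb'))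
    calc b' * w = (w * (b' * w⁻¹ * b'⁻¹))⁻¹ * (w * b') := by group
      _ = w * b' := by rw [h3, inv_one, one_mul]
  · refine (card_le_mul E z (fixedBy Ω x) fun y hy => ?_).trans ?_
    · have hyx : y * x = x * y := (Subgroup.mem_centralizer_iff.1 hy.2 x hx).symm
      exact (mem_setStab.1 (mem_setStab_fixedBy hyx) z).2 hx.2
    · have : E ⊓ stabilizer G z = ⊥ :=
        (Subgroup.eq_bot_iff_forall _).2 fun y hy => hdis y hy.1.1 ⟨hWP hy.1.1, hy.2⟩
      rw [this, Subgroup.card_bot, mul_one]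
      exact hs x hx1
  · intro b hb hb2
    refine (hbound b hb fun h => by rw [h, orderOf_one] at hb2; omega).trans ?_
    calc _ ≤ 4 * 4 := Nat.mul_le_mul (hs b fun h => by rw [h, orderOf_one] at hb2; omega) hB4
      _ = 16 := by norm_num

end CfsgLib.Fixity
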