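import Cfsg.Agent.Lib.Fixity.PermOn

/-!
# Signs of elements acting freely outside a set

An element of a 2-group `P` that generates a proper subgroup induces an even permutation on every
set on which `P` acts freely; in a perfect group it therefore induces an even permutation on the
invariant set outside which `P` acts freely.
-/

set_option autoImplicit false

namespace CfsgLib.Fixity

open MulAction

/-- The sign on a free set is a power of the sign of left multiplication. -/
theorem sign_of_free {A R : Type*} [Group A] [Fintype A] [DecidableEq A] [Fintype R] [DecidableEq R]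
    [MulAction A R] (hfree : ∀ (a : A) (r : R), a • r = r → a = 1) (q : A) :
    Equiv.Perm.sign (MulAction.toPerm q : Equiv.Perm R) =
      Equiv.Perm.sign (Equiv.mulLeft q) ^ Nat.card (Quotient (orbitRel A R)) := by
  classical
  haveI : Fintype (Quotient (orbitRel A R)) := Fintype.ofFinite _
  let f : Quotient (orbitRel A R) × A → R := fun x => x.2 • x.1.out
  have hinj : Function.Injective f := by
    rintro ⟨o, g⟩ ⟨o', g'⟩ h
    have h' : g • o.out = g' • o'.out := h
    have ho : o = o' := by
      rw [← Quotient.out_eq' o, ← Quotient.out_eq' o']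
      refine Quotient.eq''.2 ?_
      exact ⟨g⁻¹ * g', by
        show (g⁻¹ * g') • o'.out = o.out
        rw [mul_smul, ← h', inv_smul_smul]⟩
    subst ho
    have := hfree (g'⁻¹ * g) o.out (by rw [mul_smul, h', inv_smul_smul])
    exact Prod.ext rfl (inv_mul_eq_one.1 this).symm
  have hsurj : Function.Surjective f := fun r => by
    set o : Quotient (orbitRel A R) := Quotient.mk'' r
    have : r ∈ orbit A o.out := by
      have h := Quotient.mk_out' (s₁ := orbitRel A R) r
      exact mem_orbit_symm.1 h
    obtain ⟨g, hg⟩ := this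
    exact ⟨(o, g), hg⟩
  let e := Equiv.ofBijective f ⟨hinj, hsurj⟩
  have he : (MulAction.toPerm q : Equiv.Perm R) =
      e.permCongr (Equiv.prodCongrRight fun _ => Equiv.mulLeft q) := by
    refine Equiv.ext fun r => ?_
    obtain ⟨⟨o, g⟩, rfl⟩ := e.surjective r
    rw [Equiv.permCongr_apply, Equiv.symm_apply_apply]
    show q • (g • o.out) = (q * g) • o.out
    rw [mul_smul]
  rw [he, Equiv.Perm.sign_permCongr, Equiv.Perm.sign_prodCongrRight, Finset.prod_const,
    Finset.card_univ, Nat.card_eq_fintype_card]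

variable {G Ω : Type*} [Group G] [MulAction G Ω] [Finite G] [Finite Ω]

/-- The contradiction from an element inducing an odd permutation on `D`. -/
theorem false_of_odd [Fintype Ω] [DecidableEq Ω] (hperf : commutator G = ⊤) {P : Subgroup G}
    (hP : IsPGroup 2 P) {D : Set Ω} [Fintype D] (hst : P ≤ setStab D)
    (hfree : ∀ y ∈ P, ∀ c : Ω, c ∉ D → y • c = c → y = 1) {q : G} (hq : q ∈ P)
    (hne : Subgroup.zpowers q ≠ P)
    (hodd : Equiv.Perm.sign (permOn (G := G) D ⟨q, hst hq⟩) = -1) : False := by
  classical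
  haveI : Fact (Nat.Prime 2) := ⟨Nat.prime_two⟩
  -- a perfect group acts by even permutations
  have hsign : Equiv.Perm.sign (MulAction.toPerm q : Equiv.Perm Ω) = 1 := by
    have h := Abelianization.commutator_subset_ker (Equiv.Perm.sign.comp (MulAction.toPermHom G Ω))
    rw [hperf] at h
    exact h (Subgroup.mem_top q)
  -- the action on the complement
  letI : MulAction P {a : Ω // a ∉ D} :=
    { smul := fun y a => ⟨(y : G) • (a : Ω), fun h => a.2 ((mem_setStab.1 (hst y.2) _).1 h)⟩
      one_smul := fun a => Subtype.ext (one_smul G (a : Ω))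
      mul_smul := fun y y' a => Subtype.ext (mul_smul (y : G) (y' : G) (a : Ω)) }
  haveI : Fintype P := Fintype.ofFinite _
  have hq' : Equiv.Perm.sign (Equiv.mulLeft (⟨q, hq⟩ : P)) = 1 := by
    have h := sign_of_free (A := Subgroup.zpowers (⟨q, hq⟩ : P)) (R := P)
      (fun a r h => Subtype.ext (mul_eq_right.1 h)) ⟨⟨q, hq⟩, Subgroup.mem_zpowers _⟩
    have e : (MulAction.toPerm (⟨⟨q, hq⟩, Subgroup.mem_zpowers _⟩ : Subgroup.zpowers (⟨q, hq⟩ : P)) :
        Equiv.Perm P) = Equiv.mulLeft ⟨q, hq⟩ := Equiv.ext fun r => rfl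
    rw [e] at h
    rw [h]
    set Z := Subgroup.zpowers (⟨q, hq⟩ : P)
    -- the number of cosets is even
    have hcard : Nat.card (Quotient (orbitRel Z P)) = Z.index := by
      rw [Subgroup.index_eq_card]
      exact Nat.card_congr (QuotientGroup.quotientRightRelEquivQuotientLeftRel Z)
    obtain ⟨k, hk⟩ := hP.index Z
    rw [hcard, hk]
    rcases k with _ | k
    · exfalso
      rw [pow_zero, Subgroup.index_eq_one] at hk
      refine hne (le_antisymm (Subgroup.zpowers_le.2 hq) fun y hy => ?_)
      obtain ⟨i, hi⟩ := Subgroup.mem_zpowers_iff.1 (hk.ge (Subgroup.mem_top (⟨y, hy⟩ : P)))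
      exact Subgroup.mem_zpowers_iff.2 ⟨i, congrArg Subtype.val hi⟩
    · rw [pow_succ', pow_mul, Int.units_sq, one_pow]
  have hrest : Equiv.Perm.sign (MulAction.toPerm (⟨q, hq⟩ : P) : Equiv.Perm {a : Ω // a ∉ D}) = 1 := by
    rw [sign_of_free (A := P) (R := {a : Ω // a ∉ D})
      (fun y a h => Subtype.ext (hfree y y.2 a a.2 (congrArg Subtype.val h))), hq', one_pow]
  have hdec : (MulAction.toPerm q : Equiv.Perm Ω) = (permOn (G := G) D ⟨q, hst hq⟩).subtypeCongr
      (MulAction.toPerm (⟨q, hq⟩ : P) : Equiv.Perm {a : Ω // a ∉ D}) := by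
    refine Equiv.ext fun a => ?_
    by_cases ha : a ∈ D
    · rw [Equiv.Perm.subtypeCongr.left_apply _ _ ha]; rfl
    · rw [Equiv.Perm.subtypeCongr.right_apply _ _ ha]; rfl
  rw [hdec, Equiv.Perm.sign_subtypeCongr, hrest, mul_one] at hsign
  have h1 : (-1 : ℤˣ) = 1 := hodd.symm.trans (by convert hsign)
  exact absurd h1 (by decide)

end CfsgLib.Fixity
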