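import Cfsg.Agent.Lib.Fixity.Outside
import Cfsg.Agent.Lib.Fixity.SignFree

/-!
# A stabiliser with two fixed points and an element fixing four

`P` fixes no point, `T = P_b` is a Sylow 2-subgroup of the point stabiliser, fixes two points, and
some nontrivial element of `T` fixes four.  Then `P` has sectional rank at most four.
-/

set_option autoImplicit false

namespace CfsgLib.Fixity

open MulAction

theorem four_group_perm : ∀ σ : Equiv.Perm (Fin 4), σ * σ = 1 → σ ≠ 1 → ∀ τ : Equiv.Perm (Fin 4),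
    τ * τ = 1 → τ ≠ 1 → τ ≠ σ → σ * τ = τ * σ → ∀ ρ : Equiv.Perm (Fin 4),
    σ * ρ = ρ * σ → τ * ρ = ρ * τ → ρ = 1 ∨ ρ = σ ∨ ρ = τ ∨ ρ = σ * τ := by
  decide +kernel

theorem sign_two_fixed : ∀ σ : Equiv.Perm (Fin 4), σ ≠ 1 → ∀ i j : Fin 4, i ≠ j → σ i = i → σ j = j →
    Equiv.Perm.sign σ = -1 := by
  decide +kernel

variable {G Ω : Type*} [Group G] [MulAction G Ω] [Finite G] [Finite Ω]

/-- The kernel in `P` of the action on `Δ`. -/
def kernelOn (P : Subgroup G) (Δ : Set Ω) : Subgroup G where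
  carrier := {y | y ∈ P ∧ ∀ a ∈ Δ, y • a = a}
  one_mem' := ⟨one_mem P, fun a _ => one_smul G a⟩
  mul_mem' {x y} hx hy := ⟨mul_mem hx.1 hy.1, fun a ha => by rw [mul_smul, hy.2 a ha, hx.2 a ha]⟩
  inv_mem' {x} hx := ⟨inv_mem hx.1, fun a ha => inv_smul_eq_iff.2 (hx.2 a ha).symm⟩

/-- An involution fixing four points whose kernel has order two. -/
theorem rank_of_small_kernel (hs : Small G Ω) {P : Subgroup G} (hP : IsPGroup 2 P) {w : G} (hwP : w ∈ P)
    (hw : orderOf w = 2) (h4 : (fixedBy Ω w).ncard = 4)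
    (hK : Nat.card (kernelOn P (fixedBy Ω w)) ≤ 2) : Cfsg.SectionalPRankLE 2 4 P := by
  classical
  by_cases hno : NoEight (P ⊓ Subgroup.centralizer ({w} : Set G))
  · exact rank_of_noEight hP hwP hw hno
  unfold NoEight at hno
  push Not at hno
  obtain ⟨A, hA, hAc, hA2, hA4⟩ := hno
  set Δ := fixedBy Ω w with hΔ
  haveI : Fintype Δ := Fintype.ofFinite _
  have hcard : Fintype.card Δ = 4 := by rw [← Nat.card_eq_fintype_card, Nat.card_coe_set_eq, h4]
  let e := (Equiv.permCongrHom (Fintype.equivFinOfCardEq hcard)).toMonoidHom.comp (permOn (G := G) Δ)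
  have hC : ∀ y ∈ P ⊓ Subgroup.centralizer ({w} : Set G), y ∈ setStab Δ := fun y hy =>
    mem_setStab_fixedBy (Subgroup.mem_centralizer_singleton_iff.1 hy.2)
  let φ : A →* Equiv.Perm (Fin 4) := e.comp (Subgroup.inclusion (fun y hy => hC y (hA hy)))
  have hker : ∀ (y : G) (hy : y ∈ setStab Δ), y ∈ P → (e ⟨y, hy⟩ = 1 ↔ y ∈ kernelOn P Δ) := by
    intro y hy hyP
    constructor
    · intro h
      have h' : permOn (G := G) Δ ⟨y, hy⟩ = 1 :=
        (Equiv.permCongrHom (Fintype.equivFinOfCardEq hcard)).injective (h.trans (map_one _).symm)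
      exact ⟨hyP, fun a ha => (permOn_eq_one_iff Δ _).1 h' ha⟩
    · intro h
      show (Equiv.permCongrHom (Fintype.equivFinOfCardEq hcard)) (permOn (G := G) Δ ⟨y, hy⟩) = 1
      rw [(permOn_eq_one_iff Δ _).2 fun a ha => mem_fixedBy.2 (h.2 a ha), map_one]
  have hfib : Nat.card φ.ker ≤ Nat.card (kernelOn P Δ) := by
    refine Nat.card_le_card_of_injective
      (fun y => (⟨(y : A), (hker _ (hC _ (hA (y : A).2)) (hA (y : A).2).1).1 y.2⟩ : kernelOn P Δ)) ?_
    intro y y' h
    exact Subtype.ext (Subtype.ext (congrArg Subtype.val h :))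
  have hsplit : Nat.card A = Nat.card φ.range * Nat.card φ.ker := by
    rw [Subgroup.card_eq_card_quotient_mul_card_subgroup φ.ker,
      Nat.card_congr (QuotientGroup.quotientKerEquivRange φ).toEquiv]
  have hinvφ : ∀ u ∈ φ.range, u * u = 1 := by
    rintro _ ⟨a, rfl⟩
    rw [← map_mul, show a * a = 1 from Subtype.ext (hA2 a a.2), map_one]
  have hcomφ : ∀ u ∈ φ.range, ∀ v ∈ φ.range, u * v = v * u := by
    rintro _ ⟨a, rfl⟩ _ ⟨b, rfl⟩
    rw [← map_mul, ← map_mul, show a * b = b * a from Subtype.ext (hAc a a.2 b b.2)]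
  obtain ⟨σ, hσ, hσ1⟩ : ∃ σ ∈ φ.range, σ ≠ 1 := by
    by_contra hno
    push Not at hno
    rw [hsplit, (Subgroup.eq_bot_iff_forall _).2 hno, Subgroup.card_bot, one_mul] at hA4
    omega
  obtain ⟨τ, hτ, hτ1, hτσ⟩ : ∃ τ ∈ φ.range, τ ≠ 1 ∧ τ ≠ σ := by
    by_contra hno
    push Not at hno
    have hsub : (φ.range : Set (Equiv.Perm (Fin 4))) ⊆ {1, σ} := fun u hu => by
      by_cases h1 : u = 1
      · exact Or.inl h1
      · exact Or.inr (hno u hu h1)
    have := Set.ncard_le_ncard hsub (Set.toFinite _)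
    rw [← Nat.card_coe_set_eq, Set.ncard_pair (Ne.symm hσ1)] at this
    have hle : Nat.card φ.range * Nat.card φ.ker ≤ 2 * 2 := Nat.mul_le_mul this (hfib.trans hK)
    omega
  have hfour : ∀ ρ, σ * ρ = ρ * σ → τ * ρ = ρ * τ → ρ ∈ φ.range := fun ρ h1 h2 => by
    rcases four_group_perm σ (hinvφ σ hσ) hσ1 τ (hinvφ τ hτ) hτ1 hτσ (hcomφ σ hσ τ hτ) ρ h1 h2 with
      rfl | rfl | rfl | rfl
    · exact one_mem _
    · exact hσ
    · exact hτ
    · exact mul_mem hσ hτ
  have hran : Nat.card φ.range ≤ 4 := by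
    have hsub : (φ.range : Set (Equiv.Perm (Fin 4))) ⊆ {1, σ, τ, σ * τ} := fun u hu => by
      simpa using four_group_perm σ (hinvφ σ hσ) hσ1 τ (hinvφ τ hτ) hτ1 hτσ (hcomφ σ hσ τ hτ) u
        (hcomφ σ hσ u hu) (hcomφ τ hτ u hu)
    have := Set.ncard_le_ncard hsub (Set.toFinite _)
    rw [← Nat.card_coe_set_eq] at this
    refine this.trans ((Set.ncard_insert_le _ _).trans (Nat.succ_le_succ ((Set.ncard_insert_le _ _).trans
      (Nat.succ_le_succ ((Set.ncard_insert_le _ _).trans ?_)))))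
    rw [Set.ncard_singleton]
  haveI : Fact (Nat.Prime 2) := ⟨Nat.prime_two⟩
  obtain ⟨k, hk⟩ := IsPGroup.iff_card.1 (hP.to_le (hA.trans inf_le_left))
  have hk3 : 3 ≤ k := by
    by_contra h
    rw [hk] at hA4
    have := Nat.pow_le_pow_right (show 1 ≤ 2 by norm_num) (show k ≤ 2 by omega)
    omega
  have h8 : Nat.card A = 8 ∧ Nat.card φ.ker = 2 := by
    have h1 : 8 ≤ Nat.card A := by
      rw [hk]; calc 8 = 2 ^ 3 := by norm_num
        _ ≤ _ := Nat.pow_le_pow_right (by norm_num) hk3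
    have h2 : Nat.card φ.ker ≤ 2 := hfib.trans hK
    have h3 : Nat.card φ.range * Nat.card φ.ker ≤ 4 * 2 := Nat.mul_le_mul hran h2
    refine ⟨by omega, ?_⟩
    by_contra h
    have : Nat.card φ.range * Nat.card φ.ker ≤ 4 * 1 := Nat.mul_le_mul hran (by omega)
    omega
  -- the kernel lies in `A`
  have hKA : kernelOn P Δ ≤ A := by
    intro y hy
    have hinj : Function.Injective
        (fun u : φ.ker => (⟨(u : A), (hker _ (hC _ (hA (u : A).2)) (hA (u : A).2).1).1 u.2⟩ : kernelOn P Δ)) :=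
      fun u v h => Subtype.ext (Subtype.ext (congrArg Subtype.val h :))
    obtain ⟨u, hu⟩ := ((Nat.bijective_iff_injective_and_card _).2
      ⟨hinj, le_antisymm (Nat.card_le_card_of_injective _ hinj) (by rw [h8.2]; exact hK)⟩).2 ⟨y, hy⟩
    have hu' : ((u : A) : G) = y := congrArg Subtype.val hu
    exact hu' ▸ (u : A).2
  have hwA : w ∈ A := hKA ⟨hwP, fun a ha => ha⟩
  refine CfsgLib.TwoGroups.SelfCentEight.sectional_rank_le_four (A := A.subgroupOf P) hP
    ⟨fun a ha b hb => Subtype.ext (hAc a ha b hb), fun a ha => Subtype.ext (hA2 a ha), ?_, fun y hy => ?_⟩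
  · rw [Nat.card_congr (Subgroup.subgroupOfEquivOfLe (hA.trans inf_le_left)).toEquiv, h8.1]
  · have hyA : ∀ a ∈ A, a * (y : G) = y * a := fun a ha =>
      congrArg Subtype.val (hy ⟨a, (hA ha).1⟩ ha)
    have hyC : (y : G) ∈ P ⊓ Subgroup.centralizer ({w} : Set G) :=
      ⟨y.2, Subgroup.mem_centralizer_singleton_iff.2 (hyA w hwA).symm⟩
    have hρ : ∀ u ∈ φ.range, u * e ⟨(y : G), hC _ hyC⟩ = e ⟨(y : G), hC _ hyC⟩ * u := by
      rintro _ ⟨a, rfl⟩
      show e ⟨(a : G), hC _ (hA a.2)⟩ * e _ = e _ * e ⟨(a : G), hC _ (hA a.2)⟩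
      rw [← map_mul, ← map_mul]
      exact congrArg e (Subtype.ext (hyA a a.2))
    obtain ⟨a, ha⟩ := hfour _ (hρ σ hσ) (hρ τ hτ)
    have hmem : (a : G)⁻¹ * y ∈ A := hKA ((hker _ (mul_mem (inv_mem (hC _ (hA a.2))) (hC _ hyC))
      (mul_mem (inv_mem (hA a.2).1) y.2)).1 (by
        show e ((⟨(a : G), hC _ (hA a.2)⟩ : setStab (G := G) Δ)⁻¹ * ⟨(y : G), hC _ hyC⟩) = 1
        rw [map_mul, map_inv, inv_mul_eq_one]
        exact ha))
    have := mul_mem a.2 hmem
    rw [mul_inv_cancel_left] at this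
    exact this

/-- The two-point case. -/
theorem pair_rank (hperf : commutator G = ⊤) (hs : Small G Ω) (P : Sylow 2 G) {T : Subgroup G} {b : Ω}
    (d : Max (P : Subgroup G) T b 2) (hF : fixSet (Ω := Ω) (P : Subgroup G) = ∅)
    (hD : (fixSet (Ω := Ω) T).ncard = 2) {t : G} (ht : t ∈ T) (ht1 : t ≠ 1)
    (ht4 : (fixedBy Ω t).ncard = 4) : Cfsg.SectionalPRankLE 2 4 (P : Subgroup G) := by
  classical
  haveI : Fact (Nat.Prime 2) := ⟨Nat.prime_two⟩
  set Q := (P : Subgroup G) with hQdef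
  have hQ : IsPGroup 2 Q := P.isPGroup'
  by_cases hK : ∀ w ∈ Q, orderOf w = 2 → (fixedBy Ω w).ncard = 4 → 2 < Nat.card (kernelOn Q (fixedBy Ω w))
  swap
  · push Not at hK
    obtain ⟨w, hw, hw2, hw4, hwK⟩ := hK
    exact rank_of_small_kernel hs hQ hw hw2 hw4 hwK
  have heven : Nat.card Ω ≡ 0 [MOD 2] := by
    have h := modEq_fixSet (Ω := Ω) hQ
    rw [hF, Set.ncard_empty] at h
    exact h
  -- kernels of four-point fixers
  have hexK : ∀ (Δ : Set Ω), Δ.ncard = 4 → ∀ u ∈ kernelOn Q Δ, u ≠ 1 → fixedBy Ω u = Δ :=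
    fun Δ h u hu h1 => hs.eq_of_four h1 (fun a ha => hu.2 a ha) h.ge
  have hKbig : ∀ u ∈ Q, u ≠ 1 → (fixedBy Ω u).ncard = 4 → 2 < Nat.card (kernelOn Q (fixedBy Ω u)) := by
    intro u hu hu1 hu4
    obtain ⟨k, hk⟩ := exists_pow_order hQ hu hu1
    have hk1 : u ^ k ≠ 1 := fun h => by rw [h, orderOf_one] at hk; omega
    have e := hs.eq_of_four hk1 (fixedBy_pow_le u k) hu4.ge
    rw [← e]
    exact hK _ (pow_mem hu k) hk (e ▸ hu4)
  -- structure of a full point stabiliser containing a four-point fixer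
  have hpair : ∀ c : Ω, Nat.card (Q ⊓ stabilizer G c : Subgroup G) = Nat.card T →
      ∀ u ∈ Q ⊓ stabilizer G c, u ≠ 1 → (fixedBy Ω u).ncard = 4 →
      (Q ⊓ stabilizer G c ≤ setStab (fixedBy Ω u)) ∧
      Nat.card (Q ⊓ stabilizer G c : Subgroup G) ≤ 2 * Nat.card (kernelOn Q (fixedBy Ω u)) ∧
      kernelOn Q (fixedBy Ω u) ≤ Q ⊓ stabilizer G c ∧
      ¬ Q ⊓ stabilizer G c ≤ kernelOn Q (fixedBy Ω u) ∧
      ∀ v ∈ Q ⊓ stabilizer G c, v ∉ kernelOn Q (fixedBy Ω u) →
        (fixedBy Ω v).ncard ≤ 2 ∧ fixedBy Ω v ⊆ fixedBy Ω u := by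
    intro c hcard u hu hu1 hu4
    set R := Q ⊓ stabilizer G c with hR
    set Δ := fixedBy Ω u
    set W := kernelOn Q Δ
    have hWR : W ≤ R := fun y hy => ⟨hy.1, hy.2 c hu.2⟩
    have hRp : IsPGroup 2 R := hQ.to_le inf_le_left
    have hR2 : (fixSet (Ω := Ω) R).ncard = 2 := by
      obtain ⟨h, -, hh⟩ := d.lift R c hRp fun r hr => hr.2
      have hmap : R.map (MulAut.conj h).toMonoidHom = T := Subgroup.eq_of_le_of_card_ge
        (by rintro _ ⟨r, hr, rfl⟩; exact hh r hr)
        (by rw [Subgroup.card_map_of_injective (MulAut.conj h).injective, hcard])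
      have he : fixSet (Ω := Ω) T = (h • ·) '' fixSet (Ω := Ω) R := by
        rw [← hmap]
        ext a
        constructor
        · intro ha
          refine ⟨h⁻¹ • a, fun r hr => ?_, smul_inv_smul h a⟩
          have := ha _ ⟨r, hr, rfl⟩
          change (h * r * h⁻¹) • a = a at this
          rw [mul_smul, mul_smul, ← eq_inv_smul_iff] at this
          exact this
        · rintro ⟨a', ha', rfl⟩ _ ⟨r, hr, rfl⟩
          show (h * r * h⁻¹) • (h • a') = h • a'
          rw [mul_smul, mul_smul, inv_smul_smul, ha' r hr]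
      rw [he, Set.ncard_image_of_injective _ (MulAction.injective h)] at hD
      exact hD
    have hsub : fixSet (Ω := Ω) R ⊆ Δ := fixSet_subset hu
    have hnot : ¬ R ≤ W := fun hle => by
      have h := Set.ncard_le_ncard (show Δ ⊆ fixSet R from fun a ha r hr => (hle hr).2 a ha) (Set.toFinite _)
      omega
    have hWu : u ∈ W := ⟨hu.1, fun a ha => ha⟩
    have hWbig : 2 < Nat.card W := hKbig u hu.1 hu1 hu4
    -- the normaliser of `W` in `R`
    set N1 := R ⊓ setStab Δ
    have hWN1 : W ≤ N1 := le_inf hWR fun y hy => mem_setStab_of_maps fun a ha => by rw [hy.2 a ha]; exact ha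
    have hN1le : Nat.card N1 ≤ 2 * Nat.card W := by
      obtain ⟨e, he, he'⟩ : ∃ e ∈ Δ, e ∉ fixSet R := by
        by_contra h
        push Not at h
        have := Set.ncard_le_ncard (show Δ ⊆ fixSet R from h) (Set.toFinite _)
        omega
      refine (card_le_mul N1 e (Δ \ fixSet R) fun y hy => ⟨(mem_setStab.1 hy.2 e).2 he, fun hmem => he' ?_⟩).trans ?_
      · have h1 := hmem y⁻¹ (inv_mem hy.1)
        rw [inv_smul_smul] at h1
        rw [← h1] at hmem
        exact hmem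
      · rw [Set.ncard_sdiff hsub (Set.toFinite _), hR2, hu4]
        refine Nat.mul_le_mul_left _ (Subgroup.card_le_of_le fun y hy => ⟨hy.1.1.1, fun a ha => ?_⟩)
        by_contra hya
        -- `y` fixes three points of the invariant four
        have hsub3 : insert e (fixSet (Ω := Ω) R) ⊆ fixedBy Ω y :=
          Set.insert_subset hy.2 (fixSet_subset hy.1.1)
        have hins : (insert e (fixSet (Ω := Ω) R)).ncard = 3 := by
          rw [Set.ncard_insert_of_notMem he' (Set.toFinite _), hR2]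
        have hsubΔ : insert e (fixSet (Ω := Ω) R) ⊆ Δ := Set.insert_subset he hsub
        obtain ⟨f, hf⟩ : ∃ f, Δ \ insert e (fixSet (Ω := Ω) R) = {f} := Set.ncard_eq_one.1 (by
          rw [Set.ncard_sdiff hsubΔ (Set.toFinite _), hins, hu4])
        have haf : a = f := by
          have : a ∈ Δ \ insert e (fixSet (Ω := Ω) R) := ⟨ha, fun h => hya (hsub3 h)⟩
          rw [hf] at this; exact this
        have hyaf : y • a ∈ Δ \ insert e (fixSet (Ω := Ω) R) := ⟨(mem_setStab.1 hy.1.2 a).2 ha, fun h => hya (by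
          have h1 : y • (y • a) = y • a := hsub3 h
          exact smul_left_cancel y h1)⟩
        rw [hf] at hyaf
        exact hya (hyaf.trans haf.symm)
    have hN1 : N1 = R := by
      by_contra hne
      obtain ⟨g, hgR, hgN, hgn⟩ := exists_normalizer_notMem hRp (inf_le_left : N1 ≤ R) hne
      have hconj : W.map (MulAut.conj g).toMonoidHom ≤ N1 := by
        rintro _ ⟨x, hx, rfl⟩
        exact (Subgroup.mem_normalizer_iff.1 hgn x).1 (hWN1 hx)
      have hmul := card_mul_le_of_disjoint hWN1 hconj fun x hx hx' => by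
        obtain ⟨x', hx', rfl⟩ := hx'
        by_contra h1
        have hx'1 : x' ≠ 1 := fun h => h1 (by simp [h])
        refine hgN ⟨hgR, ?_⟩
        refine mem_setStab_iff_image.2 ?_
        conv_lhs => rw [← hexK Δ hu4 x' hx' hx'1]
        rw [← fixedBy_conj]
        exact hexK Δ hu4 _ hx h1
      rw [Subgroup.card_map_of_injective (MulAut.conj g).injective] at hmul
      have := Nat.le_of_mul_le_mul_right (hmul.trans hN1le) Nat.card_pos
      omega
    have hRle : Nat.card R ≤ 2 * Nat.card W := hN1 ▸ hN1le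
    refine ⟨hN1.ge.trans inf_le_right, hRle, hWR, hnot, fun v hv hvW => ?_⟩
    have hv1 : v ≠ 1 := fun h => hvW (h ▸ one_mem W)
    -- a four-point fixer in `R` lies in `W`
    have huniq : ∀ v' ∈ R, v' ≠ 1 → (fixedBy Ω v').ncard = 4 → fixedBy Ω v' = Δ := by
      intro v' hv' hv'1 hv'4
      by_contra hne
      have hW' : kernelOn Q (fixedBy Ω v') ≤ R := fun y hy => ⟨hy.1, hy.2 c hv'.2⟩
      have hmul := card_mul_le_of_disjoint hWR hW' fun x hx hx' => by
        by_contra h1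
        exact hne ((hexK _ hv'4 x hx' h1).symm.trans (hexK Δ hu4 x hx h1))
      have hbig := hKbig v' hv'.1 hv'1 hv'4
      have := Nat.mul_le_mul_left (Nat.card W) hbig
      have h3 := hmul.trans hRle
      rw [mul_comm 2] at h3
      have := Nat.le_of_mul_le_mul_left h3 Nat.card_pos
      omega
    refine ⟨?_, ?_⟩
    · by_contra hgt
      push Not at hgt
      obtain ⟨k, hk⟩ := exists_pow_order hRp hv hv1
      have hk1 : v ^ k ≠ 1 := fun h => by rw [h, orderOf_one] at hk; omega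
      have hsubk := fixedBy_pow_le (Ω := Ω) v k
      have h3 := Set.ncard_le_ncard hsubk (Set.toFinite _)
      have hm := modEq_fixedBy (Ω := Ω) hk
      have hmod : (fixedBy Ω (v ^ k)).ncard % 2 = 0 := hm.symm.trans heven
      have hvk4 : (fixedBy Ω (v ^ k)).ncard = 4 := by have := hs _ hk1; omega
      have hΔ' := huniq _ (pow_mem hv k) hk1 hvk4
      rw [hΔ'] at hsubk
      have hvS : v ∈ setStab Δ := (hN1.ge hv).2
      have hle1 : (Δ \ fixedBy Ω v).ncard ≤ 1 := by
        rw [Set.ncard_sdiff hsubk (Set.toFinite _), hu4]; omega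
      refine hvW ⟨hv.1, fun a ha => ?_⟩
      by_contra hva
      have h2 : v • a ∈ Δ \ fixedBy Ω v := ⟨(mem_setStab.1 hvS a).2 ha, fun h => hva (smul_left_cancel v h)⟩
      exact hva (Set.ncard_le_one_iff (Set.toFinite _) |>.1 hle1 h2 ⟨ha, hva⟩)
    · intro a ha
      refine hsub ?_
      have hle2 : (fixedBy Ω v).ncard ≤ 2 := by
        by_contra hgt
        push Not at hgt
        obtain ⟨k, hk⟩ := exists_pow_order hRp hv hv1
        have hk1 : v ^ k ≠ 1 := fun h => by rw [h, orderOf_one] at hk; omega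
        have hsubk := fixedBy_pow_le (Ω := Ω) v k
        have h3 := Set.ncard_le_ncard hsubk (Set.toFinite _)
        have hmod : (fixedBy Ω (v ^ k)).ncard % 2 = 0 := (modEq_fixedBy (Ω := Ω) hk).symm.trans heven
        have hvk4 : (fixedBy Ω (v ^ k)).ncard = 4 := by have := hs _ hk1; omega
        rw [huniq _ (pow_mem hv k) hk1 hvk4] at hsubk
        have hvS : v ∈ setStab Δ := (hN1.ge hv).2
        have hle1 : (Δ \ fixedBy Ω v).ncard ≤ 1 := by
          rw [Set.ncard_sdiff hsubk (Set.toFinite _), hu4]; omega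
        refine hvW ⟨hv.1, fun a' ha' => ?_⟩
        by_contra hva
        have h2 : v • a' ∈ Δ \ fixedBy Ω v := ⟨(mem_setStab.1 hvS a').2 ha', fun h => hva (smul_left_cancel v h)⟩
        exact hva (Set.ncard_le_one_iff (Set.toFinite _) |>.1 hle1 h2 ⟨ha', hva⟩)
      rw [Set.eq_of_subset_of_ncard_le (fixSet_subset hv) (by omega) (Set.toFinite _)]
      exact ha
  -- apply to `T`
  have hTeq : T = Q ⊓ stabilizer G b := d.eq
  set Δ := fixedBy Ω t with hΔ
  obtain ⟨hTS, hT2, hWT, hTW, hTfix⟩ := hpair b (by rw [← hTeq]) t (hTeq ▸ ht) ht1 ht4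
  rw [← hTeq] at hTS hT2 hWT hTW hTfix
  set W := kernelOn Q Δ with hW
  have hWbig : 2 < Nat.card W := hKbig t (hTeq ▸ ht : t ∈ Q ⊓ stabilizer G b).1 ht1 ht4
  have hbΔ : b ∈ Δ := (hTeq ▸ ht : t ∈ Q ⊓ stabilizer G b).2
  have hTQ : T ≤ Q := hTeq ▸ inf_le_left
  have hb : ∀ u ∈ Q, u ∈ setStab Δ → u • b ∈ Δ := fun u _ h => (mem_setStab.1 h b).2 hbΔ
  have hTne : T ≠ Q := fun h => by
    have hbF : b ∈ fixSet (Ω := Ω) Q := fun y hy => (hTeq ▸ (h.ge hy) : y ∈ Q ⊓ stabilizer G b).2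
    rw [hF] at hbF
    exact hbF
  -- elements of `T` outside `W` fix exactly the fixed set of `T`
  have hTout : ∀ u ∈ T, u ∉ W → fixedBy Ω u = fixSet T := fun u hu huW =>
    (Set.eq_of_subset_of_ncard_le (fixSet_subset hu) (by rw [hD]; exact (hTfix u hu huW).1) (Set.toFinite _)).symm
  have hst : Q ≤ setStab Δ := by
    by_contra hnot
    set M := Q ⊓ setStab Δ
    have hTM : T ≤ M := le_inf hTQ hTS
    obtain ⟨g, hgQ, hgM, hgn⟩ := exists_normalizer_notMem hQ (inf_le_left : M ≤ Q)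
      (fun h => hnot (h.ge.trans inf_le_right))
    have hconj : T.map (MulAut.conj g).toMonoidHom ≤ M := by
      rintro _ ⟨x, hx, rfl⟩
      exact (Subgroup.mem_normalizer_iff.1 hgn x).1 (hTM hx)
    have hgΔ : g ∉ setStab Δ := fun h => hgM ⟨hgQ, h⟩
    have hmul := card_mul_le_of_disjoint hTM hconj fun x hx hx' => by
      obtain ⟨x', hx', rfl⟩ := hx'
      by_contra h1
      change g * x' * g⁻¹ ≠ 1 at h1
      change g * x' * g⁻¹ ∈ T at hx
      have hx'1 : x' ≠ 1 := fun h => h1 (by simp [h])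
      by_cases hW1 : g * x' * g⁻¹ ∈ W
      · have e := hexK Δ ht4 _ hW1 h1
        by_cases hW2 : x' ∈ W
        · rw [fixedBy_conj, hexK Δ ht4 x' hW2 hx'1] at e
          exact hgΔ (mem_setStab_iff_image.2 e)
        · have := (hTfix x' hx' hW2).1
          rw [← ncard_fixedBy_conj g, e, ht4] at this
          omega
      · have e := hTout _ hx hW1
        by_cases hW2 : x' ∈ W
        · have e2 := congrArg Set.ncard e
          rw [ncard_fixedBy_conj, hexK Δ ht4 x' hW2 hx'1, hD, ht4] at e2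
          omega
        · rw [fixedBy_conj, hTout x' hx' hW2] at e
          -- `g` normalises `T`, hence its kernel
          have hgT : ∀ y ∈ T, g * y * g⁻¹ ∈ T := fun y hy => by
            rw [hTeq]
            refine Subgroup.mem_inf.2 ⟨mul_mem (mul_mem hgQ (hTQ hy)) (inv_mem hgQ), ?_⟩
            have hb' : b ∈ fixSet (Ω := Ω) T := fun z hz => (hTeq ▸ hz : z ∈ Q ⊓ stabilizer G b).2
            have hgb : g⁻¹ • b ∈ fixSet (Ω := Ω) T := by
              rw [← e] at hb'
              obtain ⟨b', hb', rfl⟩ := hb'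
              rwa [inv_smul_smul]
            show (g * y * g⁻¹) • b = b
            rw [mul_smul, mul_smul, hgb y hy, smul_inv_smul]
          have hgt := hgT t ht
          have hgt1 : g * t * g⁻¹ ≠ 1 := fun h => ht1 (conj_eq_one_iff.1 h)
          by_cases hW3 : g * t * g⁻¹ ∈ W
          · have e3 := hexK Δ ht4 _ hW3 hgt1
            rw [fixedBy_conj] at e3
            exact hgΔ (mem_setStab_iff_image.2 e3)
          · have := (hTfix _ hgt hW3).1
            rw [ncard_fixedBy_conj, ht4] at this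
            omega
    rw [Subgroup.card_map_of_injective (MulAut.conj g).injective] at hmul
    have hM : Nat.card M ≤ 4 * Nat.card T := by
      refine (card_le_mul M b Δ fun y hy => hb y hy.1 hy.2).trans ?_
      rw [ht4]
      exact Nat.mul_le_mul_left _ (Subgroup.card_le_of_le fun y hy => hTeq ▸ ⟨hy.1.1, hy.2⟩)
    have h4 : Nat.card T ≤ 4 := Nat.le_of_mul_le_mul_right (hmul.trans hM) Nat.card_pos
    -- but `T` properly contains `W`
    have hlt : Nat.card W < Nat.card T := lt_of_le_of_ne (Subgroup.card_le_of_le hWT) fun h =>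
      hTW (Subgroup.eq_of_le_of_card_ge hWT h.ge).ge
    obtain ⟨i, hi⟩ := IsPGroup.iff_card.1 (hQ.to_le (hWT.trans hTQ))
    rw [hi] at hlt hWbig
    have : 2 ≤ i := by
      by_contra h
      have := Nat.pow_le_pow_right (show 1 ≤ 2 by norm_num) (show i ≤ 1 by omega)
      omega
    have := Nat.pow_le_pow_right (show 1 ≤ 2 by norm_num) this
    omega
  have hQ4 : Nat.card Q ≤ 4 * Nat.card T := by
    refine (card_le_mul Q b Δ fun y hy => hb y hy (hst hy)).trans ?_
    rw [ht4, hTeq]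
  have hPW : Nat.card Q ≤ 8 * Nat.card W := by omega
  have hWn : Q ≤ Subgroup.normalizer (W : Set G) := by
    intro y hy
    have hy' := hst hy
    have key : ∀ m ∈ Q, m ∈ setStab Δ → ∀ x ∈ W, m * x * m⁻¹ ∈ W := fun m hm hmΔ x hx =>
      ⟨mul_mem (mul_mem hm hx.1) (inv_mem hm), fun a ha => by
        rw [mul_smul, mul_smul, hx.2 _ ((mem_setStab.1 (inv_mem hmΔ) a).2 ha), smul_inv_smul]⟩
    rw [Subgroup.mem_normalizer_iff]
    refine fun x => ⟨fun hx => key y hy hy' x hx, fun hx => ?_⟩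
    have := key y⁻¹ (inv_mem hy) (inv_mem hy') _ hx
    simpa [mul_assoc] using this
  -- every point of `Δ` has a full stabiliser
  have hfull : ∀ c ∈ Δ, Nat.card (Q ⊓ stabilizer G c : Subgroup G) = Nat.card T := by
    intro c hc
    refine le_antisymm (d.card_le hQ c) ?_
    by_cases hcb : ∃ y ∈ Q, y • b = c
    · obtain ⟨y, hy, rfl⟩ := hcb
      refine Nat.card_le_card_of_injective (fun u => (⟨y * u * y⁻¹, ?_⟩ : ↥(Q ⊓ stabilizer G (y • b)))) ?_
      · have hu : (u : G) ∈ Q ⊓ stabilizer G b := hTeq ▸ u.2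
        refine Subgroup.mem_inf.2 ⟨mul_mem (mul_mem hy hu.1) (inv_mem hy), ?_⟩
        show (y * (u : G) * y⁻¹) • (y • b) = y • b
        have hub : (u : G) • b = b := hu.2
        rw [mul_smul, mul_smul, inv_smul_smul, hub]
      · exact fun u v h => Subtype.ext (mul_left_cancel (mul_right_cancel (congrArg Subtype.val h)))
    · push Not at hcb
      set O : Set Ω := {a | ∃ y ∈ Q, y • b = a}
      have hO : 2 ≤ O.ncard := by
        obtain ⟨y, hy, hyT⟩ := SetLike.exists_of_lt (lt_of_le_of_ne hTQ hTne)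
        refine (Set.one_lt_ncard_iff (Set.toFinite _)).2 ⟨b, y • b, ⟨1, one_mem _, one_smul G b⟩, ⟨y, hy, rfl⟩,
          fun e => hyT (hTeq ▸ ⟨hy, e.symm⟩)⟩
      have hOsub : O ⊆ Δ := fun a ⟨y, hy, e⟩ => e ▸ hb y hy (hst hy)
      have h1 := card_le_mul Q c (Δ \ O) fun y hy => ⟨(mem_setStab.1 (hst hy) c).2 hc, fun ⟨m, hm, e⟩ =>
        hcb (y⁻¹ * m) (mul_mem (inv_mem hy) hm) (by rw [mul_smul, e, inv_smul_smul])⟩
      rw [Set.ncard_sdiff hOsub (Set.toFinite _), ht4] at h1
      have h2 : 2 * Nat.card T ≤ Nat.card Q := by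
        obtain ⟨i, hi⟩ := IsPGroup.iff_card.1 (hQ.to_le hTQ)
        obtain ⟨j, hj⟩ := IsPGroup.iff_card.1 hQ
        have hlt : Nat.card T < Nat.card Q := lt_of_le_of_ne (Subgroup.card_le_of_le hTQ) fun h =>
          hTne (Subgroup.eq_of_le_of_card_ge hTQ h.ge)
        rw [hi, hj, Nat.pow_lt_pow_iff_right (by norm_num)] at hlt
        rw [hi, hj, ← pow_succ']
        exact Nat.pow_le_pow_right (by norm_num) hlt
      have h3 : (4 - O.ncard) * Nat.card (Q ⊓ stabilizer G c : Subgroup G) ≤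
          2 * Nat.card (Q ⊓ stabilizer G c : Subgroup G) := Nat.mul_le_mul_right _ (by omega)
      omega
  have hΔfix : ∀ c ∈ Δ, ∀ v ∈ Q, v • c = c → fixedBy Ω v ⊆ Δ ∨ v = 1 := by
    intro c hc v hv hvc
    by_cases hvW : v ∈ W
    · by_cases h1 : v = 1
      · exact Or.inr h1
      · exact Or.inl (hexK Δ ht4 v hvW h1).le
    · have htc : t ∈ Q ⊓ stabilizer G c := ⟨hTQ ht, hc⟩
      obtain ⟨-, -, -, -, h⟩ := hpair c (hfull c hc) t htc ht1 ht4
      exact Or.inl (h v ⟨hv, hvc⟩ hvW).2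
  by_cases hfree : ∀ y ∈ Q, ∀ z : Ω, z ∉ Δ → y • z = z → y = 1
  · exfalso
    haveI : Fintype Ω := Fintype.ofFinite Ω
    haveI : Fintype Δ := Fintype.ofFinite _
    obtain ⟨q, hqT, hqW⟩ := SetLike.not_le_iff_exists.1 hTW
    have hcard : Fintype.card Δ = 4 := by rw [← Nat.card_eq_fintype_card, Nat.card_coe_set_eq, ht4]
    refine false_of_odd hperf hQ hst hfree (hTQ hqT) (fun h => hTne (le_antisymm hTQ ?_)) ?_
    · rw [← h]; exact Subgroup.zpowers_le.2 hqT
    · set σ := permOn (G := G) Δ ⟨q, hst (hTQ hqT)⟩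
      obtain ⟨a₁, a₂, hne, hfx⟩ := Set.ncard_eq_two.1 hD
      have h1 : a₁ ∈ fixSet (Ω := Ω) T := by rw [hfx]; exact Or.inl rfl
      have h2 : a₂ ∈ fixSet (Ω := Ω) T := by rw [hfx]; exact Or.inr rfl
      have hΔ1 : a₁ ∈ Δ := fixSet_subset ht h1
      have hΔ2 : a₂ ∈ Δ := fixSet_subset ht h2
      set ε := Fintype.equivFinOfCardEq hcard
      have := sign_two_fixed (ε.permCongr σ) (fun e => hqW ⟨hTQ hqT, fun a ha => by
          have e' : σ = 1 := ε.permCongr.injective (e.trans (Equiv.ext fun i => by simp))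
          exact (permOn_eq_one_iff Δ _).1 e' ha⟩) (ε ⟨a₁, hΔ1⟩) (ε ⟨a₂, hΔ2⟩)
        (fun e => hne (congrArg Subtype.val (ε.injective e)))
        (by rw [Equiv.permCongr_apply, Equiv.symm_apply_apply]; exact congrArg ε (Subtype.ext (h1 q hqT)))
        (by rw [Equiv.permCongr_apply, Equiv.symm_apply_apply]; exact congrArg ε (Subtype.ext (h2 q hqT)))
      rw [Equiv.Perm.sign_permCongr] at this
      convert this
  push Not at hfree
  obtain ⟨y, hy, z, hz, hyz, hy1⟩ := hfree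
  set B := Q ⊓ stabilizer G z with hB
  have hBsemi : ∀ c ∈ Δ, ∀ u ∈ B, u • c = c → u = 1 := fun c hc u hu huc => by
    rcases hΔfix c hc u hu.1 huc with h | h
    · exact absurd (h hu.2) hz
    · exact h
  refine rank_of_outside hs hQ (hWT.trans hTQ) hWn hPW (z := z)
    (fun h => hy1 (Subgroup.mem_bot.1 (h ▸ (⟨hy, hyz⟩ : y ∈ Q ⊓ stabilizer G z)))) ?_
    (fun w hw hwB => hBsemi b hbΔ w hwB (hw.2 b hbΔ)) fun h4 => ?_
  · refine (card_le_mul B b Δ fun u hu => hb u hu.1 (hst hu.1)).trans ?_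
    have : B ⊓ stabilizer G b = ⊥ :=
      (Subgroup.eq_bot_iff_forall _).2 fun u hu => hBsemi b hbΔ u hu.1 hu.2
    rw [this, Subgroup.card_bot, mul_one, ht4]
  · by_cases hex : ∃ x ∈ B, orderOf x = 2 ∧ (fixedBy Ω x).ncard ≤ 2
    · exact Or.inl hex
    push Not at hex
    have hfour : ∀ x ∈ B, orderOf x = 2 → (fixedBy Ω x).ncard = 4 ∧ kernelOn Q (fixedBy Ω x) = B := by
      intro x hx hx2
      have hx1 : x ≠ 1 := fun h => by rw [h, orderOf_one] at hx2; omega
      have h3 := hex x hx hx2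
      have h4' := hs x hx1
      have hmod : (fixedBy Ω x).ncard % 2 = 0 := (modEq_fixedBy (Ω := Ω) hx2).symm.trans heven
      have hf : (fixedBy Ω x).ncard = 4 := by omega
      have hle : kernelOn Q (fixedBy Ω x) ≤ B := fun u hu => ⟨hu.1, hu.2 z hx.2⟩
      have hbig := hK x hx.1 hx2 hf
      refine ⟨hf, Subgroup.eq_of_le_of_card_ge hle ?_⟩
      obtain ⟨i, hi⟩ := IsPGroup.iff_card.1 (hQ.to_le (fun u hu => hu.1 : kernelOn Q (fixedBy Ω x) ≤ Q))
      rw [hi] at hbig ⊢
      rw [h4]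
      have : 2 ≤ i := by
        by_contra h
        have := Nat.pow_le_pow_right (show 1 ≤ 2 by norm_num) (show i ≤ 1 by omega)
        omega
      exact Nat.pow_le_pow_right (show 1 ≤ 2 by norm_num) this
    obtain ⟨x, hx, hx2⟩ := exists_order_eq (hQ.to_le inf_le_left : IsPGroup 2 B)
      (fun h => by rw [← hB, h, Subgroup.card_bot] at h4; omega)
    refine Or.inr ⟨fixedBy Ω x, fun u hu hu1 => ?_⟩
    obtain ⟨hx4, hxK⟩ := hfour x hx hx2
    exact hexK _ hx4 u (hxK.ge hu) hu1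

end CfsgLib.Fixity
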