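import Cfsg.Agent.Lib.Fixity.Config

/-!
# The permutations induced on an invariant set
-/

set_option autoImplicit false

namespace CfsgLib.Fixity

open MulAction

variable {G Ω : Type*} [Group G] [MulAction G Ω]

/-- The action of the setwise stabiliser on the set. -/
def permOn (D : Set Ω) : setStab (G := G) D →* Equiv.Perm D where
  toFun g :=
    { toFun := fun a => ⟨(g : G) • (a : Ω), (g.2 a).2 a.2⟩
      invFun := fun a => ⟨(g : G)⁻¹ • (a : Ω), ((g⁻¹ : setStab (G := G) D).2 a).2 a.2⟩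
      left_inv := fun a => Subtype.ext (inv_smul_smul (g : G) (a : Ω))
      right_inv := fun a => Subtype.ext (smul_inv_smul (g : G) (a : Ω)) }
  map_one' := Equiv.ext fun a => Subtype.ext (one_smul G (a : Ω))
  map_mul' g h := Equiv.ext fun a => Subtype.ext (mul_smul (g : G) (h : G) (a : Ω))

theorem permOn_apply (D : Set Ω) (g : setStab (G := G) D) (a : D) :
    ((permOn D g a : D) : Ω) = (g : G) • (a : Ω) := rfl

theorem permOn_eq_one_iff (D : Set Ω) (g : setStab (G := G) D) :
    permOn D g = 1 ↔ D ⊆ fixedBy Ω (g : G) := by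
  constructor
  · intro h a ha
    exact congrArg Subtype.val (Equiv.congr_fun h ⟨a, ha⟩)
  · intro h
    exact Equiv.ext fun a => Subtype.ext (h a.2)

theorem permOn_apply_eq_self_iff (D : Set Ω) (g : setStab (G := G) D) (a : D) :
    permOn D g a = a ↔ (g : G) • (a : Ω) = (a : Ω) :=
  ⟨fun h => congrArg Subtype.val h, fun h => Subtype.ext h⟩

/-- An element of `2`-power order fixes a point of an invariant set of odd size. -/
theorem exists_fixed_two_power [Finite Ω] {S : Set Ω} {e : G} (he : e ∈ setStab S) {k : ℕ}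
    (hk : e ^ 2 ^ k = 1) (hodd : Odd S.ncard) : ∃ a ∈ S, e • a = a := by
  classical
  haveI : Fintype S := Fintype.ofFinite _
  set σ := permOn S ⟨e, he⟩
  haveI : Fact (Nat.Prime 2) := ⟨Nat.prime_two⟩
  have hσ : σ ^ 2 ^ k = 1 := by
    rw [← map_pow, show (⟨e, he⟩ : setStab (G := G) S) ^ 2 ^ k = 1 from Subtype.ext hk, map_one]
  have hP : IsPGroup 2 (Subgroup.zpowers σ) := by
    obtain ⟨j, -, hj⟩ := (Nat.dvd_prime_pow Nat.prime_two).1 (orderOf_dvd_of_pow_eq_one hσ)
    exact IsPGroup.of_card (n := j) (by rw [Nat.card_zpowers, hj])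
  obtain ⟨a, ha⟩ := hP.nonempty_fixed_point_of_prime_not_dvd_card S (by
    rw [Nat.card_coe_set_eq]; exact fun h => Nat.not_even_iff_odd.2 hodd (even_iff_two_dvd.2 h))
  exact ⟨a, a.2, congrArg Subtype.val (ha ⟨σ, Subgroup.mem_zpowers σ⟩)⟩

end CfsgLib.Fixity
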