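import Cfsg.Agent.Lib.Fixity.TwoRank

/-!
# Centralisers of order sixteen

Two commuting subgroups of order four with trivial intersection, and a normal subgroup on which
four automorphisms have one common centraliser.
-/

set_option autoImplicit false

namespace CfsgLib.Fixity

open Subgroup

variable {G : Type*} [Group G] [Finite G]

omit [Finite G] in
/-- A group of order four either has exponent two or at most two square roots of one. -/
theorem four_cases [Finite G] (A : Subgroup G) (h4 : Nat.card A ≤ 4) (hA : IsPGroup 2 A) :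
    (Nat.card A = 4 ∧ ∀ a ∈ A, a * a = 1) ∨ ∃ z : G, ∀ a ∈ A, a * a = 1 → a = 1 ∨ a = z := by
  classical
  haveI : Fact (Nat.Prime 2) := ⟨Nat.prime_two⟩
  by_cases hexp : ∀ a ∈ A, a * a = 1
  · by_cases h : Nat.card A = 4
    · exact Or.inl ⟨h, hexp⟩
    · obtain ⟨k, hk⟩ := IsPGroup.iff_card.1 hA
      have hk1 : k ≤ 1 := by
        by_contra hk2
        have := Nat.pow_le_pow_right (show 1 ≤ 2 by norm_num) (show 2 ≤ k by omega)
        rw [hk] at h h4
        omega
      by_cases hne : ∃ z ∈ A, z ≠ 1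
      · obtain ⟨z, hz, hz1⟩ := hne
        refine Or.inr ⟨z, fun a ha _ => ?_⟩
        by_contra hc
        push Not at hc
        have hinj : Function.Injective (![⟨1, one_mem A⟩, ⟨z, hz⟩, ⟨a, ha⟩] : Fin 3 → A) := by
          intro i j hij
          fin_cases i <;> fin_cases j <;> simp_all [Subtype.ext_iff, eq_comm]
        have h3 := Nat.card_le_card_of_injective _ hinj
        rw [Nat.card_fin, hk] at h3
        have := Nat.pow_le_pow_right (show 1 ≤ 2 by norm_num) hk1
        omega
      · push Not at hne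
        exact Or.inr ⟨1, fun a ha _ => Or.inl (hne a ha)⟩
  · push Not at hexp
    obtain ⟨c, hc, hc2⟩ := hexp
    refine Or.inr ⟨c * c, fun a ha ha2 => ?_⟩
    have ho : orderOf c = 4 := by
      obtain ⟨j, hj⟩ := (IsPGroup.iff_orderOf.1 hA) ⟨c, hc⟩
      rw [Subgroup.orderOf_mk] at hj
      have hle : orderOf c ≤ 4 := (Subgroup.orderOf_le_card A (Set.toFinite _) hc).trans h4
      rcases j with _ | _ | _ | j
      · exact absurd (by rw [orderOf_eq_one_iff.1 (hj.trans (pow_zero 2)), one_mul]) hc2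
      · exact absurd (by
          have h := pow_orderOf_eq_one c
          rw [hj] at h
          simpa [pow_two] using h) hc2
      · rw [hj]; norm_num
      · exfalso
        rw [hj] at hle
        have := Nat.pow_le_pow_right (show 1 ≤ 2 by norm_num) (show 3 ≤ j + 1 + 1 + 1 by omega)
        omega
    have hA' : zpowers c = A := Subgroup.eq_of_le_of_card_ge (zpowers_le.2 hc)
      (by rw [Nat.card_zpowers, ho]; exact h4)
    rw [← hA'] at ha
    obtain ⟨k, hk, rfl⟩ := ((isOfFinOrder_of_finite c).mem_powers_iff_mem_range_orderOf.1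
      ((isOfFinOrder_of_finite c).mem_powers_iff_mem_zpowers.2 ha) |> Finset.mem_image.1)
    rw [Finset.mem_range, ho] at hk
    rw [← pow_add] at ha2
    have hd := orderOf_dvd_of_pow_eq_one ha2
    rw [ho] at hd
    rcases (by omega : k = 0 ∨ k = 2) with rfl | rfl
    · exact Or.inl (pow_zero c)
    · exact Or.inr (pow_two c)

/-- Two commuting subgroups of order at most four inside `P`, all centralisers of involutions of
`B` having order at most sixteen. -/
theorem rank_of_product {P A B : Subgroup G} (hP : IsPGroup 2 P) (hAP : A ≤ P) (hBP : B ≤ P)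
    (hA4 : Nat.card A = 4) (hB4 : Nat.card B = 4) (hcomm : ∀ a ∈ A, ∀ b ∈ B, a * b = b * a)
    (hdis : ∀ a ∈ A, a ∈ B → a = 1) (hBc : ∀ b ∈ B, ∀ b' ∈ B, b * b' = b' * b)
    (h16 : ∀ b ∈ B, orderOf b = 2 → Nat.card (P ⊓ centralizer ({b} : Set G) : Subgroup G) ≤ 16)
    (htype : ((∀ a ∈ A, a * a = 1) ↔ ∀ b ∈ B, b * b = 1)) :
    Cfsg.SectionalPRankLE 2 4 P := by
  classical
  haveI : Fact (Nat.Prime 2) := ⟨Nat.prime_two⟩
  set C := A ⊔ B
  have hCP : C ≤ P := sup_le hAP hBP
  have hN : A ≤ normalizer (B : Set G) := fun a ha => centralizer_le_normalizer _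
    (mem_centralizer_iff.2 fun b hb => (hcomm a ha b hb).symm)
  have hmem : ∀ y ∈ C, ∃ a ∈ A, ∃ b ∈ B, a * b = y := fun y hy => by
    rw [← SetLike.mem_coe, Subgroup.coe_mul_of_left_le_normalizer_right _ _ hN] at hy
    exact hy
  have hC16 : 16 ≤ Nat.card C := by
    have := card_mul_le_of_disjoint (le_sup_left : A ≤ C) le_sup_right hdis
    rw [hA4, hB4] at this
    omega
  have hcent : ∀ b ∈ B, orderOf b = 2 → P ⊓ centralizer ({b} : Set G) = C := by
    intro b hb hb2
    have hle : C ≤ P ⊓ centralizer ({b} : Set G) := le_inf hCP (sup_le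
      (fun a ha => mem_centralizer_singleton_iff.2 (hcomm a ha b hb))
      (fun b' hb' => mem_centralizer_singleton_iff.2 (hBc b' hb' b hb)))
    exact (Subgroup.eq_of_le_of_card_ge hle ((h16 b hb hb2).trans hC16)).symm
  by_cases hexpB : ∀ b ∈ B, b * b = 1
  · -- both four-groups
    have hexpA := htype.2 hexpB
    obtain ⟨b0, hb0, hb01⟩ : ∃ b ∈ B, b ≠ 1 := by
      by_contra h
      push Not at h
      have : B = ⊥ := (Subgroup.eq_bot_iff_forall _).2 h
      rw [this, Subgroup.card_bot] at hB4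
      omega
    have hklein : ∀ K : Subgroup G, Nat.card K = 4 → (∀ k ∈ K, k * k = 1) → IsKleinFour K := by
      intro K h4 h2
      haveI : Nontrivial K := Finite.one_lt_card_iff_nontrivial.1 (by omega)
      refine ⟨h4, (Monoid.exponent_eq_prime_iff Nat.prime_two).2 fun k hk => ?_⟩
      exact orderOf_eq_prime (by rw [pow_two]; exact Subtype.ext (h2 k k.2)) hk
    have hA' : IsKleinFour (A.subgroupOf P) := by
      haveI := hklein A hA4 hexpA
      exact ⟨by rw [Nat.card_congr (subgroupOfEquivOfLe hAP).toEquiv, hA4],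
        (Monoid.exponent_eq_of_mulEquiv (subgroupOfEquivOfLe hAP)).trans IsKleinFour.exponent_two⟩
    have hB' : IsKleinFour (B.subgroupOf P) := by
      haveI := hklein B hB4 hexpB
      exact ⟨by rw [Nat.card_congr (subgroupOfEquivOfLe hBP).toEquiv, hB4],
        (Monoid.exponent_eq_of_mulEquiv (subgroupOfEquivOfLe hBP)).trans IsKleinFour.exponent_two⟩
    refine CfsgLib.TwoGroups.SelfCentEight.sectional_byFour (C.subgroupOf P) (A.subgroupOf P)
      (B.subgroupOf P) (hP.to_subgroup _)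
      ⟨fun a ha => mem_subgroupOf.2 (mem_sup_left (mem_subgroupOf.1 ha)),
        fun a ha => mem_subgroupOf.2 (mem_sup_right (mem_subgroupOf.1 ha)),
        fun a ha b hb => Subtype.ext (hcomm a ha b hb), ?_, ?_⟩ (Or.inl ⟨2, le_rfl, ?_⟩) hB' ?_
    · exact (Subgroup.eq_bot_iff_forall _).2 fun y hy => Subtype.ext (hdis y hy.1 hy.2)
    · exact (Subgroup.subgroupOf_sup hAP hBP).symm
    · exact IsKleinFour.nonempty_mulEquiv
    · intro b hb hb2
      rw [← Subgroup.orderOf_coe] at hb2
      have he : C.subgroupOf P = centralizer ({b} : Set P) := by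
        ext y
        rw [mem_subgroupOf, ← hcent b hb hb2]
        exact ⟨fun h => mem_centralizer_singleton_iff.2 (Subtype.ext (mem_centralizer_singleton_iff.1 h.2)),
          fun h => ⟨y.2, mem_centralizer_singleton_iff.2
            (congrArg Subtype.val (mem_centralizer_singleton_iff.1 h))⟩⟩
      exact ⟨he.le, by rw [he, Subgroup.relIndex_self]; exact odd_one⟩
  · -- both cyclic
    have hexpA : ¬ ∀ a ∈ A, a * a = 1 := fun h => hexpB (htype.1 h)
    obtain ⟨zA, hzA⟩ := (four_cases A hA4.le (hP.to_le hAP)).resolve_left fun h => hexpA h.2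
    obtain ⟨zB, hzB⟩ := (four_cases B hB4.le (hP.to_le hBP)).resolve_left fun h => hexpB h.2
    push Not at hexpB
    obtain ⟨c, hc, hc2⟩ := hexpB
    have hpow4 : c ^ 4 = 1 := by
      rw [← hB4]
      exact congrArg Subtype.val (pow_card_eq_one' (x := (⟨c, hc⟩ : B)))
    have hx : orderOf (c * c) = 2 := orderOf_eq_prime
      (by rw [← pow_two, ← pow_mul]; exact hpow4) hc2
    refine rank_of_noEight hP (hBP (mul_mem hc hc)) hx ?_
    rw [hcent _ (mul_mem hc hc) hx]
    intro E hE hEc hE2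
    have hsub : (E : Set G) ⊆ (({1, zA} : Finset G) ×ˢ ({1, zB} : Finset G)).image fun q => q.1 * q.2 := by
      intro e he
      obtain ⟨a, ha, b, hb, rfl⟩ := hmem e (hE he)
      have h2 : a * a * (b * b) = 1 := by
        have h3 := hE2 _ he
        rw [Commute.mul_mul_mul_comm (hcomm a ha b hb).symm] at h3
        exact h3
      have ha2 : a * a = 1 := hdis _ (mul_mem ha ha)
        (by rw [eq_inv_of_mul_eq_one_left h2]; exact inv_mem (mul_mem hb hb))
      rw [ha2, one_mul] at h2
      rw [Finset.coe_image, Set.mem_image]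
      refine ⟨(a, b), ?_, rfl⟩
      simp only [Finset.coe_product, Set.mem_prod, Finset.coe_insert, Finset.coe_singleton,
        Set.mem_insert_iff, Set.mem_singleton_iff]
      exact ⟨hzA a ha ha2, hzB b hb h2⟩
    have hle := Set.ncard_le_ncard hsub (Finset.finite_toSet _)
    rw [Set.ncard_coe_finset, ← Nat.card_coe_set_eq] at hle
    refine hle.trans (Finset.card_image_le.trans ?_)
    rw [Finset.card_product]
    exact Nat.mul_le_mul (Finset.card_insert_le _ _) (Finset.card_insert_le _ _)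

/-- If all nontrivial elements of an order-four group `B` have the same centraliser `E` in a
normalised 2-group `W`, and the types allow, then `W = E`. -/
theorem eq_of_common_centralizer {P W B E : Subgroup G} (hP : IsPGroup 2 P) (hWP : W ≤ P) (hBP : B ≤ P)
    (hEW : E ≤ W) (hBW : B ≤ normalizer (W : Set G))
    (hEB : ∀ e ∈ E, ∀ b ∈ B, e * b = b * e)
    (hE : ∀ b ∈ B, b ≠ 1 → ∀ w ∈ W, w * b = b * w → w ∈ E)
    (hB4 : Nat.card B = 4) (hBc : ∀ b ∈ B, ∀ b' ∈ B, b * b' = b' * b)
    (htype : ((∃ b ∈ B, b * b ≠ 1) ∧ ∀ e ∈ E, e * e = 1) ∨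
      ((∀ b ∈ B, b * b = 1) ∧ ∃ z : G, ∀ e ∈ E, e * e = 1 → e = 1 ∨ e = z)) : W = E := by
  classical
  haveI : Fact (Nat.Prime 2) := ⟨Nat.prime_two⟩
  by_contra hne
  set W1 := W ⊓ normalizer (E : Set G)
  have hBE : B ≤ normalizer (E : Set G) := fun b hb => centralizer_le_normalizer _
    (mem_centralizer_iff.2 fun e he => hEB e he b hb)
  have hBW1 : B ≤ normalizer (W1 : Set G) := by
    intro b hb
    rw [mem_normalizer_iff]
    intro y
    exact and_congr ((mem_normalizer_iff.1 (hBW hb)) y)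
      ⟨fun h => (normalizer (E : Set G)).mul_mem ((normalizer (E : Set G)).mul_mem (hBE hb) h)
          ((normalizer (E : Set G)).inv_mem (hBE hb)), fun h => by
        have := (normalizer (E : Set G)).mul_mem ((normalizer (E : Set G)).mul_mem
          ((normalizer (E : Set G)).inv_mem (hBE hb)) h) (hBE hb)
        simpa [mul_assoc] using this⟩
  set M := W1 ⊔ B
  have hMP : M ≤ P := sup_le (inf_le_left.trans hWP) hBP
  have hMp : IsPGroup 2 M := hP.to_le hMP
  have hEW1 : E ≤ W1 := le_inf hEW le_normalizer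
  have hEM : M ≤ normalizer (E : Set G) := sup_le inf_le_right hBE
  have hWM : M ≤ normalizer (W1 : Set G) := sup_le le_normalizer hBW1
  haveI hEn : (E.subgroupOf M).Normal := normal_subgroupOf_of_le_normalizer hEM
  haveI hWn : (W1.subgroupOf M).Normal := normal_subgroupOf_of_le_normalizer hWM
  set π := QuotientGroup.mk' (E.subgroupOf M)
  haveI : ((W1.subgroupOf M).map π).Normal := hWn.map _ (QuotientGroup.mk'_surjective _)
  have hW1ne : (W1.subgroupOf M).map π ≠ ⊥ := by
    rw [Ne, Subgroup.map_eq_bot_iff, QuotientGroup.ker_mk']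
    intro h
    obtain ⟨n, hn, hnE, hnn⟩ := exists_normalizer_notMem (hP.to_le hWP) hEW (Ne.symm hne)
    exact hnE (mem_subgroupOf.1 (h (show (⟨n, mem_sup_left ⟨hn, hnn⟩⟩ : M) ∈ W1.subgroupOf M from ⟨hn, hnn⟩)))
  have hmeet := CfsgLib.PGroups.inf_center_ne_bot (hMp.to_quotient (E.subgroupOf M)) hW1ne
  obtain ⟨⟨v, ⟨w, hw, rfl⟩, hcen⟩, hv⟩ := Subgroup.ne_bot_iff_exists_ne_one.1 hmeet
  have hwE : (w : G) ∉ E := fun h => hv (Subtype.ext ((QuotientGroup.eq_one_iff _).2 h))
  have hwW : (w : G) ∈ W := hw.1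
  set d : G → G := fun b => (w : G)⁻¹ * b * (w : G) * b⁻¹ with hd
  have hdE : ∀ b ∈ B, d b ∈ E := by
    intro b hb
    have hh := Subgroup.mem_center_iff.1 hcen (π ⟨b, mem_sup_right hb⟩)
    rw [← map_mul, ← map_mul] at hh
    have h1 : π (w⁻¹ * ⟨b, mem_sup_right hb⟩ * w * (⟨b, mem_sup_right hb⟩ : M)⁻¹) = 1 := by
      rw [map_mul, mul_assoc, map_mul, hh, map_inv, map_mul, map_inv]
      group
    exact mem_subgroupOf.1 ((QuotientGroup.eq_one_iff (N := E.subgroupOf M) _).1 h1)
  have hdb : ∀ b, d b * b = (w : G)⁻¹ * b * (w : G) := fun b => by simp [hd]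
  have hconv : ∀ b ∈ B, b ≠ 1 → (w : G)⁻¹ * b * (w : G) ≠ b := fun b hb hb1 h => hwE (hE b hb hb1 w hwW (by
    calc (w : G) * b = (w : G) * ((w : G)⁻¹ * b * (w : G)) := by rw [h]
      _ = b * (w : G) := by group))
  have hsq : ∀ b ∈ B, (w : G)⁻¹ * (b * b) * (w : G) = d b * d b * (b * b) := fun b hb => by
    calc (w : G)⁻¹ * (b * b) * (w : G) = (d b * b) * (d b * b) := by rw [hdb]; group
      _ = _ := Commute.mul_mul_mul_comm (hEB _ (hdE b hb) b hb).symm _ _
  rcases htype with ⟨⟨b, hb, hb2⟩, hE2⟩ | ⟨hB2, z, hz⟩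
  · exact hconv _ (mul_mem hb hb) hb2 (by rw [hsq b hb, hE2 _ (hdE b hb), one_mul])
  · have hdz : ∀ b ∈ B, b ≠ 1 → d b = z := fun b hb hb1 => by
      refine (hz _ (hdE b hb) ?_).resolve_left fun h => hconv b hb hb1 (by rw [← hdb, h, one_mul])
      have h := hsq b hb
      rw [hB2 b hb, mul_one, inv_mul_cancel, mul_one] at h
      exact h.symm
    obtain ⟨b1, hb1, hb11⟩ : ∃ b ∈ B, b ≠ 1 := by
      by_contra h
      push Not at h
      rw [(Subgroup.eq_bot_iff_forall _).2 h, Subgroup.card_bot] at hB4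
      omega
    obtain ⟨b2, hb2, hb21, hb2n⟩ : ∃ b ∈ B, b ≠ 1 ∧ b ≠ b1 := by
      by_contra h
      push Not at h
      have hle : (B : Set G).ncard ≤ ({1, b1} : Set G).ncard :=
        Set.ncard_le_ncard (fun b hb => by
          by_cases e : b = 1
          · exact Or.inl e
          · exact Or.inr (h b hb e)) (Set.toFinite _)
      rw [← Nat.card_coe_set_eq] at hle
      have h2 : ({1, b1} : Set G).ncard ≤ 2 := (Set.ncard_insert_le _ _).trans (by rw [Set.ncard_singleton])
      have : Nat.card B ≤ 2 := hle.trans h2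
      omega
    have h12 : b1 * b2 ≠ 1 := fun e => hb2n (by
      rw [eq_inv_of_mul_eq_one_right e, inv_eq_of_mul_eq_one_right (hB2 b1 hb1)])
    refine hconv _ (mul_mem hb1 hb2) h12 ?_
    have hz2 : z * z = 1 := by
      have h := hsq b1 hb1
      rw [hB2 b1 hb1, mul_one, inv_mul_cancel, mul_one, hdz b1 hb1 hb11] at h
      exact h.symm
    calc (w : G)⁻¹ * (b1 * b2) * (w : G) = (d b1 * b1) * (d b2 * b2) := by rw [hdb, hdb]; group
      _ = d b1 * d b2 * (b1 * b2) := Commute.mul_mul_mul_comm (hEB _ (hdE b2 hb2) b1 hb1).symm _ _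
      _ = b1 * b2 := by rw [hdz b1 hb1 hb11, hdz b2 hb2 hb21, hz2, one_mul]

/-- Sectional rank from the order, for a non-abelian group of order at most `32`. -/
theorem rank_of_small {P : Subgroup G} (hP : IsPGroup 2 P) (h32 : Nat.card P ≤ 32) {x : G} (hxP : x ∈ P)
    (hC : Nat.card (P ⊓ centralizer ({x} : Set G) : Subgroup G) ≤ 16) : Cfsg.SectionalPRankLE 2 4 P := by
  classical
  haveI : Fact (Nat.Prime 2) := ⟨Nat.prime_two⟩
  intro H N _ A hAc hA2
  by_contra h
  push Not at h
  obtain ⟨k, hk⟩ := IsPGroup.iff_card.1 (((hP.to_subgroup H).to_quotient N).to_subgroup A)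
  have h5 : 5 ≤ k := by
    by_contra h'
    rw [hk] at h
    have := Nat.pow_le_pow_right (show 1 ≤ 2 by norm_num) (show k ≤ 4 by omega)
    omega
  have hA32 : 32 ≤ Nat.card A := by
    rw [hk]; calc 32 = 2 ^ 5 := by norm_num
      _ ≤ _ := Nat.pow_le_pow_right (by norm_num) h5
  have h1 : Nat.card A ≤ Nat.card (H ⧸ N) := Subgroup.card_le_card_group _
  have h2 := Subgroup.card_eq_card_quotient_mul_card_subgroup N
  have h3 : Nat.card H ≤ Nat.card P := Subgroup.card_le_card_group _
  have hN1 : Nat.card N = 1 := by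
    have hpos : 0 < Nat.card N := Nat.card_pos
    by_contra h'
    have : 2 * 32 ≤ Nat.card (H ⧸ N) * Nat.card N := by
      rw [mul_comm 2 32]; exact Nat.mul_le_mul (hA32.trans h1) (by omega)
    omega
  rw [hN1, mul_one] at h2
  have hH : H = ⊤ := Subgroup.eq_top_of_le_card _ (by omega)
  have hA : A = ⊤ := Subgroup.eq_top_of_le_card _ (by omega)
  have hle : P ≤ P ⊓ centralizer ({x} : Set G) := fun y hy => ⟨hy, mem_centralizer_singleton_iff.2 (by
    have hyH : (⟨y, hy⟩ : P) ∈ H := hH ▸ Subgroup.mem_top _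
    have hxH : (⟨x, hxP⟩ : P) ∈ H := hH ▸ Subgroup.mem_top _
    have hinj : Function.Injective (QuotientGroup.mk' N) := by
      rw [← MonoidHom.ker_eq_bot_iff, QuotientGroup.ker_mk']
      exact Subgroup.card_eq_one.1 hN1
    have hc := congrArg Subtype.val (hAc.is_comm.comm
      (⟨QuotientGroup.mk' N ⟨_, hyH⟩, hA ▸ Subgroup.mem_top _⟩ : A)
      ⟨QuotientGroup.mk' N ⟨_, hxH⟩, hA ▸ Subgroup.mem_top _⟩)
    exact congrArg (fun u : H => ((u : P) : G)) (hinj ((map_mul _ _ _).trans (hc.trans (map_mul _ _ _).symm))))⟩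
  have := Subgroup.card_le_of_le hle
  omega

/-- **The order-four automorphism group.** `W` is normalised by `B` of order four; all nontrivial
elements of `B` have centraliser `E` of order at most four in `W`. -/
theorem rank_of_sixteen {P W B E : Subgroup G} (hP : IsPGroup 2 P) (hWP : W ≤ P) (hBP : B ≤ P)
    (hEW : E ≤ W) (hBW : B ≤ normalizer (W : Set G)) (hdis : ∀ w ∈ W, w ∈ B → w = 1)
    (hEB : ∀ e ∈ E, ∀ b ∈ B, e * b = b * e)
    (hE : ∀ b ∈ B, b ≠ 1 → ∀ w ∈ W, w * b = b * w → w ∈ E)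
    (hE4 : Nat.card E ≤ 4) (hB4 : Nat.card B = 4) (hBc : ∀ b ∈ B, ∀ b' ∈ B, b * b' = b' * b)
    (h16 : ∀ b ∈ B, orderOf b = 2 → Nat.card (P ⊓ centralizer ({b} : Set G) : Subgroup G) ≤ 16)
    (hPW : Nat.card P ≤ 8 * Nat.card W) : Cfsg.SectionalPRankLE 2 4 P := by
  haveI : Fact (Nat.Prime 2) := ⟨Nat.prime_two⟩
  obtain ⟨x, hxB, hx⟩ : ∃ x ∈ B, orderOf x = 2 := by
    obtain ⟨x, hx⟩ := exists_prime_orderOf_dvd_card' (G := B) 2 (by rw [hB4]; norm_num)
    exact ⟨x, x.2, by rw [Subgroup.orderOf_coe, hx]⟩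
  have hfin : W = E → Cfsg.SectionalPRankLE 2 4 P := fun h =>
    rank_of_small hP (hPW.trans (by rw [h]; omega)) (hBP hxB) (h16 x hxB hx)
  have hBp := hP.to_le hBP
  rcases four_cases E hE4 (hP.to_le (hEW.trans hWP)) with ⟨hE4', hE2⟩ | hE1
  · by_cases hB2 : ∀ b ∈ B, b * b = 1
    · exact rank_of_product hP (hEW.trans hWP) hBP hE4' hB4 hEB (fun a ha => hdis a (hEW ha)) hBc h16
        ⟨fun _ => hB2, fun _ => hE2⟩
    · exact hfin (eq_of_common_centralizer hP hWP hBP hEW hBW hEB hE hB4 hBc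
        (Or.inl ⟨by push Not at hB2; exact hB2, hE2⟩))
  · by_cases hB2 : ∀ b ∈ B, b * b = 1
    · exact hfin (eq_of_common_centralizer hP hWP hBP hEW hBW hEB hE hB4 hBc (Or.inr ⟨hB2, hE1⟩))
    · by_cases hE2 : ∀ e ∈ E, e * e = 1
      · exact hfin (eq_of_common_centralizer hP hWP hBP hEW hBW hEB hE hB4 hBc
          (Or.inl ⟨by push Not at hB2; exact hB2, hE2⟩))
      · refine rank_of_product hP (hEW.trans hWP) hBP ?_ hB4 hEB (fun a ha => hdis a (hEW ha)) hBc h16
          (iff_of_false hE2 hB2)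
        push Not at hE2
        obtain ⟨c, hc, hc2⟩ := hE2
        obtain ⟨k, hk⟩ := IsPGroup.iff_card.1 (hP.to_le (hEW.trans hWP))
        rcases k with _ | _ | _ | k
        · exfalso
          rw [Subgroup.card_eq_one.1 hk, Subgroup.mem_bot] at hc
          rw [hc, one_mul] at hc2; exact hc2 rfl
        · exfalso
          refine hc2 ?_
          have := congrArg Subtype.val (pow_card_eq_one' (x := (⟨c, hc⟩ : E)))
          rw [hk] at this
          simpa [pow_two] using this
        · rw [hk]; norm_num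
        · exfalso
          rw [hk] at hE4
          have := Nat.pow_le_pow_right (show 1 ≤ 2 by norm_num) (show 3 ≤ k + 1 + 1 + 1 by omega)
          omega

end CfsgLib.Fixity
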