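import Cfsg.Prelude.Def_Transfer
import Cfsg.Agent.Lib.Fixity.NineAut
import Cfsg.Agent.Lib.Fixity.Config
import Cfsg.Agent.Lib.Transfer.MaximalClass
import Cfsg.Agent.Lib.PGroups.MaxClassThree
import Cfsg.Agent.Lib.LocalEven.YoshidaWreath

/-!
# A Sylow 3-subgroup with an element of small centraliser and no inverting 2-element

If a perfect group has a Sylow 3-subgroup `P` of order at least 27 with an element `x` of order 3
such that `|C_P(x)| ≤ 9` and no 2-element normalising `P` inverts `x`, then `P` is extraspecial of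
exponent 3 and order 27 or a Sylow 3-subgroup of `Sym(9)`.
-/

set_option autoImplicit false

namespace CfsgLib.Fixity.ThreeSylow

open Subgroup
open scoped commutatorElement

variable {G : Type*} [Group G] [Finite G]

/-- Three disjoint 3-cycles. -/
def cycles : (Fin 3 → Multiplicative (ZMod 3)) →* Equiv.Perm (Fin 3 × ZMod 3) where
  toFun f := Equiv.prodCongrRight fun i => Equiv.addLeft (f i).toAdd
  map_one' := Equiv.ext fun a => Prod.ext rfl (zero_add _)
  map_mul' f g := Equiv.ext fun a => Prod.ext rfl (add_assoc _ _ _)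

theorem cube_eq_one : ∀ x : Multiplicative (ZMod 3), x ^ 3 = 1 := by decide

theorem cycles_injective : Function.Injective cycles := by
  intro f g h
  funext i
  have := congrArg Prod.snd (Equiv.congr_fun h (i, 0))
  simpa [cycles] using this

theorem exists_elementary_le (Q : Sylow 3 (Equiv.Perm (Fin (3 ^ 2)))) :
    ∃ A : Subgroup (Equiv.Perm (Fin (3 ^ 2))), A ≤ (Q : Subgroup _) ∧ Nat.card A = 27 ∧
      (∀ a ∈ A, a ^ 3 = 1) ∧ ∀ a ∈ A, ∀ b ∈ A, a * b = b * a := by
  haveI : Fact (Nat.Prime 3) := ⟨Nat.prime_three⟩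
  let e : Equiv.Perm (Fin 3 × ZMod 3) ≃* Equiv.Perm (Fin (3 ^ 2)) :=
    Equiv.permCongrHom (Fintype.equivFinOfCardEq (by simp [Fintype.card_prod]))
  set ψ := e.toMonoidHom.comp cycles
  have hψ : Function.Injective ψ := e.injective.comp cycles_injective
  have hcard : Nat.card ψ.range = 27 := by
    rw [← Nat.card_congr (MonoidHom.ofInjective hψ).toEquiv, Nat.card_fun]
    simp
  have hexp : ∀ f : Fin 3 → Multiplicative (ZMod 3), f ^ 3 = 1 := by
    intro f
    funext i
    show (f i) ^ 3 = 1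
    exact cube_eq_one (f i)
  have hp : IsPGroup 3 ψ.range := IsPGroup.of_card (n := 3) (by rw [hcard]; norm_num)
  obtain ⟨R, hR⟩ := hp.exists_le_sylow
  obtain ⟨g, hg⟩ := MulAction.exists_smul_eq (Equiv.Perm (Fin (3 ^ 2))) R Q
  refine ⟨ψ.range.map (MulAut.conj g).toMonoidHom, ?_, ?_, ?_, ?_⟩
  · rw [← hg]
    rintro _ ⟨a, ha, rfl⟩
    exact Subgroup.smul_mem_pointwise_smul a (MulAut.conj g) _ (hR ha)
  · rw [card_map_of_injective (MulAut.conj g).injective, hcard]
  · rintro _ ⟨_, ⟨f, rfl⟩, rfl⟩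
    rw [← map_pow, ← map_pow, hexp, map_one, map_one]
  · rintro _ ⟨_, ⟨f, rfl⟩, rfl⟩ _ ⟨_, ⟨f', rfl⟩, rfl⟩
    rw [← map_mul, ← map_mul, ← map_mul, ← map_mul, mul_comm]

theorem card_sylow_nine (Q : Sylow 3 (Equiv.Perm (Fin (3 ^ 2)))) :
    Nat.card (Q : Subgroup (Equiv.Perm (Fin (3 ^ 2)))) = 81 := by
  haveI : Fact (Nat.Prime 3) := ⟨Nat.prime_three⟩
  rw [Q.card_eq_multiplicity, Nat.card_eq_fintype_card, Fintype.card_perm, Fintype.card_fin,
    Nat.factorization_def _ Nat.prime_three, CfsgLib.LocalEven.Yoshida.padicValNat_factorial_sq]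
  norm_num

/-- A map onto a Sylow 3-subgroup of `Sym(9)` from a maximal class group is an isomorphism. -/
theorem equiv_of_surjective {S : Type*} [Group S] [Finite S] {n : ℕ}
    (D : CfsgLib.ClassSizes.MaxClass.Data S 3 n) (Q : Sylow 3 (Equiv.Perm (Fin (3 ^ 2))))
    (f : S →* (Q : Subgroup (Equiv.Perm (Fin (3 ^ 2))))) (hf : Function.Surjective f) :
    Nonempty (S ≃* (Q : Subgroup (Equiv.Perm (Fin (3 ^ 2))))) := by
  classical
  have h81 := card_sylow_nine Q
  have hle := Nat.card_le_card_of_surjective f hf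
  rw [h81, D.hcard] at hle
  have hn : 4 ≤ n := by
    by_contra h
    have := Nat.pow_le_pow_right (show 1 ≤ 3 by norm_num) (show n ≤ 3 by omega)
    omega
  rcases hn.eq_or_lt with h4 | h5
  · exact ⟨MulEquiv.ofBijective f ((Nat.bijective_iff_surjective_and_card f).2
      ⟨hf, by rw [D.hcard, h81, ← h4]; norm_num⟩)⟩
  exfalso
  obtain ⟨A, hAQ, hA27, hAexp, hAcomm⟩ := exists_elementary_le Q
  set φ : S →* Equiv.Perm (Fin (3 ^ 2)) := (Q : Subgroup _).subtype.comp f
  obtain ⟨T, hT2, hTgen⟩ := CfsgLib.PGroups.MaxClassThree.gen_two_of_five_le D h5 (A.comap φ)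
  have hmap : (A.comap φ).map φ = A := by
    refine le_antisymm (Subgroup.map_comap_le _ _) fun a ha => ?_
    obtain ⟨s, hs⟩ := hf ⟨a, hAQ ha⟩
    have hs' : φ s = a := congrArg Subtype.val hs
    exact ⟨s, by show φ s ∈ A; rw [hs']; exact ha, hs'⟩
  rw [← hTgen, MonoidHom.map_closure] at hmap
  obtain ⟨a, b, hab⟩ : ∃ a b : Equiv.Perm (Fin (3 ^ 2)), (a ∈ A ∧ b ∈ A) ∧ φ '' (T : Set S) ⊆ {1, a, b} := by
    have hsub : φ '' (T : Set S) ⊆ A := fun y hy => hmap.le (Subgroup.subset_closure hy)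
    have h2 : (T.image φ).card ≤ 2 := Finset.card_image_le.trans hT2
    rcases Nat.lt_or_ge (T.image φ).card 2 with h | h
    · rcases (T.image φ).eq_empty_or_nonempty with he | ⟨a, ha⟩
      · exact ⟨1, 1, ⟨one_mem _, one_mem _⟩, fun y hy => by
          rw [← Finset.coe_image, he] at hy; simp at hy⟩
      · refine ⟨a, a, ⟨hsub (by rw [← Finset.coe_image]; exact ha), hsub (by rw [← Finset.coe_image]; exact ha)⟩,
          fun y hy => ?_⟩
        rw [← Finset.coe_image] at hy
        exact Or.inr (Or.inl ((Finset.card_le_one.1 (by omega : (T.image φ).card ≤ 1)) y hy a ha))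
    · obtain ⟨a, b, -, hab⟩ := Finset.card_eq_two.1 (le_antisymm h2 h)
      refine ⟨a, b, ⟨hsub (by rw [← Finset.coe_image, hab]; simp), hsub (by rw [← Finset.coe_image, hab]; simp)⟩,
        fun y hy => ?_⟩
      rw [← Finset.coe_image, hab] at hy
      simp only [Finset.coe_insert, Finset.coe_singleton, Set.mem_insert_iff, Set.mem_singleton_iff] at hy
      rcases hy with rfl | rfl
      · exact Or.inr (Or.inl rfl)
      · exact Or.inr (Or.inr rfl)
  have hle9 : A ≤ zpowers a ⊔ zpowers b := by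
    rw [← hmap, closure_le]
    intro y hy
    rcases hab.2 hy with rfl | rfl | rfl
    · exact one_mem _
    · exact mem_sup_left (mem_zpowers _)
    · exact mem_sup_right (mem_zpowers _)
  have hsurj : ∀ y ∈ zpowers a ⊔ zpowers b, ∃ u : zpowers a × zpowers b, (u.1 : Equiv.Perm (Fin (3 ^ 2))) * u.2 = y := by
    intro y hy
    have hN : zpowers b ≤ normalizer (zpowers a : Set _) := by
      refine le_trans ?_ (centralizer_le_normalizer _)
      rw [Subgroup.zpowers_le, Subgroup.mem_centralizer_iff]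
      intro c hc
      obtain ⟨k, rfl⟩ := mem_zpowers_iff.1 hc
      exact (Commute.zpow_left (hAcomm a hab.1.1 b hab.1.2) k).eq
    rw [← SetLike.mem_coe, Subgroup.coe_mul_of_right_le_normalizer_left _ _ hN] at hy
    obtain ⟨u, hu, v, hv, rfl⟩ := hy
    exact ⟨(⟨u, hu⟩, ⟨v, hv⟩), rfl⟩
  have h9 : Nat.card A ≤ 9 := by
    refine (Subgroup.card_le_of_le hle9).trans ?_
    choose u hu using hsurj
    refine le_trans (Nat.card_le_card_of_injective (fun y : ↥(zpowers a ⊔ zpowers b) => u y y.2) ?_) ?_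
    · intro y y' h
      apply Subtype.ext
      rw [← hu y y.2, ← hu y' y'.2]
      exact congrArg (fun q : zpowers a × zpowers b => (q.1 : Equiv.Perm (Fin (3 ^ 2))) * q.2) h
    · rw [Nat.card_prod, Nat.card_zpowers, Nat.card_zpowers]
      exact Nat.mul_le_mul (orderOf_le_of_pow_eq_one (by norm_num : 0 < 3) (hAexp a hab.1.1))
        (orderOf_le_of_pow_eq_one (by norm_num : 0 < 3) (hAexp b hab.1.2))
  omega

/-- Conjugation: an odd power of an element inverting `x` inverts `x`. -/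
theorem conj_pow_odd {e x : G} (h : e * x * e⁻¹ = x⁻¹) :
    ∀ {m : ℕ}, Odd m → e ^ m * x * (e ^ m)⁻¹ = x⁻¹ := by
  have h' : e * x⁻¹ * e⁻¹ = x := by
    calc e * x⁻¹ * e⁻¹ = (e * x * e⁻¹)⁻¹ := by group
      _ = x := by rw [h, inv_inv]
  have key : ∀ i : ℕ, e ^ (2 * i + 1) * x * (e ^ (2 * i + 1))⁻¹ = x⁻¹ := by
    intro i
    induction i with
    | zero => simpa using h
    | succ i ih =>
      calc e ^ (2 * (i + 1) + 1) * x * (e ^ (2 * (i + 1) + 1))⁻¹
          = e * (e * (e ^ (2 * i + 1) * x * (e ^ (2 * i + 1))⁻¹) * e⁻¹) * e⁻¹ := by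
            rw [show 2 * (i + 1) + 1 = 2 * i + 1 + 1 + 1 by ring, pow_succ' e, pow_succ' e (2 * i + 1)]
            group
        _ = x⁻¹ := by rw [ih, h', h]
  rintro m ⟨i, rfl⟩
  exact key i

/-- The 2-part of an inverting element inverts. -/
theorem exists_two_inverting {N : Subgroup G} {e x : G} (he : e ∈ N) (h : e * x * e⁻¹ = x⁻¹) :
    ∃ f ∈ N, (∃ k, f ^ 2 ^ k = 1) ∧ f * x * f⁻¹ = x⁻¹ := by
  obtain ⟨k, m, hm, hkm⟩ := Nat.exists_eq_two_pow_mul_odd (orderOf_pos e).ne'
  exact ⟨e ^ m, pow_mem he m, ⟨k, by rw [← pow_mul, mul_comm, ← hkm, pow_orderOf_eq_one]⟩,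
    conj_pow_odd h hm⟩

/-- The main lemma. -/
theorem shapes (hperf : _root_.commutator G = ⊤) (P : Sylow 3 G)
    (h27 : 27 ≤ Nat.card (P : Subgroup G)) {x : G} (hxP : x ∈ (P : Subgroup G)) (hx : orderOf x = 3)
    (hC : Nat.card ((P : Subgroup G) ⊓ centralizer ({x} : Set G) : Subgroup G) ≤ 9)
    (hinv : ∀ e : G, (∃ k, e ^ 2 ^ k = 1) → e ∈ normalizer ((P : Subgroup G) : Set G) →
      e * x * e⁻¹ = x⁻¹ → False) :
    (Nat.card (P : Subgroup G) = 27 ∧ Cfsg.IsExtraspecial 3 (P : Subgroup G) ∧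
        ∀ y ∈ (P : Subgroup G), y ^ 3 = 1) ∨
      ∃ T : Sylow 3 (Equiv.Perm (Fin 9)),
        Nonempty ((P : Subgroup G) ≃* (T : Subgroup (Equiv.Perm (Fin 9)))) := by
  classical
  haveI : Fact (Nat.Prime 3) := ⟨Nat.prime_three⟩
  set Q := (P : Subgroup G) with hQdef
  have hQ : IsPGroup 3 Q := P.isPGroup'
  haveI := hQ.isNilpotent
  set x' : Q := ⟨x, hxP⟩ with hx'def
  have hCeq : Nat.card (centralizer ({x'} : Set Q)) = Nat.card (Q ⊓ centralizer ({x} : Set G) : Subgroup G) :=
    Nat.card_congr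
      ⟨fun u => ⟨(u.1 : G), u.1.2,
          mem_centralizer_singleton_iff.2 (congrArg Subtype.val (mem_centralizer_singleton_iff.1 u.2))⟩,
        fun u => ⟨⟨u.1, u.2.1⟩, mem_centralizer_singleton_iff.2
          (Subtype.ext (mem_centralizer_singleton_iff.1 u.2.2))⟩, fun u => rfl, fun u => rfl⟩
  have hncen : ¬ ∀ u ∈ Q, u * x = x * u := fun h => by
    have hle : Q ≤ Q ⊓ centralizer ({x} : Set G) :=
      fun u hu => ⟨hu, mem_centralizer_singleton_iff.2 (h u hu)⟩
    have := Subgroup.card_le_of_le hle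
    omega
  -- the centraliser has order 9
  have hC9 : Nat.card (centralizer ({x'} : Set Q)) = 3 ^ 2 := by
    obtain ⟨j, hj⟩ := IsPGroup.iff_card.1 (hQ.to_subgroup (centralizer ({x'} : Set Q)))
    have hQne : Q ≠ ⊥ := fun h => by rw [h, Subgroup.card_bot] at h27; omega
    obtain ⟨z, hzQ, hz3, hzc⟩ := exists_central hQ le_rfl hQne Subgroup.le_normalizer
    have hzC : (⟨z, hzQ⟩ : Q) ∈ centralizer ({x'} : Set Q) :=
      mem_centralizer_singleton_iff.2 (Subtype.ext (hzc x hxP).symm)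
    have hxC : x' ∈ centralizer ({x'} : Set Q) := mem_centralizer_singleton_iff.2 rfl
    have h3 : 3 < Nat.card (centralizer ({x'} : Set Q)) := by
      have hsub : zpowers x' ≤ centralizer ({x'} : Set Q) := zpowers_le.2 hxC
      have hcard : Nat.card (zpowers x') = 3 := by rw [Nat.card_zpowers, ← Subgroup.orderOf_coe, hx]
      by_contra hle
      push Not at hle
      have heq := Subgroup.eq_of_le_of_card_ge hsub (by rw [hcard]; exact hle)
      have hzx : zpowers (⟨z, hzQ⟩ : Q) = zpowers x' := by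
        refine Subgroup.eq_of_le_of_card_ge (zpowers_le.2 (heq ▸ hzC)) ?_
        rw [hcard, Nat.card_zpowers, ← Subgroup.orderOf_coe, hz3]
      refine hncen fun u hu => ?_
      obtain ⟨i, hi⟩ := mem_zpowers_iff.1 (hzx ▸ mem_zpowers x' : x' ∈ zpowers (⟨z, hzQ⟩ : Q))
      have hi' : z ^ i = x := congrArg Subtype.val hi
      rw [← hi']
      exact (Commute.zpow_right (hzc u hu) i).eq
    rw [hj] at h3
    rw [hCeq] at hj
    rw [hj] at hC
    rw [hCeq, hj]
    congr 1
    have : j ≤ 2 := by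
      by_contra h
      have := Nat.pow_le_pow_right (show 1 ≤ 3 by norm_num) (show 3 ≤ j by omega)
      omega
    rcases j with _ | _ | j
    · omega
    · omega
    · omega
  have hCcomm := IsPGroup.commutative_of_card_eq_prime_sq hC9
  have hCC : centralizer ((centralizer ({x'} : Set Q) : Subgroup Q) : Set Q) =
      centralizer ({x'} : Set Q) := by
    refine le_antisymm (fun u hu => mem_centralizer_singleton_iff.2
      (mem_centralizer_iff.1 hu x' (mem_centralizer_singleton_iff.2 rfl)).symm) fun u hu => ?_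
    exact mem_centralizer_iff.2 fun v hv =>
      congrArg Subtype.val (hCcomm (⟨v, hv⟩ : centralizer ({x'} : Set Q)) ⟨u, hu⟩)
  obtain ⟨n, hn⟩ := IsPGroup.iff_card.1 hQ
  have hn3 : 3 ≤ n := by
    by_contra h
    have := Nat.pow_le_pow_right (show 1 ≤ 3 by norm_num) (show n ≤ 2 by omega)
    omega
  have D : CfsgLib.ClassSizes.MaxClass.Data Q 3 n := CfsgLib.ClassSizes.MaxClass.Data.of hn3 hn
    (CfsgLib.Transfer.class_eq_of_self_centralizing n Q hn _ hC9 hCC)
  have hfcomm : frattini Q = _root_.commutator Q := by rw [D.hfrat, Subgroup.top_lowerCentralSeries_one]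
  have hΦcard : Nat.card (frattini Q) = 3 ^ (n - 2) := by
    rw [D.hfrat, D.hser 1 le_rfl (by omega), show n - 1 - 1 = n - 2 by omega]
  by_cases hexp : n = 3 ∧ ∀ y ∈ Q, y ^ 3 = 1
  · obtain ⟨rfl, hexp⟩ := hexp
    refine Or.inl ⟨by rw [hn]; norm_num, ⟨⟨hQ, ?_⟩, ?_⟩, hexp⟩
    all_goals
      have hcen3 : Nat.card (Subgroup.center Q) = 3 := by
        obtain ⟨j, hj⟩ := IsPGroup.iff_card.1 (hQ.to_subgroup (Subgroup.center Q))
        haveI : Nontrivial Q := Finite.one_lt_card_iff_nontrivial.1 (by rw [hn]; norm_num)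
        have h1 : 1 < Nat.card (Subgroup.center Q) := by
          haveI := hQ.center_nontrivial
          exact Finite.one_lt_card
        have h2 : Nat.card (Subgroup.center Q) < 3 ^ 2 := by
          rw [← hC9]
          refine lt_of_le_of_ne (Subgroup.card_le_of_le (Subgroup.center_le_centralizer _)) fun e => ?_
          have hxc : x' ∈ Subgroup.center Q := by
            rw [Subgroup.eq_of_le_of_card_ge (Subgroup.center_le_centralizer _) e.ge]
            exact mem_centralizer_singleton_iff.2 rfl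
          exact hncen fun u hu => congrArg Subtype.val (Subgroup.mem_center_iff.1 hxc ⟨u, hu⟩)
        rw [hj] at h1 h2 ⊢
        rcases j with _ | _ | j
        · norm_num at h1
        · norm_num
        · exfalso
          have := Nat.pow_le_pow_right (show 1 ≤ 3 by norm_num) (show 2 ≤ j + 1 + 1 by omega)
          omega
    · have hfc : frattini Q = Subgroup.center Q := by
        have hne : frattini Q ≠ ⊥ := fun h => by rw [h, Subgroup.card_bot] at hΦcard; omega
        have hmeet := CfsgLib.PGroups.inf_center_ne_bot hQ hne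
        have hinf : frattini Q ⊓ Subgroup.center Q = frattini Q := by
          refine Subgroup.eq_of_le_of_card_ge inf_le_left ?_
          obtain ⟨j, hj⟩ := IsPGroup.iff_card.1 (hQ.to_subgroup (frattini Q ⊓ Subgroup.center Q))
          have hj0 : j ≠ 0 := fun h => hmeet (Subgroup.card_eq_one.1 (by rw [hj, h, pow_zero]))
          rw [hΦcard, hj]
          exact Nat.pow_le_pow_right (by norm_num) (by omega)
        refine Subgroup.eq_of_le_of_card_ge (hinf ▸ inf_le_right) ?_
        rw [hcen3, hΦcard]; norm_num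
      exact ⟨hfc, hfcomm ▸ hfc⟩
    · exact hcen3
  right
  -- either a wreath image, or the normaliser controls transfer
  by_cases hw : (P : Subgroup G) ⊓ _root_.commutator G = (P : Subgroup G) ⊓
      ⁅normalizer ((P : Subgroup G) : Set G), normalizer ((P : Subgroup G) : Set G)⁆
  swap
  · obtain ⟨W, f, hf⟩ := CfsgLib.LocalEven.Yoshida.exists_surjective_wreath P hw
    exact ⟨W, equiv_of_surjective D W f hf⟩
  exfalso
  rw [hperf, inf_top_eq] at hw
  set Φ := frattini Q with hΦdef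
  have hcomV : ∀ u v : Q ⧸ Φ, u * v = v * u := fun u v => by
    induction u using QuotientGroup.induction_on with | _ u => ?_
    induction v using QuotientGroup.induction_on with | _ v => ?_
    rw [← QuotientGroup.mk_mul, ← QuotientGroup.mk_mul, QuotientGroup.eq]
    have : ⁅v⁻¹, u⁻¹⁆ ∈ Φ :=
      CfsgLib.PGroups.commutator_le_frattini' hQ (commutator_mem_commutator (mem_top _) (mem_top _))
    simpa [commutatorElement_def, mul_assoc] using this
  letI : CommGroup (Q ⧸ Φ) := { (inferInstance : Group (Q ⧸ Φ)) with mul_comm := hcomV }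
  have hexpV : ∀ v : Q ⧸ Φ, v ^ 3 = 1 := fun v => by
    induction v using QuotientGroup.induction_on with | _ v => ?_
    rw [← QuotientGroup.mk_pow, QuotientGroup.eq_one_iff]
    exact CfsgLib.PGroups.pow_mem_frattini hQ v
  have hVcard : Nat.card (Q ⧸ Φ) = 9 := by
    have := Subgroup.card_eq_card_quotient_mul_card_subgroup Φ
    rw [hn, hΦcard] at this
    have e : 3 ^ n = 9 * 3 ^ (n - 2) := by
      rw [show (9 : ℕ) = 3 ^ 2 by norm_num, ← pow_add]; congr 1; omega
    rw [e] at this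
    exact (Nat.eq_of_mul_eq_mul_right (pow_pos (by norm_num : 0 < 3) _) this).symm
  set N := normalizer ((P : Subgroup G) : Set G) with hNdef
  let aut : N →* MulAut Q := (P : Subgroup G).normalizerMonoidHom
  have hmapΦ : ∀ a : MulAut Q, Φ.map (a : Q →* Q) = Φ := fun a =>
    Subgroup.characteristic_iff_map_eq.1 (inferInstance : (frattini Q).Characteristic) a
  let ψ : N →* MulAut (Q ⧸ Φ) := MonoidHom.mk'
    (fun m => QuotientGroup.congr Φ Φ (aut m) (hmapΦ (aut m))) (fun m m' => by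
      refine MulEquiv.ext fun v => ?_
      induction v using QuotientGroup.induction_on with | _ v => ?_
      show ((aut (m * m') v : Q) : Q ⧸ Φ) = ((aut m (aut m' v) : Q) : Q ⧸ Φ)
      rw [map_mul]; rfl)
  have hψ : ∀ (m : N) (v : Q), ψ m (v : Q ⧸ Φ) = ((aut m v : Q) : Q ⧸ Φ) := fun m v => rfl
  have haut : ∀ (m : N) (v : Q), ((aut m v : Q) : G) = (m : G) * v * (m : G)⁻¹ := fun m v => rfl
  have h8 : ∀ a ∈ ψ.range, (∀ b : MulAut (Q ⧸ Φ), b ^ 24 = 1) → a ^ 8 = 1 := by
    rintro _ ⟨m, rfl⟩ h24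
    rw [← map_pow]
    obtain ⟨i, j, hj, hij⟩ := Nat.exists_eq_pow_mul_and_not_dvd (orderOf_pos (m ^ 8)).ne' 3 (by norm_num)
    have h3 : ((m ^ 8) ^ j) ^ 3 ^ i = 1 := by rw [← pow_mul, mul_comm, ← hij, pow_orderOf_eq_one]
    obtain ⟨g, hg, hgP⟩ := exists_conj_mem P Subgroup.le_normalizer ((m ^ 8) ^ j : N).2
      ⟨i, by rw [← SubgroupClass.coe_pow, h3]; rfl⟩
    have hmem : (((m ^ 8) ^ j : N) : G) ∈ Q := (Subgroup.mem_normalizer_iff.1 hg _).2 hgP
    have hj1 : ψ (m ^ 8) ^ j = 1 := by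
      rw [← map_pow]
      refine MulEquiv.ext fun v => ?_
      induction v using QuotientGroup.induction_on with | _ v => ?_
      rw [hψ, MulAut.one_apply]
      have e : aut ((m ^ 8) ^ j) v = (⟨_, hmem⟩ : Q) * v * (⟨_, hmem⟩ : Q)⁻¹ := Subtype.ext (haut _ _)
      rw [e, QuotientGroup.mk_mul, QuotientGroup.mk_mul, QuotientGroup.mk_inv,
        mul_comm ((⟨_, hmem⟩ : Q) : Q ⧸ Φ), mul_inv_cancel_right]
    have h31 : ψ (m ^ 8) ^ 3 = 1 := by rw [map_pow, ← pow_mul]; exact h24 _
    have hg1 := pow_gcd_eq_one.2 ⟨hj1, h31⟩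
    rwa [Nat.Coprime.gcd_eq_one ((Nat.Prime.coprime_iff_not_dvd Nat.prime_three).2 hj).symm, pow_one] at hg1
  rcases NineAut.inverts_or_proper hexpV hVcard ψ.range h8 with ⟨_, ⟨m, rfl⟩, hm⟩ | ⟨M, hM, hmove⟩
  · -- an element inverting `x` modulo the Frattini subgroup
    have hφ : (aut m x' : Q) * x' ∈ Φ := by
      rw [← QuotientGroup.eq_one_iff, QuotientGroup.mk_mul, ← hψ, hm, inv_mul_cancel]
    set K := centralizer ({x'} : Set Q)
    have hfmem : ∀ u : Q, u * x' * u⁻¹ * x'⁻¹ ∈ Φ := fun u => by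
      have : ⁅u, x'⁆ ∈ Φ :=
        CfsgLib.PGroups.commutator_le_frattini' hQ (commutator_mem_commutator (mem_top _) (mem_top _))
      simpa [commutatorElement_def, mul_assoc] using this
    let f : Q ⧸ K → Φ := fun q => ⟨q.out * x' * q.out⁻¹ * x'⁻¹, hfmem _⟩
    have hfinj : Function.Injective f := fun a b hab => by
      have h1 : a.out * x' * a.out⁻¹ = b.out * x' * b.out⁻¹ :=
        mul_right_cancel (congrArg Subtype.val hab)
      rw [← QuotientGroup.out_eq' a, ← QuotientGroup.out_eq' b, QuotientGroup.eq]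
      refine mem_centralizer_singleton_iff.2 ?_
      calc a.out⁻¹ * b.out * x' = a.out⁻¹ * (b.out * x' * b.out⁻¹) * b.out := by group
        _ = a.out⁻¹ * (a.out * x' * a.out⁻¹) * b.out := by rw [h1]
        _ = x' * (a.out⁻¹ * b.out) := by group
    have hfbij : Function.Bijective f := by
      rw [Nat.bijective_iff_injective_and_card]
      refine ⟨hfinj, ?_⟩
      have h1 := Subgroup.card_eq_card_quotient_mul_card_subgroup K
      rw [hn, hC9] at h1
      rw [hΦcard]
      have e : 3 ^ n = 3 ^ (n - 2) * 3 ^ 2 := by rw [← pow_add]; congr 1; omega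
      rw [e] at h1
      exact (Nat.eq_of_mul_eq_mul_right (pow_pos (by norm_num : 0 < 3) _) h1).symm
    obtain ⟨q, hq⟩ := hfbij.2 ⟨x' * ((aut m x' : Q) * x')⁻¹ * x'⁻¹,
      (inferInstance : (frattini Q).Normal).conj_mem _ (inv_mem hφ) x'⟩
    have hu : q.out * x' * q.out⁻¹ = (aut m x' : Q)⁻¹ := by
      have := congrArg Subtype.val hq
      have h' : q.out * x' * q.out⁻¹ * x'⁻¹ = x' * ((aut m x' : Q) * x')⁻¹ * x'⁻¹ := this
      rw [mul_left_inj] at h'
      rw [h']
      group
    have hu' : (q.out : G) * x * (q.out : G)⁻¹ = ((m : G) * x * (m : G)⁻¹)⁻¹ :=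
      (congrArg Subtype.val hu).trans (congrArg (fun z : G => z⁻¹) (haut m x'))
    have he : ((q.out : G)⁻¹ * (m : G)) * x * ((q.out : G)⁻¹ * (m : G))⁻¹ = x⁻¹ := by
      calc ((q.out : G)⁻¹ * (m : G)) * x * ((q.out : G)⁻¹ * (m : G))⁻¹
          = (q.out : G)⁻¹ * (((m : G) * x * (m : G)⁻¹)⁻¹)⁻¹ * (q.out : G) := by group
        _ = x⁻¹ := by rw [← hu']; group
    obtain ⟨e, heN, hek, hex⟩ := exists_two_inverting (N := N)
      (mul_mem (inv_mem (Subgroup.le_normalizer q.out.2)) m.2) he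
    exact hinv e hek heN hex
  · -- everything is moved inside a proper subgroup
    set L := (M.comap (QuotientGroup.mk' Φ)).map Q.subtype
    have hf := CfsgLib.Transfer.commutator_inf_le_of_fusion (P.subtype Subgroup.le_normalizer)
      (L.subgroupOf N) (fun y hy g _ => by
        have hyQ : (y : G) ∈ Q := hy
        refine ⟨(⟨(y : G), hyQ⟩ : Q)⁻¹ * aut g⁻¹ ⟨y, hyQ⟩, ?_, ?_⟩
        · show QuotientGroup.mk' Φ _ ∈ M
          rw [map_mul, map_inv, mul_comm]
          exact hmove _ ⟨g⁻¹, rfl⟩ _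
        · show (y : G)⁻¹ * ((g⁻¹ : N) * (y : G) * ((g⁻¹ : N) : G)⁻¹) = (y : G)⁻¹ * ((g : G)⁻¹ * y * g)
          rw [InvMemClass.coe_inv, inv_inv])
    refine hM ((Subgroup.eq_top_iff' _).2 fun v => ?_)
    induction v using QuotientGroup.induction_on with | _ v => ?_
    have hv : (v : G) ∈ Q ⊓ ⁅N, N⁆ := hw ▸ v.2
    rw [← Subgroup.map_subtype_commutator] at hv
    obtain ⟨hvQ, k, hk, hkv⟩ := hv
    obtain ⟨w, hw1, hw2⟩ := Subgroup.mem_subgroupOf.1 (hf ⟨hk, by
      show (k : G) ∈ Q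
      rw [show (k : G) = (v : G) from hkv]; exact hvQ⟩)
    rw [show v = w from Subtype.ext ((hw2.trans hkv).symm)]
    exact hw1

end CfsgLib.Fixity.ThreeSylow
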