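import Cfsg.Agent.Lib.Fixity.Cases
import Cfsg.Agent.Lib.Fixity.PermOn
import Cfsg.Agent.Lib.Fixity.ThreeSylow

/-!
# Fixity four: the prime three

All point stabilisers have odd order and `3` divides their order.
-/

set_option autoImplicit false

namespace CfsgLib.Fixity

open MulAction

variable {G Ω : Type*} [Group G] [MulAction G Ω] [Finite G] [Finite Ω]

/-- An element of 2-power order in an odd point stabiliser is trivial. -/
theorem eq_one_of_two_power {e : G} {a : Ω} (hodd : Odd (Nat.card (stabilizer G a))) (hea : e • a = a)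
    {k : ℕ} (hk : e ^ 2 ^ k = 1) : e = 1 := by
  have h1 : orderOf e ∣ 2 ^ k := orderOf_dvd_of_pow_eq_one hk
  have h2 : orderOf e ∣ Nat.card (stabilizer G a) := by
    rw [← Subgroup.orderOf_mk _ (show e ∈ stabilizer G a from hea)]
    exact orderOf_dvd_natCard _
  have hco : Nat.Coprime (2 ^ k) (Nat.card (stabilizer G a)) :=
    Nat.Coprime.pow_left k (Nat.coprime_two_left.2 hodd)
  exact orderOf_eq_one_iff.1 (Nat.eq_one_of_dvd_coprimes hco h1 h2)

omit [Finite Ω] in
theorem le_nine_of_three_power {C : Subgroup G} (hC : IsPGroup 3 C) (h : Nat.card C ≤ 12) :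
    Nat.card C ≤ 9 := by
  haveI : Fact (Nat.Prime 3) := ⟨Nat.prime_three⟩
  obtain ⟨j, hj⟩ := IsPGroup.iff_card.1 hC
  rw [hj] at h ⊢
  have : j ≤ 2 := by
    by_contra hj3
    have := Nat.pow_le_pow_right (show 1 ≤ 3 by norm_num) (show 3 ≤ j by omega)
    omega
  calc 3 ^ j ≤ 3 ^ 2 := Nat.pow_le_pow_right (by norm_num) this
    _ = 9 := by norm_num

/-- The conclusion for a configuration at the prime three. -/
theorem three_of_config (hperf : commutator G = ⊤) (hs : Small G Ω)
    (hodd : ∀ a : Ω, Odd (Nat.card (stabilizer G a))) (P : Sylow 3 G) {T : Subgroup G} {F D : Set Ω}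
    (d : Config (P : Subgroup G) T F D) (hF1 : F.ncard ≤ 1) (hDF : (D \ F).ncard = 3)
    (hfix : F = ∅ → ∀ y ∈ (P : Subgroup G), y ≠ 1 → ∀ c : Ω, y • c = c → (fixedBy Ω y).ncard = 3) :
    (Nat.card (P : Subgroup G) = 9 ∧ ∀ x ∈ (P : Subgroup G), x ^ 3 = 1) ∨
      (Nat.card (P : Subgroup G) = 27 ∧ Cfsg.IsExtraspecial 3 (P : Subgroup G) ∧
        ∀ x ∈ (P : Subgroup G), x ^ 3 = 1) ∨
      ∃ T : Sylow 3 (Equiv.Perm (Fin 9)),
        Nonempty ((P : Subgroup G) ≃* (T : Subgroup (Equiv.Perm (Fin 9)))) := by
  classical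
  haveI : Fact (Nat.Prime 3) := ⟨Nat.prime_three⟩
  set Q := (P : Subgroup G) with hQdef
  have hQ : IsPGroup 3 Q := P.isPGroup'
  have hFD : F.ncard < D.ncard := by
    rw [← Set.ncard_sdiff_add_ncard_of_subset d.sub (Set.toFinite _), hDF]
    omega
  have hT3 : 3 ≤ Nat.card T := by
    obtain ⟨k, hk⟩ := IsPGroup.iff_card.1 (hQ.to_le d.le)
    rcases k with _ | k
    · exact absurd (Subgroup.card_eq_one.1 hk) d.ne_bot
    · rw [hk]; exact Nat.le_self_pow (by omega) 3
  -- a fixed point kills inverting 2-elements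
  have hinv : ∀ x ∈ Q, x ≠ 1 → ∀ c : Ω, x • c = c → c ∉ F → ∀ e : G, (∃ k, e ^ 2 ^ k = 1) →
      e ∈ Subgroup.normalizer (Q : Set G) → e * x * e⁻¹ = x⁻¹ → False := by
    intro x hx hx1 c hc hcF e ⟨k, hk⟩ heN hex
    have key : ∀ a : Ω, e • a = a → False := fun a ha => by
      rw [eq_one_of_two_power (hodd a) ha hk, one_mul, inv_one, mul_one] at hex
      have h2 : orderOf x ∣ 2 := orderOf_dvd_of_pow_eq_one (by
        rw [pow_two]; nth_rewrite 2 [hex]; exact mul_inv_cancel x)
      obtain ⟨j, hj⟩ := (IsPGroup.iff_orderOf.1 hQ) ⟨x, hx⟩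
      rw [← Subgroup.orderOf_coe] at hj
      rw [hj] at h2
      rcases j with _ | j
      · exact hx1 (orderOf_eq_one_iff.1 (by rw [hj, pow_zero]))
      · have h3 := Nat.le_of_dvd two_pos h2
        have := Nat.le_self_pow (show j + 1 ≠ 0 by omega) 3
        omega
    rcases F.eq_empty_or_nonempty with hF | ⟨a, ha⟩
    · have he : e ∈ setStab (fixedBy Ω x) := by
        rw [mem_setStab_iff_image, ← fixedBy_conj, hex]
        exact fixedBy_inv Ω x
      obtain ⟨a, -, ha⟩ := exists_fixed_two_power he hk (by rw [hfix hF x hx hx1 c hc]; decide)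
      exact key a ha
    · refine key a ?_
      have hmem : e • a ∈ F := (d.mem_F _).2 fun y hy => by
        have h := (d.mem_F a).1 ha _ ((Subgroup.mem_normalizer_iff''.1 heN y).1 hy)
        rw [mul_smul, mul_smul, inv_smul_eq_iff] at h
        exact h
      exact Set.ncard_le_one_iff (Set.toFinite _) |>.1 hF1 hmem ha
  -- an element with small centraliser
  have hgood : ∃ x ∈ Q, orderOf x = 3 ∧ (∃ c : Ω, x • c = c ∧ c ∉ F) ∧
      Nat.card (Q ⊓ Subgroup.centralizer ({x} : Set G) : Subgroup G) ≤ 9 ∧
      (27 ≤ Nat.card Q ∨ (Nat.card Q = 9 ∧ ∀ y ∈ Q, y ^ 3 = 1)) := by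
    by_cases hst : Q ≤ setStab D
    · have hNT : Q ≤ Subgroup.normalizer (T : Set G) := fun y hy =>
        d.inf_setStab_le_normalizer ⟨hy, hst hy⟩
      have hQle : Nat.card Q ≤ 3 * Nat.card T := by
        have h := d.card_stab_le
        rwa [hDF, inf_eq_left.2 hst] at h
      by_cases hfree : ∀ y ∈ Q, y ∉ T → ∀ c : Ω, y • c = c → c ∈ F
      · exfalso
        obtain ⟨k, hk⟩ := IsPGroup.iff_card.1 (hQ.to_le d.le)
        obtain ⟨l, hl⟩ := IsPGroup.iff_card.1 hQ
        haveI hTn : (T.subgroupOf Q).Normal := Subgroup.normal_subgroupOf_of_le_normalizer hNT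
        have hidx : (T.subgroupOf Q).index = 3 := by
          have h1 := (T.subgroupOf Q).card_mul_index
          rw [Nat.card_congr (Subgroup.subgroupOfEquivOfLe d.le).toEquiv] at h1
          obtain ⟨i, hi⟩ := hQ.index (T.subgroupOf Q)
          have hne1 : (T.subgroupOf Q).index ≠ 1 := fun h =>
            d.lt (le_antisymm d.le (Subgroup.subgroupOf_eq_top.1 (Subgroup.index_eq_one.1 h)))
          have hle : (T.subgroupOf Q).index ≤ 3 := Nat.le_of_mul_le_mul_left
            (by rw [h1, mul_comm (Nat.card T) 3]; exact hQle) Nat.card_pos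
          rcases i with _ | _ | i
          · exact absurd (hi.trans (pow_zero 3)) hne1
          · rw [hi]; norm_num
          · exfalso
            have := Nat.pow_le_pow_right (show 1 ≤ 3 by norm_num) (show 2 ≤ i + 1 + 1 by omega)
            omega
        have hconj : ∀ t ∈ T, ∀ g : G, g * t * g⁻¹ ∈ Q → g * t * g⁻¹ ∈ T := fun t ht g hg =>
          d.conj_mem_of_fix hFD hfree ht hg
        refine not_gruen hperf P T T le_rfl (fun h => d.lt (le_antisymm d.le h)) ?_ hconj ?_
        · intro a ha b hb
          have h := CfsgLib.Transfer.commutator_le_of_index_prime hidx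
            (Subgroup.commutator_mem_commutator (Subgroup.mem_top (⟨a, ha⟩ : Q))
              (Subgroup.mem_top (⟨b, hb⟩ : Q)))
          simpa [commutatorElement_def, Subgroup.mem_subgroupOf] using h
        · intro n hn y hy
          by_contra hbad
          set T' := T.subgroupOf Q
          haveI : Fintype (Q ⧸ T') := Fintype.ofFinite _
          have hc3 : Nat.card (Q ⧸ T') = 3 := by rw [← Subgroup.index_eq_card, hidx]
          let aut := (P : Subgroup G).normalizerMonoidHom
          have hTn : ∀ (m : Subgroup.normalizer (Q : Set G)), T'.map (aut m : Q →* Q) = T' := fun m => by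
            refine Subgroup.eq_of_le_of_card_ge ?_ (le_of_eq (Subgroup.card_map_of_injective
              (aut m).injective).symm)
            rintro _ ⟨t, ht, rfl⟩
            exact hconj t ht (m : G) ((Subgroup.mem_normalizer_iff.1 m.2 t).1 t.2)
          -- the 2-part of `n` inverts `P/T`
          have hyT : (⟨y, hy⟩ : Q) ∉ T' := fun h => hbad (mul_mem
            (hconj y h n ((Subgroup.mem_normalizer_iff.1 hn y).1 hy)) (inv_mem h))
          set y' : Q ⧸ T' := ((⟨y, hy⟩ : Q) : Q ⧸ T')
          have hy'1 : y' ≠ 1 := fun h => hyT ((QuotientGroup.eq_one_iff _).1 h)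
          set α : Subgroup.normalizer (Q : Set G) → (Q ⧸ T') := fun m =>
            QuotientGroup.congr T' T' (aut m) (hTn m) y' with hα
          have hzp : ∀ v : Q ⧸ T', v ≠ 1 → v = y' ∨ v = y'⁻¹ := fun v hv => by
            haveI : IsCyclic (Q ⧸ T') := isCyclic_of_prime_card hc3
            obtain ⟨i, hi⟩ := Subgroup.mem_zpowers_iff.1
              ((mem_zpowers_of_prime_card hc3 hy'1 : v ∈ Subgroup.zpowers y'))
            have ho : orderOf y' = 3 := orderOf_eq_prime
              (by rw [← hc3]; exact pow_card_eq_one') hy'1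
            rw [← hi, ← zpow_mod_orderOf, ho]
            have h1 := Int.emod_nonneg i (show ((3 : ℕ) : ℤ) ≠ 0 by norm_num)
            have h2 := Int.emod_lt_of_pos i (show (0 : ℤ) < ((3 : ℕ) : ℤ) by norm_num)
            rcases (by omega : i % ((3 : ℕ) : ℤ) = 0 ∨ i % ((3 : ℕ) : ℤ) = 1 ∨ i % ((3 : ℕ) : ℤ) = 2)
              with h | h | h
            · exact absurd (by rw [← hi, ← zpow_mod_orderOf, ho, h, zpow_zero]) hv
            · left; rw [h, zpow_one]
            · right; rw [h]
              refine eq_inv_of_mul_eq_one_left ?_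
              rw [← zpow_add_one, show (2 : ℤ) + 1 = ((3 : ℕ) : ℤ) by norm_num, zpow_natCast, ← ho,
                pow_orderOf_eq_one]
          have hn1 : α ⟨n, hn⟩ = y'⁻¹ := by
            rcases hzp (α ⟨n, hn⟩) (fun h => hy'1 (by
              have h0 : QuotientGroup.congr T' T' (aut ⟨n, hn⟩) (hTn ⟨n, hn⟩) y' = 1 := h
              exact (MulEquiv.map_eq_one_iff _).1 h0)) with h | h
            · refine absurd ?_ hbad
              have h' : (aut ⟨n, hn⟩ ⟨y, hy⟩ : Q) * (⟨y, hy⟩ : Q)⁻¹ ∈ T' := by
                rw [← QuotientGroup.eq_one_iff, QuotientGroup.mk_mul, QuotientGroup.mk_inv,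
                  show ((aut ⟨n, hn⟩ ⟨y, hy⟩ : Q) : Q ⧸ T') = y' from h, mul_inv_cancel]
              exact h'
            · exact h
          obtain ⟨k', m, hm, hkm⟩ := Nat.exists_eq_two_pow_mul_odd (orderOf_pos n).ne'
          set e : Subgroup.normalizer (Q : Set G) := ⟨n, hn⟩ ^ m with he
          let ψ : Subgroup.normalizer (Q : Set G) → MulAut (Q ⧸ T') := fun r =>
            QuotientGroup.congr T' T' (aut r) (hTn r)
          have hψmul : ∀ r r' v, ψ (r * r') v = ψ r (ψ r' v) := fun r r' v => by
            induction v using QuotientGroup.induction_on with | _ v => ?_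
            show ((aut (r * r') v : Q) : Q ⧸ T') = ((aut r (aut r' v) : Q) : Q ⧸ T')
            rw [map_mul]; rfl
          have hodd' : ∀ i : ℕ, ψ (⟨n, hn⟩ ^ (2 * i + 1)) y' = y'⁻¹ := fun i => by
            induction i with
            | zero => rw [show 2 * 0 + 1 = 1 from rfl, pow_one]; exact hn1
            | succ i ih =>
              rw [show 2 * (i + 1) + 1 = 2 * i + 1 + 1 + 1 by ring, pow_succ', pow_succ', hψmul, hψmul, ih,
                map_inv, show ψ ⟨n, hn⟩ y' = y'⁻¹ from hn1, inv_inv, show ψ ⟨n, hn⟩ y' = y'⁻¹ from hn1]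
          have hen : ψ e y' = y'⁻¹ := by
            obtain ⟨i, rfl⟩ := hm
            exact hodd' i
          have he1 : (e : G) ≠ 1 := fun h => by
            have : e = 1 := Subtype.ext h
            rw [this] at hen
            have h1 : ψ 1 y' = y' := by
              show ((aut 1 (⟨y, hy⟩ : Q) : Q) : Q ⧸ T') = y'
              rw [map_one]; rfl
            rw [h1] at hen
            have h2 : y' ^ 2 = 1 := by rw [pow_two]; nth_rewrite 2 [hen]; exact mul_inv_cancel y'
            have h3 : y' ^ 3 = 1 := by rw [← hc3]; exact pow_card_eq_one'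
            exact hy'1 (by rw [pow_succ, h2, one_mul] at h3; exact h3)
          have hek : (e : G) ^ 2 ^ k' = 1 := by
            rw [he, SubgroupClass.coe_pow, ← pow_mul, mul_comm, ← hkm, pow_orderOf_eq_one]
          rcases F.eq_empty_or_nonempty with hF | ⟨a, ha⟩
          · obtain ⟨t, ht, ht1⟩ := (Subgroup.bot_or_exists_ne_one T).resolve_left d.ne_bot
            have heD : (e : G) ∈ setStab D := d.setStab_of_conj ht ht1
              (hconj t ht e ((Subgroup.mem_normalizer_iff.1 e.2 t).1 (d.le ht)))
            have hD3 : D.ncard = 3 := by rw [hF, Set.sdiff_empty] at hDF; exact hDF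
            obtain ⟨a, -, ha⟩ := exists_fixed_two_power heD hek (by rw [hD3]; decide)
            exact he1 (eq_one_of_two_power (hodd a) ha hek)
          · refine he1 (eq_one_of_two_power (hodd a) ?_ hek)
            have hmem : (e : G) • a ∈ F := (d.mem_F _).2 fun z hz => by
              have h := (d.mem_F a).1 ha _ ((Subgroup.mem_normalizer_iff''.1 e.2 z).1 hz)
              rw [mul_smul, mul_smul, inv_smul_eq_iff] at h
              exact h
            exact Set.ncard_le_one_iff (Set.toFinite _) |>.1 hF1 hmem ha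
      · push Not at hfree
        obtain ⟨y, hy, hyT, c, hyc, hcF⟩ := hfree
        set B := Q ⊓ stabilizer G c
        have hBT : ∀ b ∈ B, b ∈ T → b = 1 := fun b hb hbT => by
          by_contra hb1
          have hcD : c ∈ D := d.exact_fix b hbT hb1 ▸ hb.2
          exact hyT (d.stab c hcD hcF y hy hyc)
        have hB3 : Nat.card B ≤ 3 := Nat.le_of_mul_le_mul_right
          ((card_mul_le_of_disjoint inf_le_left d.le hBT).trans hQle) Nat.card_pos
        have hy1 : y ≠ 1 := fun h => hyT (h ▸ one_mem _)
        have hyB : y ∈ B := ⟨hy, hyc⟩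
        have hy3 : orderOf y = 3 := by
          obtain ⟨i, hi⟩ := (IsPGroup.iff_orderOf.1 hQ) ⟨y, hy⟩
          rw [← Subgroup.orderOf_coe] at hi
          have hle : orderOf y ≤ 3 := (Subgroup.orderOf_le_card B (Set.toFinite _) hyB).trans hB3
          rcases i with _ | _ | i
          · exact absurd (orderOf_eq_one_iff.1 (hi.trans (pow_zero 3))) hy1
          · rw [hi]; norm_num
          · exfalso
            rw [hi] at hle
            have := Nat.pow_le_pow_right (show 1 ≤ 3 by norm_num) (show 2 ≤ i + 1 + 1 by omega)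
            omega
        refine ⟨y, hy, hy3, ⟨c, hyc, hcF⟩, le_nine_of_three_power (hQ.to_le inf_le_left) ?_, ?_⟩
        · refine (d.centralizer_card_le (B := B) hyc hcF fun z hz _ hzc => ⟨hz, hzc⟩).trans ?_
          calc (fixedBy Ω y \ F).ncard * Nat.card B
              ≤ 4 * 3 := Nat.mul_le_mul ((Set.ncard_le_ncard Set.sdiff_subset (Set.toFinite _)).trans
                (hs y hy1)) hB3
            _ = 12 := by norm_num
        · obtain ⟨l, hl⟩ := IsPGroup.iff_card.1 hQ
          have hmul := card_mul_le_of_disjoint (Subgroup.zpowers_le.2 hy) d.le fun b hb hbT => by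
            exact hBT b ⟨Subgroup.zpowers_le.2 hy hb, (Subgroup.zpowers_le.2
              (show y ∈ stabilizer G c from hyc) hb)⟩ hbT
          rw [Nat.card_zpowers, hy3] at hmul
          by_cases h27 : 27 ≤ Nat.card Q
          · exact Or.inl h27
          · right
            have hl2 : l = 2 := by
              have h1 : l < 3 := by
                by_contra h
                exact h27 (hl ▸ (Nat.pow_le_pow_right (show 1 ≤ 3 by norm_num) (not_lt.1 h)))
              have h2 : 1 < l := by
                by_contra h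
                have := Nat.pow_le_pow_right (show 1 ≤ 3 by norm_num) (not_lt.1 h)
                rw [hl] at hmul
                omega
              omega
            have h9 : Nat.card Q = 3 ^ 2 := hl2 ▸ hl
            refine ⟨by rw [h9]; norm_num, fun z hz => ?_⟩
            have hcomm := IsPGroup.commutative_of_card_eq_prime_sq h9
            have hT3' : Nat.card T = 3 := by
              have : 3 ^ 2 = 9 := by norm_num
              rw [h9] at hmul
              omega
            have hinj : Function.Injective (fun q : Subgroup.zpowers y × T =>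
                (⟨(q.1 : G) * q.2, mul_mem (Subgroup.zpowers_le.2 hy q.1.2) (d.le q.2.2)⟩ : Q)) := by
              rintro ⟨a, b⟩ ⟨a', b'⟩ he
              have he' : (a : G) * b = a' * b' := congrArg Subtype.val he
              have h1 : (a' : G)⁻¹ * a = (b' : G) * (b : G)⁻¹ := by
                calc (a' : G)⁻¹ * a = (a' : G)⁻¹ * ((a : G) * b) * (b : G)⁻¹ := by group
                  _ = _ := by rw [he']; group
              have hm := mul_mem (inv_mem a'.2) a.2
              have h2 := hBT _ ⟨Subgroup.zpowers_le.2 hy hm, Subgroup.zpowers_le.2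
                (show y ∈ stabilizer G c from hyc) hm⟩ (h1 ▸ mul_mem b'.2 (inv_mem b.2))
              rw [h2] at h1
              exact Prod.ext (Subtype.ext (inv_mul_eq_one.1 h2).symm)
                (Subtype.ext (mul_inv_eq_one.1 h1.symm).symm)
            obtain ⟨⟨u, v⟩, huv⟩ := ((Nat.bijective_iff_injective_and_card _).2 ⟨hinj, by
              rw [Nat.card_prod, Nat.card_zpowers, hy3, hT3', h9]; norm_num⟩).2 ⟨z, hz⟩
            have huv' : (u : G) * v = z := congrArg Subtype.val huv
            have hc' : Commute (u : G) (v : G) := congrArg Subtype.val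
              (hcomm (⟨u, Subgroup.zpowers_le.2 hy u.2⟩ : Q) ⟨v, d.le v.2⟩)
            have hu3 : (u : G) ^ 3 = 1 := orderOf_dvd_iff_pow_eq_one.1
              (hy3 ▸ orderOf_dvd_of_mem_zpowers u.2)
            have hv3 : (v : G) ^ 3 = 1 := by
              have := pow_card_eq_one' (x := v)
              rw [hT3'] at this
              exact congrArg Subtype.val this
            rw [← huv', hc'.mul_pow, hu3, hv3, one_mul]
    · obtain ⟨g, hg, hin, htriv, -, hTle⟩ := d.not_stable hQ hst
      rw [hDF] at hTle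
      have hT : Nat.card T = 3 := le_antisymm hTle hT3
      obtain ⟨t, ht, ht3⟩ := exists_order_eq (hQ.to_le d.le) d.ne_bot
      have ht1 : t ≠ 1 := fun h => by rw [h, orderOf_one] at ht3; omega
      obtain ⟨c, hc, hcF⟩ := d.moved
      refine ⟨t, d.le ht, ht3, ⟨c, d.fix_mem ht hc, hcF⟩, ?_, Or.inl ?_⟩
      · refine (Subgroup.card_le_of_le (d.centralizer_le ht ht1)).trans (d.card_stab_le.trans ?_)
        rw [hDF, hT]
      · -- `P` properly contains two independent copies of `T`
        have h9 : 9 ≤ Nat.card (Q ⊓ setStab D : Subgroup G) := by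
          have hT' : T.map (MulAut.conj g).toMonoidHom ≤ Q ⊓ setStab D := by
            rintro _ ⟨x, hx, rfl⟩; exact hin x hx
          have hTN : T ≤ Q ⊓ setStab D := le_inf d.le d.le_setStab
          have h := card_mul_le_of_disjoint hTN hT' fun x hx hx' => by
            obtain ⟨u, hu, rfl⟩ := hx'
            have := htriv u hu hx
            show g * u * g⁻¹ = 1
            simp [this]
          rw [Subgroup.card_map_of_injective (MulAut.conj g).injective, hT] at h
          omega
        obtain ⟨l, hl⟩ := IsPGroup.iff_card.1 hQ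
        have hlt : Nat.card (Q ⊓ setStab D : Subgroup G) < Nat.card Q := by
          refine lt_of_le_of_ne (Subgroup.card_le_of_le inf_le_left) fun h => hst ?_
          exact (Subgroup.eq_of_le_of_card_ge inf_le_left h.ge).ge.trans inf_le_right
        have : 3 ≤ l := by
          by_contra h
          have := Nat.pow_le_pow_right (show 1 ≤ 3 by norm_num) (show l ≤ 2 by omega)
          omega
        rw [hl]
        exact le_trans (by norm_num) (Nat.pow_le_pow_right (show 1 ≤ 3 by norm_num) this)
  obtain ⟨x, hxQ, hx3, ⟨c, hxc, hcF⟩, hC, hsize⟩ := hgood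
  rcases hsize with h27 | h9
  · refine Or.inr (ThreeSylow.shapes hperf P h27 hxQ hx3 hC fun e he heN hex =>
      hinv x hxQ (fun h => by rw [h, orderOf_one] at hx3; omega) c hxc hcF e he heN hex)
  · exact Or.inl h9

/-- **The prime three.** -/
theorem three [FaithfulSMul G Ω] [IsPretransitive G Ω] (hperf : commutator G = ⊤) (hs : Small G Ω)
    (hodd : ∀ a : Ω, Odd (Nat.card (stabilizer G a))) (P : Sylow 3 G) {a₀ : Ω}
    (h3 : 3 ∣ Nat.card (stabilizer G a₀)) :
    (∃ H : Subgroup G, H ≠ ⊤ ∧ 3 ∣ Nat.card H ∧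
        ∀ g : G, g ∉ H → ¬ 3 ∣ Nat.card (H ⊓ H.map (MulAut.conj g).toMonoidHom : Subgroup G)) ∨
      (Nat.card (P : Subgroup G) = 9 ∧ ∀ x ∈ (P : Subgroup G), x ^ 3 = 1) ∨
      (Nat.card (P : Subgroup G) = 27 ∧ Cfsg.IsExtraspecial 3 (P : Subgroup G) ∧
        ∀ x ∈ (P : Subgroup G), x ^ 3 = 1) ∨
      ∃ T : Sylow 3 (Equiv.Perm (Fin 9)),
        Nonempty ((P : Subgroup G) ≃* (T : Subgroup (Equiv.Perm (Fin 9)))) := by
  classical
  haveI : Fact (Nat.Prime 3) := ⟨Nat.prime_three⟩
  have hPne : (P : Subgroup G) ≠ ⊥ :=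
    P.ne_bot_of_dvd_card (h3.trans (Subgroup.card_subgroup_dvd_card _))
  rcases (fixSet (Ω := Ω) (P : Subgroup G)).eq_empty_or_nonempty with hF0 | hne
  · -- no fixed point
    obtain ⟨b, hb⟩ := exists_max_point P a₀
    set T := (P : Subgroup G) ⊓ stabilizer G b with hTdef
    have d : Max (P : Subgroup G) T b 3 := ⟨hTdef, hb⟩
    have hTne : T ≠ ⊥ := by
      obtain ⟨y, hy⟩ := exists_prime_orderOf_dvd_card' (G := stabilizer G a₀) 3 h3
      have hR : IsPGroup 3 (Subgroup.zpowers (y : G)) :=
        IsPGroup.of_card (n := 1) (by rw [Nat.card_zpowers, Subgroup.orderOf_coe, hy, pow_one])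
      obtain ⟨h, -, hh⟩ := hb _ a₀ hR fun r hr =>
        (Subgroup.zpowers_le.2 (show (y : G) ∈ stabilizer G a₀ from y.2) hr : r ∈ stabilizer G a₀)
      intro hbot
      have h1 := Subgroup.mem_bot.1 (hbot ▸ hh _ (Subgroup.mem_zpowers _))
      rw [conj_eq_one_iff] at h1
      have h2 : orderOf (y : G) = 3 := by rw [Subgroup.orderOf_coe, hy]
      rw [h1, orderOf_one] at h2
      omega
    have hbF : b ∉ fixSet (Ω := Ω) (P : Subgroup G) := by rw [hF0]; exact Set.notMem_empty b
    have hTP : T ≠ (P : Subgroup G) := fun h => hbF fun y hy => (h.ge hy).2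
    obtain ⟨O, hbO, hO3, ⟨j, hj⟩, hOsub, hOdis, hOstab, hOinv⟩ :=
      exists_orbit (Ω := Ω) P.isPGroup' inf_le_left hTP (b := b) fun y hy => ⟨fun h => h.2, fun h => ⟨hy, h⟩⟩
    obtain ⟨t0, ht0, ht01⟩ := (Subgroup.bot_or_exists_ne_one T).resolve_left hTne
    have hO : O.ncard = 3 := by
      have h4 : O.ncard ≤ 4 := (Set.ncard_le_ncard (hOsub.trans (fixSet_subset ht0)) (Set.toFinite _)).trans
        (hs t0 ht01)
      rcases j with _ | _ | j
      · omega
      · omega
      · have := Nat.pow_le_pow_right (show 1 ≤ 3 by norm_num) (show 2 ≤ j + 1 + 1 by omega)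
        omega
    -- every nontrivial element of `T` fixes exactly `O`
    have hexact : ∀ t ∈ T, t ≠ 1 → fixedBy Ω t = O := by
      intro t ht ht1
      refine (Set.Subset.antisymm (fun d' hd' => ?_) (hOsub.trans (fixSet_subset ht)))
      by_contra hdO
      set Td := T ⊓ stabilizer G d'
      have hins : (insert d' O).ncard = 4 := by rw [Set.ncard_insert_of_notMem hdO (Set.toFinite _), hO]
      have hTd : ∀ u ∈ Td, insert d' O ⊆ fixedBy Ω u := fun u hu =>
        Set.insert_subset hu.2 (hOsub.trans (fixSet_subset hu.1))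
      have hne : Td ≠ T := fun h => by
        have hdfix : d' ∈ fixSet T := fun u hu => (h.ge hu).2
        obtain ⟨n, hn, hnT, hnn⟩ := exists_normalizer_notMem P.isPGroup' inf_le_left hTP
        have hnd : n • d' ∈ fixSet T := fun u hu => by
          have h' := hdfix _ ((Subgroup.mem_normalizer_iff''.1 hnn u).1 hu)
          rw [mul_smul, mul_smul, inv_smul_eq_iff] at h'
          exact h'
        have hndO : n • d' ∉ O := fun hmem => hdO ((hOinv n hn hnn d').1 hmem)
        have hne' : n • d' ≠ d' := fun e => hnT (d.stab P.isPGroup' hdfix hn e)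
        have h5 : (insert (n • d') (insert d' O)).ncard = 5 := by
          rw [Set.ncard_insert_of_notMem (by simp [hne', hndO]) (Set.toFinite _), hins]
        have hle := Set.ncard_le_ncard (show insert (n • d') (insert d' O) ⊆ fixedBy Ω t from
          Set.insert_subset (hnd t ht) (Set.insert_subset hd' (hOsub.trans (fixSet_subset ht))))
          (Set.toFinite _)
        have := hs t ht1
        omega
      obtain ⟨n, hn, hnT, hnn⟩ :=
        exists_normalizer_notMem (P.isPGroup'.to_le inf_le_left : IsPGroup 3 T) inf_le_left hne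
      have htd : t ∈ Td := ⟨ht, hd'⟩
      have hfix : fixedBy Ω t = insert d' O := hs.eq_of_four ht1 (hTd t htd) hins.ge
      have hmem : n • d' ∈ fixedBy Ω t := by
        have h' : (n⁻¹ * t * n) • d' = d' := ((Subgroup.mem_normalizer_iff''.1 hnn t).1 htd).2
        rw [mul_smul, mul_smul, inv_smul_eq_iff] at h'
        exact h'
      rw [hfix] at hmem
      rcases hmem with h | h
      · exact hnT ⟨hn, h⟩
      · exact hdO ((hOinv n hn.1 (Subgroup.le_normalizer hn) d').1 h)
    have dc : Config (P : Subgroup G) T (fixSet (P : Subgroup G)) O :=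
      ⟨inf_le_left, hTne, fun a => Iff.rfl, by rw [hF0]; exact Set.empty_subset _, hexact,
        fun c hc _ y hy h => hOstab c hc y hy h, ⟨b, hbO, hbF⟩⟩
    refine Or.inr (three_of_config hperf hs hodd P dc (by rw [hF0]; simp) (by rw [hF0, Set.sdiff_empty, hO])
      fun _ y hy hy1 c hc => ?_)
    obtain ⟨h, -, hh⟩ := d.exists_conj P.isPGroup' hy hc
    rw [← ncard_fixedBy_conj h y, hexact _ hh fun e => hy1 (conj_eq_one_iff.1 e), hO]
  · by_cases hex : ∀ y ∈ (P : Subgroup G), y ≠ 1 → fixedBy Ω y = fixSet (P : Subgroup G)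
    · obtain ⟨H, hH1, hH2, hH3⟩ := strongly_embedded P hPne hne hex
      exact Or.inl ⟨H, hH1, (h3.trans (Subgroup.card_subgroup_dvd_card _) |> fun hG =>
        (P.dvd_card_of_dvd_card hG).trans (Subgroup.card_dvd_of_le hH2)), hH3⟩
    · push Not at hex
      obtain ⟨y, hy, hy1, hyF⟩ := hex
      obtain ⟨T, D, d, hD, hDF, hD4⟩ := caseA le_rfl hs P.isPGroup' hne hy hy1 hyF
      refine Or.inr (three_of_config hperf hs hodd P d (by omega) hDF fun hF => ?_)
      exact absurd hF hne.ne_empty

end CfsgLib.Fixity
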