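import Cfsg.Agent.Lib.Fixity.BlockMain
import Cfsg.Agent.Lib.Fixity.Pair

/-!
# Fixity four: the prime two

An involution fixes a point.  Then there is a strongly embedded subgroup, or a dihedral or
semidihedral Sylow 2-subgroup, or involutions fix four points and the sectional 2-rank is at most
four.
-/

set_option autoImplicit false

namespace CfsgLib.Fixity

open MulAction

variable {G Ω : Type*} [Group G] [MulAction G Ω] [Finite G] [Finite Ω]

omit [MulAction G Ω] [Finite Ω] in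
/-- A power of two which is at most seven is at most four. -/
theorem card_le_four {C : Subgroup G} (hC : IsPGroup 2 C) (h : Nat.card C ≤ 7) : Nat.card C ≤ 4 := by
  haveI : Fact (Nat.Prime 2) := ⟨Nat.prime_two⟩
  obtain ⟨k, hk⟩ := IsPGroup.iff_card.1 hC
  rw [hk] at h ⊢
  rcases k with _ | _ | _ | k
  · norm_num
  · norm_num
  · norm_num
  · exfalso
    have := Nat.pow_le_pow_right (show 1 ≤ 2 by norm_num) (show 3 ≤ k + 1 + 1 + 1 by omega)
    omega

omit [MulAction G Ω] [Finite Ω] in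
/-- The quotient by a normal subgroup of index at most four is abelian. -/
theorem commutator_mem_of_index_le_four {Q T : Subgroup G} (hQ : IsPGroup 2 Q) (hle : T ≤ Q)
    (hN : Q ≤ Subgroup.normalizer (T : Set G)) (hi : Nat.card Q ≤ 4 * Nat.card T) :
    ∀ x ∈ Q, ∀ y ∈ Q, x * y * x⁻¹ * y⁻¹ ∈ T := by
  haveI : Fact (Nat.Prime 2) := ⟨Nat.prime_two⟩
  intro x hx y hy
  haveI : (T.subgroupOf Q).Normal := Subgroup.normal_subgroupOf_of_le_normalizer hN
  have hcard : Nat.card (Q ⧸ T.subgroupOf Q) ≤ 4 := by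
    have h := Subgroup.card_eq_card_quotient_mul_card_subgroup (T.subgroupOf Q)
    rw [Nat.card_congr (Subgroup.subgroupOfEquivOfLe hle).toEquiv] at h
    rw [h] at hi
    exact Nat.le_of_mul_le_mul_right hi Nat.card_pos
  obtain ⟨k, hk⟩ := IsPGroup.iff_card.1 (hQ.to_quotient (T.subgroupOf Q))
  have hcomm : ∀ u v : Q ⧸ T.subgroupOf Q, u * v = v * u := by
    rcases k with _ | _ | _ | k
    · haveI := (Nat.card_eq_one_iff_unique.1 (hk.trans (pow_zero 2))).1
      exact fun u v => Subsingleton.elim _ _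
    · haveI := isCyclic_of_prime_card (α := Q ⧸ T.subgroupOf Q) (p := 2) (by rw [hk]; norm_num)
      exact fun u v => (IsCyclic.commutative (α := Q ⧸ T.subgroupOf Q)).is_comm.comm u v
    · exact IsPGroup.commutative_of_card_eq_prime_sq hk
    · exfalso
      rw [hk] at hcard
      have := Nat.pow_le_pow_right (show 1 ≤ 2 by norm_num) (show 3 ≤ k + 1 + 1 + 1 by omega)
      omega
  have h1 : QuotientGroup.mk' (T.subgroupOf Q) (⟨x, hx⟩ * ⟨y, hy⟩ * (⟨x, hx⟩ : Q)⁻¹ * (⟨y, hy⟩ : Q)⁻¹) = 1 := by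
    rw [map_mul, map_mul, map_mul, map_inv, map_inv, hcomm (QuotientGroup.mk' _ ⟨x, hx⟩),
      mul_inv_cancel_right, mul_inv_cancel]
  exact Subgroup.mem_subgroupOf.1 ((QuotientGroup.eq_one_iff _).1 h1)

/-- A configuration with two moved points gives a small involution centraliser. -/
theorem small_of_config2 (hperf : commutator G = ⊤) (P : Sylow 2 G) {T : Subgroup G} {F D : Set Ω}
    (d : Config (P : Subgroup G) T F D) (h2 : (D \ F).ncard = 2)
    (h3 : ∀ y ∈ (P : Subgroup G), y ≠ 1 → ∀ c : Ω, c ∉ F → y • c = c → (fixedBy Ω y \ F).ncard ≤ 3) :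
    ∃ x ∈ (P : Subgroup G), orderOf x = 2 ∧
      Nat.card ((P : Subgroup G) ⊓ Subgroup.centralizer ({x} : Set G) : Subgroup G) ≤ 4 := by
  haveI : Fact (Nat.Prime 2) := ⟨Nat.prime_two⟩
  set Q := (P : Subgroup G) with hQdef
  have hQ : IsPGroup 2 Q := P.isPGroup'
  by_cases hst : Q ≤ setStab D
  swap
  · obtain ⟨g, -, -, -, -, hT⟩ := d.not_stable hQ hst
    rw [h2] at hT
    obtain ⟨x, hx, hx2⟩ := exists_order_eq (hQ.to_le d.le) d.ne_bot
    refine ⟨x, d.le hx, hx2, (Subgroup.card_le_of_le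
      (d.centralizer_le hx fun h => by rw [h, orderOf_one] at hx2; omega)).trans ?_⟩
    calc _ ≤ (D \ F).ncard * Nat.card T := d.card_stab_le
      _ ≤ 2 * 2 := by rw [h2]; exact Nat.mul_le_mul_left _ hT
      _ = 4 := by norm_num
  have hQT : Nat.card Q ≤ 2 * Nat.card T := by
    have h := d.card_stab_le
    rwa [inf_eq_left.2 hst, h2] at h
  have hN : Q ≤ Subgroup.normalizer (T : Set G) := fun y hy => d.inf_setStab_le_normalizer ⟨hy, hst hy⟩
  by_cases hfree : ∀ y ∈ Q, y ∉ T → ∀ c : Ω, y • c = c → c ∈ F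
  · exfalso
    obtain ⟨c0, hc0, hc0F⟩ := d.moved
    have hlt : F.ncard < D.ncard := by
      rw [← Set.ncard_sdiff_add_ncard_of_subset d.sub (Set.toFinite _), h2]
      omega
    have hidx : (T.subgroupOf Q).index = 2 := by
      have hm := (T.subgroupOf Q).card_mul_index
      rw [Nat.card_congr (Subgroup.subgroupOfEquivOfLe d.le).toEquiv] at hm
      have hle : (T.subgroupOf Q).index ≤ 2 := by
        rw [← hm, mul_comm 2] at hQT
        exact Nat.le_of_mul_le_mul_left hQT Nat.card_pos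
      have h0 : (T.subgroupOf Q).index ≠ 0 := Subgroup.index_ne_zero_of_finite
      have h1 : (T.subgroupOf Q).index ≠ 1 := fun h =>
        d.lt (le_antisymm d.le (Subgroup.subgroupOf_eq_top.1 (Subgroup.index_eq_one.1 h)))
      omega
    have htwo : ∀ u ∈ Q, ∀ v ∈ Q, u ∉ T → v ∉ T → u * v⁻¹ ∈ T := fun u hu v hv hu' hv' => by
      have h := (Subgroup.mul_mem_iff_of_index_two hidx (a := (⟨u, hu⟩ : Q)) (b := (⟨v, hv⟩ : Q)⁻¹)).2
        ⟨fun h => absurd (Subgroup.mem_subgroupOf.1 h) hu',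
          fun h => absurd (Subgroup.mem_subgroupOf.1 ((Subgroup.inv_mem_iff _).1 h)) hv'⟩
      exact Subgroup.mem_subgroupOf.1 h
    have hconj : ∀ t ∈ T, ∀ g : G, g * t * g⁻¹ ∈ Q → g * t * g⁻¹ ∈ T := fun t ht g hg =>
      d.conj_mem_of_fix hlt hfree ht hg
    refine not_gruen hperf P T T le_rfl (fun h => d.lt (le_antisymm d.le h))
      (commutator_mem_of_index_le_four hQ d.le hN (hQT.trans (Nat.mul_le_mul_right _ (by norm_num)))) hconj fun n hn u hu => ?_
    have hnu : n * u * n⁻¹ ∈ Q := (Subgroup.mem_normalizer_iff.1 hn u).1 hu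
    by_cases huT : u ∈ T
    · exact mul_mem (hconj u huT n hnu) (inv_mem huT)
    · refine htwo _ hnu u hu (fun h => huT ?_) huT
      have h' := hconj _ h n⁻¹ (by simpa [mul_assoc] using hu)
      simpa [mul_assoc] using h'
  push Not at hfree
  obtain ⟨y, hy, hyT, c, hyc, hcF⟩ := hfree
  set B := Q ⊓ stabilizer G c with hB
  have hcD : c ∉ D := fun hc => hyT (d.stab c hc hcF y hy hyc)
  have hdis : ∀ t ∈ T, t ∈ B → t = 1 := fun t ht htB => by
    by_contra h1
    exact hcD (d.exact_fix t ht h1 ▸ htB.2)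
  have hBT := card_mul_le_of_disjoint d.le (inf_le_left : B ≤ Q) hdis
  have hB2 : Nat.card B ≤ 2 := by
    refine Nat.le_of_mul_le_mul_left (hBT.trans (hQT.trans_eq (mul_comm _ _))) Nat.card_pos
  have hy1 : y ≠ 1 := fun h => hyT (h ▸ one_mem T)
  have hy2 : orderOf y = 2 := by
    have hle := (Subgroup.orderOf_le_card B (Set.toFinite _) (show y ∈ B from ⟨hy, hyc⟩)).trans hB2
    have h0 := orderOf_pos y
    have h1 : orderOf y ≠ 1 := fun h => hy1 (orderOf_eq_one_iff.1 h)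
    omega
  refine ⟨y, hy, hy2, card_le_four (hQ.to_le inf_le_left) ?_⟩
  refine (d.centralizer_card_le (B := B) hyc hcF fun z hz _ hzc => ⟨hz, hzc⟩).trans ?_
  calc _ ≤ 3 * 2 := Nat.mul_le_mul (h3 y hy hy1 c hcF hyc) hB2
    _ ≤ 7 := by norm_num

/-- A four-point block of a maximal stabiliser. -/
theorem four_config [IsSimpleGroup G] [FaithfulSMul G Ω] [IsPretransitive G Ω]
    (hna : ¬ IsMulCommutative G) (hperf : commutator G = ⊤) (hs : Small G Ω) (P : Sylow 2 G)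
    {T : Subgroup G} {b : Ω} {D : Set Ω} (m : Max (P : Subgroup G) T b 2)
    (d : Config (P : Subgroup G) T ∅ D) (h4 : D.ncard = 4) :
    (∃ H : Subgroup G, Cfsg.IsStronglyEmbedded H) ∨ Cfsg.SectionalPRankLE 2 4 (P : Subgroup G) := by
  classical
  haveI : Fact (Nat.Prime 2) := ⟨Nat.prime_two⟩
  set Q := (P : Subgroup G) with hQdef
  have hQ : IsPGroup 2 Q := P.isPGroup'
  have hQ4 : Nat.card (Q ⊓ setStab D : Subgroup G) ≤ 4 * Nat.card T := by
    have h := d.card_stab_le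
    rwa [Set.sdiff_empty, h4] at h
  by_cases hst : Q ≤ setStab D
  · rw [inf_eq_left.2 hst] at hQ4
    have hN : Q ≤ Subgroup.normalizer (T : Set G) := fun y hy => d.inf_setStab_le_normalizer ⟨hy, hst hy⟩
    by_cases hfree : ∀ y ∈ Q, y ∉ T → ∀ c : Ω, y • c ≠ c
    · exact Or.inl (Block.strongly_embedded ⟨hs, d, h4, hst, hfree⟩ hna hperf
        (commutator_mem_of_index_le_four hQ d.le hN hQ4))
    push Not at hfree
    obtain ⟨y, hy, hyT, c, hyc⟩ := hfree
    have hcD : c ∉ D := fun hc => hyT (d.stab c hc (Set.notMem_empty c) y hy hyc)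
    have hdis : ∀ t ∈ T, t ∈ Q ⊓ stabilizer G c → t = 1 := fun t ht htB => by
      by_contra h1
      exact hcD (d.exact_fix t ht h1 ▸ htB.2)
    have hBT := card_mul_le_of_disjoint d.le (inf_le_left : Q ⊓ stabilizer G c ≤ Q) hdis
    have hB4 : Nat.card (Q ⊓ stabilizer G c : Subgroup G) ≤ 4 :=
      Nat.le_of_mul_le_mul_left (hBT.trans (hQ4.trans_eq (mul_comm _ _))) Nat.card_pos
    obtain ⟨h, -, hh⟩ := m.lift (Q ⊓ stabilizer G c) c (hQ.to_le inf_le_left) fun r hr => hr.2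
    refine Or.inr (rank_of_outside hs hQ d.le hN (hQ4.trans (Nat.mul_le_mul_right _ (by norm_num)))
      (fun hbot => hyT ?_) hB4 hdis fun _ => Or.inr ⟨(h⁻¹ • ·) '' D, fun u hu hu1 => ?_⟩)
    · have hyB : y ∈ Q ⊓ stabilizer G c := ⟨hy, hyc⟩
      rw [hbot, Subgroup.mem_bot] at hyB
      exact hyB ▸ one_mem T
    · rw [← d.exact_fix _ (hh u hu) (fun e => hu1 (conj_eq_one_iff.1 e)), fixedBy_conj, Set.image_image]
      simp
  obtain ⟨g, hgQ, hin, htriv, hnormT, hT⟩ := d.not_stable hQ hst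
  rw [Set.sdiff_empty, h4] at hT
  obtain ⟨x, hx, hx2⟩ := exists_order_eq (hQ.to_le d.le) d.ne_bot
  refine Or.inr ?_
  have hC : ∀ t ∈ T, orderOf t = 2 →
      Nat.card (Q ⊓ Subgroup.centralizer ({t} : Set G) : Subgroup G) ≤ 4 * Nat.card T := fun t ht ht2 =>
    (Subgroup.card_le_of_le (d.centralizer_le ht fun h => by rw [h, orderOf_one] at ht2; omega)).trans hQ4
  by_cases hT2 : Nat.card T ≤ 2
  · exact rank_of_eight hQ (d.le hx) hx2 ((hC x hx hx2).trans (by omega))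
  have hT4 : Nat.card T = 4 := by
    obtain ⟨k, hk⟩ := IsPGroup.iff_card.1 (hQ.to_le d.le)
    rw [hk] at hT2 hT ⊢
    rcases k with _ | _ | _ | k
    · exact absurd (by norm_num) hT2
    · exact absurd (by norm_num) hT2
    · norm_num
    · exfalso
      have := Nat.pow_le_pow_right (show 1 ≤ 2 by norm_num) (show 3 ≤ k + 1 + 1 + 1 by omega)
      omega
  set A := T.map (MulAut.conj g).toMonoidHom with hA
  have hAM : A ≤ Q ⊓ setStab D := by
    rintro _ ⟨t, ht, rfl⟩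
    exact hin t ht
  have hTM : T ≤ Q ⊓ setStab D := le_inf d.le d.le_setStab
  have hdis : ∀ u ∈ A, u ∈ T → u = 1 := by
    rintro _ ⟨t, ht, rfl⟩ hu
    change g * t * g⁻¹ ∈ T at hu
    rw [htriv t ht hu]
    exact map_one _
  refine rank_of_product hQ (hAM.trans inf_le_left) d.le ?_ hT4 ?_ hdis ?_ ?_ ?_
  · rw [hA, Subgroup.card_map_of_injective (MulAut.conj g).injective, hT4]
  · -- both are normal in `Q ⊓ setStab D`
    intro u hu v hv
    have h1 : u * v * u⁻¹ * v⁻¹ ∈ A := by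
      rw [show u * v * u⁻¹ * v⁻¹ = u * (v * u⁻¹ * v⁻¹) by group]
      refine mul_mem hu ?_
      obtain ⟨t, ht, he⟩ := inv_mem hu
      rw [← he]
      exact hnormT v (hTM hv) t ht
    have h2 : u * v * u⁻¹ * v⁻¹ ∈ T :=
      mul_mem (d.normalize_of_setStab (hAM hu).1 (hAM hu).2 hv) (inv_mem hv)
    calc u * v = (u * v * u⁻¹ * v⁻¹) * (v * u) := by group
      _ = v * u := by rw [hdis _ h1 h2, one_mul]
  · intro u hu v hv
    exact congrArg Subtype.val (IsPGroup.commutative_of_card_eq_prime_sq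
      (show Nat.card T = 2 ^ 2 by rw [hT4]; norm_num) (⟨u, hu⟩ : T) ⟨v, hv⟩)
  · intro u hu hu2
    exact (hC u hu hu2).trans (by rw [hT4])
  · refine ⟨fun h t ht => ?_, ?_⟩
    · have h1 := h _ ⟨t, ht, rfl⟩
      rw [← map_mul] at h1
      exact (MulAut.conj g).injective (h1.trans (map_one (MulAut.conj g)).symm)
    · rintro h _ ⟨t, ht, rfl⟩
      rw [← map_mul, h t ht, map_one]

/-- **The prime two.** -/
theorem two [IsSimpleGroup G] [FaithfulSMul G Ω] [IsPretransitive G Ω] (hna : ¬ IsMulCommutative G)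
    (hperf : commutator G = ⊤) (hs : Small G Ω) (P : Sylow 2 G) {f : ℕ}
    (hf : ∀ g : G, orderOf g = 2 → (fixedBy Ω g).ncard ≤ f)
    (hf' : ∃ g : G, orderOf g = 2 ∧ (fixedBy Ω g).ncard = f)
    (hex : ∃ (g : G) (a : Ω), orderOf g = 2 ∧ g • a = a) :
    (∃ H : Subgroup G, Cfsg.IsStronglyEmbedded H) ∨
      (f ≤ 3 ∧ ((∃ n : ℕ, Nonempty ((P : Subgroup G) ≃* DihedralGroup n)) ∨
        Cfsg.IsQuasiDihedral (P : Subgroup G))) ∨
      (f = 4 ∧ Cfsg.SectionalPRankLE 2 4 (P : Subgroup G)) := by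
  classical
  haveI : Fact (Nat.Prime 2) := ⟨Nat.prime_two⟩
  set Q := (P : Subgroup G) with hQdef
  have hQ : IsPGroup 2 Q := P.isPGroup'
  obtain ⟨g₀, a₀, hg₀, hga₀⟩ := hex
  have hfle : f ≤ 4 := by
    obtain ⟨g, hg, rfl⟩ := hf'
    exact hs g fun h => by rw [h, orderOf_one] at hg; omega
  have hfour : ∀ t : G, orderOf t = 2 → 4 ≤ (fixedBy Ω t).ncard → f = 4 := fun t ht h =>
    le_antisymm hfle (h.trans (hf t ht))
  have hsmall : (∃ x ∈ Q, orderOf x = 2 ∧
      Nat.card (Q ⊓ Subgroup.centralizer ({x} : Set G) : Subgroup G) ≤ 4) →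
      (f ≤ 3 ∧ ((∃ n : ℕ, Nonempty (Q ≃* DihedralGroup n)) ∨ Cfsg.IsQuasiDihedral Q)) ∨
        (f = 4 ∧ Cfsg.SectionalPRankLE 2 4 Q) := by
    rintro ⟨x, hx, hx2, hC⟩
    obtain ⟨h1, h2⟩ := dihedral_of_four hna P hx hx2 hC
    by_cases h : f = 4
    · exact Or.inr ⟨h, h2⟩
    · exact Or.inl ⟨by omega, h1⟩
  have hQne : Q ≠ ⊥ := P.ne_bot_of_dvd_card (hg₀ ▸ orderOf_dvd_natCard g₀)
  rcases (fixSet (Ω := Ω) Q).eq_empty_or_nonempty with hF0 | hne
  swap
  · by_cases hall : ∀ y ∈ Q, y ≠ 1 → fixedBy Ω y = fixSet Q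
    · obtain ⟨H, hH, hPH, hodd⟩ := strongly_embedded P hQne hne hall
      refine Or.inl ⟨H, hH, even_iff_two_dvd.2 ?_, fun g hg => ?_⟩
      · obtain ⟨y, hy, hy2⟩ := exists_order_eq hQ hQne
        exact hy2 ▸ Subgroup.orderOf_dvd_natCard _ (hPH hy)
      · rw [← Nat.not_even_iff_odd, even_iff_two_dvd]
        exact hodd g hg
    push Not at hall
    obtain ⟨y, hy, hy1, hyF⟩ := hall
    obtain ⟨T, D, d, -, hDF, -⟩ := caseA (by norm_num) hs hQ hne hy hy1 hyF
    refine Or.inr (hsmall (small_of_config2 hperf P d hDF fun u hu hu1 c _ _ => ?_))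
    rw [Set.ncard_sdiff (fixSet_subset hu) (Set.toFinite _)]
    have h1 := hs u hu1
    have h2 : 0 < (fixSet (Ω := Ω) (P : Subgroup G)).ncard := (Set.ncard_pos (Set.toFinite _)).2 hne
    omega
  obtain ⟨b, hb⟩ := exists_max_point P a₀
  set T := Q ⊓ stabilizer G b with hTdef
  have m : Max Q T b 2 := ⟨hTdef, hb⟩
  have hTne : T ≠ ⊥ := by
    obtain ⟨h, -, hh⟩ := hb (Subgroup.zpowers g₀) a₀
      (IsPGroup.of_card (n := 1) (by rw [Nat.card_zpowers, hg₀, pow_one]))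
      (fun r hr => by
        obtain ⟨k, rfl⟩ := Subgroup.mem_zpowers_iff.1 hr
        exact Subgroup.zpow_mem (stabilizer G a₀) hga₀ k)
    intro hbot
    have hm : h * g₀ * h⁻¹ ∈ T := hh g₀ (Subgroup.mem_zpowers g₀)
    rw [hbot, Subgroup.mem_bot, conj_eq_one_iff] at hm
    rw [hm, orderOf_one] at hg₀
    omega
  have hbD : b ∈ fixSet (Ω := Ω) T := fun t ht => ht.2
  have hTQ : T ≠ Q := fun h => by
    have : b ∈ fixSet (Ω := Ω) Q := fun y hy => (h.ge hy).2
    rw [hF0] at this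
    exact this
  obtain ⟨O, -, hO2, -, hOsub, -, -, -⟩ := exists_orbit hQ inf_le_left hTQ
    (b := b) (fun y hy => ⟨fun h => h.2, fun h => ⟨hy, h⟩⟩)
  obtain ⟨t₀, ht₀, ht₀2⟩ := exists_order_eq (hQ.to_le inf_le_left : IsPGroup 2 T) hTne
  have ht₀1 : t₀ ≠ 1 := fun h => by rw [h, orderOf_one] at ht₀2; omega
  have hD4 : (fixSet (Ω := Ω) T).ncard ≤ 4 :=
    (Set.ncard_le_ncard (fixSet_subset ht₀) (Set.toFinite _)).trans (hs t₀ ht₀1)
  have hD2 : 2 ≤ (fixSet (Ω := Ω) T).ncard := hO2.trans (Set.ncard_le_ncard hOsub (Set.toFinite _))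
  have heven : Nat.card Ω ≡ 0 [MOD 2] := by
    have h := modEq_fixSet (Ω := Ω) hQ
    rwa [hF0, Set.ncard_empty] at h
  have hDe : (fixSet (Ω := Ω) T).ncard % 2 = 0 :=
    (modEq_fixSet (Ω := Ω) (hQ.to_le inf_le_left : IsPGroup 2 T)).symm.trans heven
  have hmk : (∀ t ∈ T, t ≠ 1 → fixedBy Ω t = fixSet T) → Config Q T ∅ (fixSet (Ω := Ω) T) := fun hex =>
    { le := inf_le_left
      ne_bot := hTne
      mem_F := fun a => ⟨fun h => absurd h (Set.notMem_empty a), fun h => hF0 ▸ h⟩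
      sub := Set.empty_subset _
      exact_fix := hex
      stab := fun c hc _ y hy hyc => m.stab hQ hc hy hyc
      moved := ⟨b, hbD, Set.notMem_empty b⟩ }
  obtain hD | hD : (fixSet (Ω := Ω) T).ncard = 4 ∨ (fixSet (Ω := Ω) T).ncard = 2 := by omega
  · have d := hmk fun t ht ht1 => hs.eq_of_four ht1 (fixSet_subset ht) hD.ge
    rcases four_config hna hperf hs P m d hD with h | h
    · exact Or.inl h
    · refine Or.inr (Or.inr ⟨hfour t₀ ht₀2 ?_, h⟩)
      rw [d.exact_fix t₀ ht₀ ht₀1, hD]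
  by_cases hbig : ∀ t ∈ T, t ≠ 1 → (fixedBy Ω t).ncard ≤ 2
  · have d := hmk fun t ht ht1 =>
      (Set.eq_of_subset_of_ncard_le (fixSet_subset ht) (hD ▸ hbig t ht ht1) (Set.toFinite _)).symm
    refine Or.inr (hsmall (small_of_config2 hperf P d (by rw [Set.sdiff_empty, hD]) fun u hu hu1 c _ hc => ?_))
    obtain ⟨h, -, hh⟩ := m.exists_conj hQ hu hc
    rw [Set.sdiff_empty, ← ncard_fixedBy_conj h]
    exact (hbig _ hh fun e => hu1 (conj_eq_one_iff.1 e)).trans (by norm_num)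
  push Not at hbig
  obtain ⟨t, ht, ht1, htn⟩ := hbig
  obtain ⟨k, hk⟩ := exists_pow_order (hQ.to_le inf_le_left : IsPGroup 2 T) ht ht1
  have hk1 : t ^ k ≠ 1 := fun h => by rw [h, orderOf_one] at hk; omega
  have h4 : (fixedBy Ω (t ^ k)).ncard = 4 := by
    have h1 := Set.ncard_le_ncard (fixedBy_pow_le (Ω := Ω) t k) (Set.toFinite _)
    have h2 := hs _ hk1
    have h3 : (fixedBy Ω (t ^ k)).ncard % 2 = 0 := (modEq_fixedBy (Ω := Ω) hk).symm.trans heven
    omega
  exact Or.inr (Or.inr ⟨hfour _ hk h4.ge, pair_rank hperf hs P m hF0 hD (pow_mem ht k) hk1 h4⟩)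

end CfsgLib.Fixity
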